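import Cfsg.Agent.Lib.Known.DBounded.Pres
import Cfsg.Agent.Lib.Known.SLBounded.Seven
import Cfsg.Agent.Lib.Known.SLBounded.All
import Cfsg.Agent.Lib.Classical.SL2Pair
import Cfsg.Agent.Lib.Classical.Quad.POmega

/-!
# Bounded presentations of `Ω⁺` and `PΩ⁺`
-/

set_option autoImplicit false

namespace CfsgLib.Known.DBounded

open Matrix (SpecialLinearGroup)
open CfsgLib.Known.SpBounded (tA xp xm wS hd smul_eq_mv)
open scoped commutatorElement

variable {F : Type*} [Field F] {k : ℕ}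

theorem blocks_comm (A : SpecialLinearGroup (Fin 2) F) (B : SpecialLinearGroup (Fin (k + 2)) F) :
    Commute (b01 F k A) (bR F k B) := by
  refine (Subgroup.mem_centralizer_singleton_iff.1 (mem_of_gens2
    ((Subgroup.centralizer {bR F k B}).comap (b01 F k)) (fun t => ?_) (fun t => ?_) A))
  · refine Subgroup.mem_centralizer_singleton_iff.2 ?_
    rw [b01_xp]
    exact (comm_tA (mv_bR B).1 (mv_bR B).2 n01 t).eq.symm
  · refine Subgroup.mem_centralizer_singleton_iff.2 ?_
    rw [b01_xm]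
    exact (comm_tA (mv_bR B).2 (mv_bR B).1 n01.symm t).eq.symm

/-- the two blocks together -/
def blocks (F : Type*) [Field F] (k : ℕ) :
    SpecialLinearGroup (Fin 2) F × SpecialLinearGroup (Fin (k + 2)) F →* SpecialLinearGroup (Fin (k + 4)) F :=
  MonoidHom.noncommCoprod (b01 F k) (bR F k) blocks_comm

theorem blocks_apply (A : SpecialLinearGroup (Fin 2) F) (B : SpecialLinearGroup (Fin (k + 2)) F) :
    blocks F k (A, B) = b01 F k A * bR F k B := rfl

theorem eq_top_of_noncentral [Finite F] {n : ℕ} (hn : 3 ≤ n) (N : Subgroup (SpecialLinearGroup (Fin n) F))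
    [N.Normal] {g : SpecialLinearGroup (Fin n) F} (hg : g ∈ N)
    (hgc : g ∉ Subgroup.center (SpecialLinearGroup (Fin n) F)) : N = ⊤ := by
  have hsimp := CfsgLib.Classical.isSimpleGroup_PSL (F := F) hn
  let π := QuotientGroup.mk' (Subgroup.center (SpecialLinearGroup (Fin n) F))
  have hN' : (N.map π).Normal := Subgroup.Normal.map inferInstance π (QuotientGroup.mk'_surjective _)
  rcases hsimp.eq_bot_or_eq_top_of_normal (N.map π) hN' with h | h
  · exfalso
    apply hgc
    have : π g ∈ N.map π := ⟨g, hg, rfl⟩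
    rw [h, Subgroup.mem_bot] at this
    exact (QuotientGroup.eq_one_iff g).1 this
  · rw [eq_top_iff, ← CfsgLib.Classical.commutator_SL_eq_top hn, commutator_def, Subgroup.commutator_le]
    have hx : ∀ x, ∃ a ∈ N, ∃ z ∈ Subgroup.center (SpecialLinearGroup (Fin n) F), x = a * z := fun x => by
      obtain ⟨a, ha, hax⟩ : π x ∈ N.map π := h ▸ Subgroup.mem_top _
      exact ⟨a, ha, a⁻¹ * x, QuotientGroup.eq.1 hax, (mul_inv_cancel_left a x).symm⟩
    rintro x - y -
    obtain ⟨a, ha, z, hz, rfl⟩ := hx x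
    obtain ⟨b, hb, z', hz', rfl⟩ := hx y
    have c1 : Commute z (b * z') := (Subgroup.mem_center_iff.1 hz _).symm
    have c2 : Commute z' a := (Subgroup.mem_center_iff.1 hz' _).symm
    have e : ⁅a * z, b * z'⁆ = a * b * a⁻¹ * b⁻¹ := by
      rw [commutatorElement_def]
      calc a * z * (b * z') * (a * z)⁻¹ * (b * z')⁻¹ = a * (z * (b * z') * z⁻¹) * a⁻¹ * (b * z')⁻¹ := by group
        _ = a * (b * z') * a⁻¹ * (b * z')⁻¹ := by rw [c1.eq, mul_inv_cancel_right]
        _ = a * b * (z' * a⁻¹ * z'⁻¹) * b⁻¹ := by group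
        _ = _ := by rw [c2.inv_right.eq, mul_inv_cancel_right]
    rw [e]
    exact N.mul_mem (N.mul_mem (N.mul_mem ha hb) (N.inv_mem ha)) (N.inv_mem hb)

theorem eq_top_of_xp_one [Finite F] (N : Subgroup (SpecialLinearGroup (Fin 2) F)) [hN : N.Normal]
    (h : xp (1 : F) ∈ N) : N = ⊤ := by
  have hp : ∀ t, xp t ∈ N := SpBounded.forall_of_sq (fun s t hs ht => by
      rw [← SpBounded.xp_add]; exact N.mul_mem hs ht) fun a => by
    rcases eq_or_ne a 0 with rfl | ha
    · rw [mul_zero, SpBounded.xp_zero]; exact N.one_mem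
    · have := hN.conj_mem _ h (hd a ha)
      rw [SpBounded.hd_xp, mul_inv_cancel_right, mul_one] at this
      exact this
  refine (Subgroup.eq_top_iff' N).2 (mem_of_gens2 N hp fun t => ?_)
  have := hN.conj_mem _ (hp (-t)) (wS F)
  suffices e : xm t = wS F * xp (-t) * (wS F)⁻¹ by rw [e]; exact this
  rw [eq_mul_inv_iff_mul_eq]
  refine Subtype.ext ?_
  rw [Matrix.SpecialLinearGroup.coe_mul, Matrix.SpecialLinearGroup.coe_mul, SpBounded.xm_coe, SpBounded.wS_coe,
    SpBounded.xp_coe]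
  ext a b
  fin_cases a <;> fin_cases b <;> simp

/-- a subgroup of a product with full projections has normal sections -/
theorem section_normal {A B : Type*} [Group A] [Group B] (H : Subgroup (A × B)) (h : ∀ b, ∃ a, (a, b) ∈ H) :
    ((H.comap (MonoidHom.inr A B))).Normal := by
  refine ⟨fun b hb g => ?_⟩
  obtain ⟨a, ha⟩ := h g
  have := H.mul_mem (H.mul_mem ha (show ((1 : A), b) ∈ H from hb)) (H.inv_mem ha)
  simp only [Prod.mk_mul_mk, Prod.inv_mk, mul_one, mul_inv_cancel] at this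
  exact this

theorem section_normal' {A B : Type*} [Group A] [Group B] (H : Subgroup (A × B)) (h : ∀ a, ∃ b, (a, b) ∈ H) :
    ((H.comap (MonoidHom.inl A B))).Normal := by
  refine ⟨fun b hb g => ?_⟩
  obtain ⟨a, ha⟩ := h g
  have := H.mul_mem (H.mul_mem ha (show (b, (1 : B)) ∈ H from hb)) (H.inv_mem ha)
  simp only [Prod.mk_mul_mk, Prod.inv_mk, mul_one, mul_inv_cancel] at this
  exact this

theorem proj_top {A B : Type*} [Group A] [Group B] (H : Subgroup (A × B)) {x : Fin 2 → A} {y : Fin 2 → B}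
    (hx : Subgroup.closure (Set.range x) = ⊤) (hy : Subgroup.closure (Set.range y) = ⊤)
    (h : ∀ i, (x i, y i) ∈ H) : (∀ a, ∃ b, (a, b) ∈ H) ∧ ∀ b, ∃ a, (a, b) ∈ H := by
  refine ⟨fun a => ?_, fun b => ?_⟩
  · have hle : Subgroup.closure (Set.range x) ≤ H.map (MonoidHom.fst A B) :=
      (Subgroup.closure_le _).2 (by rintro _ ⟨i, rfl⟩; exact ⟨_, h i, rfl⟩)
    obtain ⟨⟨a', b⟩, hab, rfl⟩ := hle (hx ▸ Subgroup.mem_top a)
    exact ⟨b, hab⟩
  · have hle : Subgroup.closure (Set.range y) ≤ H.map (MonoidHom.snd A B) :=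
      (Subgroup.closure_le _).2 (by rintro _ ⟨i, rfl⟩; exact ⟨_, h i, rfl⟩)
    obtain ⟨⟨a, b'⟩, hab, rfl⟩ := hle (hy ▸ Subgroup.mem_top b)
    exact ⟨a, hab⟩

theorem prod_top {A B : Type*} [Group A] [Group B] (H : Subgroup (A × B)) (h : ∀ a, ∃ b, (a, b) ∈ H)
    (hB : ∀ b, ((1 : A), b) ∈ H) : H = ⊤ := by
  refine (Subgroup.eq_top_iff' H).2 fun p => ?_
  obtain ⟨b, hb⟩ := h p.1
  have := H.mul_mem hb (hB (b⁻¹ * p.2))
  rwa [Prod.mk_mul_mk, mul_one, mul_inv_cancel_left] at this

theorem two_gens_top [Finite F] {j : ℕ} (H : Subgroup (SpecialLinearGroup (Fin 2) F × SpecialLinearGroup (Fin (j + 3)) F))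
    (h1 : ∀ a, ∃ b, (a, b) ∈ H) (h2 : ∀ b, ∃ a, (a, b) ∈ H) : H = ⊤ := by
  haveI : Fintype F := Fintype.ofFinite F
  have i01 : (0 : Fin (j + 3)) ≠ 1 := by simp [Fin.ext_iff]
  have i02 : (0 : Fin (j + 3)) ≠ 2 := by simp [Fin.ext_iff, Nat.mod_eq_of_lt (show 2 < j + 3 by omega)]
  have i12 : (1 : Fin (j + 3)) ≠ 2 := by simp [Fin.ext_iff, Nat.mod_eq_of_lt (show 2 < j + 3 by omega)]
  choose f hf using h2
  let u : F × F × F → SpecialLinearGroup (Fin (j + 3)) F := fun p =>
    tA i02 p.2.1 * tA i01 p.1 * tA i12 p.2.2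
  have hcard : Nat.card (SpecialLinearGroup (Fin 2) F) < Nat.card (F × F × F) := by
    rw [CfsgLib.Classical.SL2Pair.card_SL_two, Nat.card_prod, Nat.card_prod, Nat.card_eq_fintype_card]
    have h2 : 2 ≤ Fintype.card F := Fintype.one_lt_card
    refine Nat.mul_lt_mul_of_pos_left ?_ (by omega)
    rw [pow_two]
    exact Nat.sub_lt (by positivity) one_pos
  obtain ⟨p, q, hne, he⟩ : ∃ p q, p ≠ q ∧ f (u p) = f (u q) := by
    by_contra hcon
    push_neg at hcon
    have hinj : Function.Injective fun p => f (u p) := fun p q h => by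
      by_contra hpq
      exact hcon p q hpq h
    have := Nat.card_le_card_of_injective _ hinj
    omega
  have e0 : ∀ p, u p • (Pi.single 0 1 : Fin (j + 3) → F) = Pi.single 0 1 := fun p => by
    simp [u, mul_smul, smul_tA, Pi.single_apply, i01, i02, i12, i01.symm, i02.symm, i12.symm]
  have e1 : ∀ p, u p • (Pi.single 1 1 : Fin (j + 3) → F) = Pi.single 1 1 + p.1 • Pi.single 0 1 := fun p => by
    simp [u, mul_smul, smul_tA, Pi.single_apply, i01, i02, i12, i01.symm, i02.symm, i12.symm]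
  have e2 : ∀ p, u p • (Pi.single 2 1 : Fin (j + 3) → F) =
      Pi.single 2 1 + p.2.2 • Pi.single 1 1 + (p.1 * p.2.2) • Pi.single 0 1 + p.2.1 • Pi.single 0 1 := fun p => by
    simp [u, mul_smul, smul_tA, Pi.single_apply, i01, i02, i12, i01.symm, i02.symm, i12.symm]
    abel
  have hN := section_normal H (fun b => ⟨f b, hf b⟩)
  have hmem : (u p)⁻¹ * u q ∈ H.comap (MonoidHom.inr _ _) := by
    have := H.mul_mem (H.inv_mem (hf (u p))) (hf (u q))
    simp only [Prod.inv_mk, Prod.mk_mul_mk, he, inv_mul_cancel] at this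
    exact this
  have hnc : (u p)⁻¹ * u q ∉ Subgroup.center (SpecialLinearGroup (Fin (j + 3)) F) := by
    intro hc
    obtain ⟨r, -, hr⟩ := Matrix.SpecialLinearGroup.mem_center_iff.1 hc
    have hs : ∀ x : Fin (j + 3) → F, ((u p)⁻¹ * u q) • x = r • x := fun x => by
      rw [← smul_eq_mv, ← hr]
      funext i
      simp [Matrix.scalar_apply, Matrix.mulVec_diagonal]
    have hr1 : r = 1 := by
      have h := hs (Pi.single 0 1)
      rw [mul_smul, e0, inv_smul_eq_iff.2 (e0 p).symm] at h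
      have := congrFun h 0
      simpa using this.symm
    have heq : ∀ x : Fin (j + 3) → F, u q • x = u p • x := fun x => by
      have h := hs x
      rwa [hr1, one_smul, mul_smul, inv_smul_eq_iff] at h
    apply hne
    have a1 := congrFun (heq (Pi.single 1 1)) 0
    have b2 := congrFun (heq (Pi.single 2 1)) 0
    have b1 := congrFun (heq (Pi.single 2 1)) 1
    rw [e1, e1] at a1
    rw [e2, e2] at b2 b1
    simp [Pi.single_apply, i01, i02, i12, i01.symm, i02.symm, i12.symm] at a1 b2 b1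
    rw [a1, b1, add_right_inj] at b2
    exact Prod.ext a1.symm (Prod.ext b2.symm b1.symm)
  have hB := eq_top_of_noncentral (by omega) _ hmem hnc
  exact prod_top H h1 fun b => hB.ge (Subgroup.mem_top b)

theorem exists_pair_fun [Finite F] (n : ℕ) (hn : 1 ≤ n) :
    ∃ b : Fin 2 → SpecialLinearGroup (Fin (n + 1)) F, Subgroup.closure (Set.range b) = ⊤ := by
  obtain ⟨x, y, h⟩ := SLBounded.exists_pair (F := F) n hn
  refine ⟨![x, y], ?_⟩
  rw [Matrix.range_cons, Matrix.range_cons, Matrix.range_empty, Set.union_empty, Set.singleton_union]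
  exact h

theorem closure_map_list {P K : Type*} [Group P] [Group K] (f : P →* K) (l : List P)
    (h : Subgroup.closure {p | p ∈ l} = ⊤) (x : P) : f x ∈ Subgroup.closure {c | c ∈ l.map f} := by
  have hle : Subgroup.closure {p | p ∈ l} ≤ (Subgroup.closure {c | c ∈ l.map f}).comap f :=
    (Subgroup.closure_le _).2 fun p hp => Subgroup.subset_closure (List.mem_map_of_mem hp)
  exact hle (h ▸ Subgroup.mem_top x)

/-- few elements generating both blocks -/
theorem exists_gens [Finite F] (k : ℕ) :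
    ∃ l : List (SpecialLinearGroup (Fin 2) F × SpecialLinearGroup (Fin (k + 2)) F),
      l.length ≤ (if k = 0 then 3 else 2) ∧ Subgroup.closure {p | p ∈ l} = ⊤ := by
  obtain ⟨a, ha⟩ := exists_pair_fun (F := F) 1 le_rfl
  rcases Nat.eq_zero_or_pos k with rfl | hk
  · refine ⟨[(xp 1, 1), (a 0, a 0), (a 1, a 1)], by simp, ?_⟩
    generalize hH : Subgroup.closure {p | p ∈ [((xp (1 : F), (1 : SpecialLinearGroup (Fin 2) F))), (a 0, a 0), (a 1, a 1)]}
      = H
    have hx : (xp (1 : F), (1 : SpecialLinearGroup (Fin 2) F)) ∈ H := hH ▸ Subgroup.subset_closure List.mem_cons_self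
    have hp : ∀ i, (a i, a i) ∈ H := fun i => hH ▸ Subgroup.subset_closure (by
      fin_cases i
      · exact List.mem_cons_of_mem _ List.mem_cons_self
      · exact List.mem_cons_of_mem _ (List.mem_cons_of_mem _ List.mem_cons_self))
    obtain ⟨h1, -⟩ := proj_top H ha ha hp
    haveI := section_normal' H h1
    have hA := eq_top_of_xp_one (H.comap (MonoidHom.inl (SpecialLinearGroup (Fin 2) F) (SpecialLinearGroup (Fin 2) F)))
      (show ((xp (1 : F)), (1 : SpecialLinearGroup (Fin 2) F)) ∈ H from hx)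
    have hA' : ∀ g : SpecialLinearGroup (Fin 2) F, (g, (1 : SpecialLinearGroup (Fin 2) F)) ∈ H := fun g =>
      hA.ge (Subgroup.mem_top g)
    refine prod_top H h1 fun b => ?_
    have hle : Subgroup.closure (Set.range a) ≤ H.comap (MonoidHom.inr _ _) :=
      (Subgroup.closure_le _).2 (by
        rintro _ ⟨i, rfl⟩
        have h := H.mul_mem (H.inv_mem (hA' (a i))) (hp i)
        simp only [Prod.inv_mk, Prod.mk_mul_mk, inv_mul_cancel, inv_one, one_mul] at h
        exact h)
    exact hle (ha ▸ Subgroup.mem_top b)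
  · obtain ⟨j, rfl⟩ : ∃ j, k = j + 1 := ⟨k - 1, by omega⟩
    obtain ⟨b, hb⟩ := exists_pair_fun (F := F) (j + 2) (by omega)
    refine ⟨[(a 0, b 0), (a 1, b 1)], by simp, ?_⟩
    generalize hH : Subgroup.closure {p | p ∈ [(a 0, b 0), (a 1, b 1)]} = H
    have hp : ∀ i, (a i, b i) ∈ H := fun i => hH ▸ Subgroup.subset_closure (by
      fin_cases i
      · exact List.mem_cons_self
      · exact List.mem_cons_of_mem _ List.mem_cons_self)
    obtain ⟨h1, h2⟩ := proj_top H ha hb hp
    exact two_gens_top (j := j) H h1 h2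

/-- few commutation words -/
theorem exists_words [Finite F] (k : ℕ) :
    ∃ S : List (SpecialLinearGroup (Fin (k + 4)) F), S.length ≤ (if k = 0 then 3 else 2) ∧
      (∀ A B, b01 F k A * bR F k B ∈ Subgroup.closure {c | c ∈ S}) ∧
      ∀ c ∈ S, ∃ A B, c = b01 F k A * bR F k B := by
  obtain ⟨l, hl, hgen⟩ := exists_gens (F := F) k
  refine ⟨l.map (blocks F k), by rwa [List.length_map], fun A B => ?_, fun c hc => ?_⟩
  · rw [← blocks_apply]
    exact closure_map_list (blocks F k) l hgen (A, B)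
  · obtain ⟨⟨A, B⟩, -, rfl⟩ := List.mem_map.1 hc
    exact ⟨A, B, blocks_apply A B⟩

theorem isCyclic_center [Finite F] {m : ℕ} (hm : 4 ≤ m) :
    IsCyclic (Subgroup.center (Cfsg.Omega F (Cfsg.quadFormPlus m F))) := by
  classical
  have hQ := CfsgLib.Classical.Quad.qPlus_nondeg (F := F) m
  have h5 : 5 ≤ Module.finrank F (Fin m ⊕ Fin m → F) := by rw [Module.finrank_pi]; simp; omega
  have h := CfsgLib.Classical.Quad.card_center_Omega hQ h5
    (CfsgLib.Classical.Quad.negIsom hQ ∈ commutator (CfsgLib.Classical.Quad.OQ _) ∧ (2 : F) ≠ 0) Iff.rfl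
  rw [← Nat.card_congr (Subgroup.centerCongr (CfsgLib.Classical.Quad.omegaEquiv _)).toEquiv] at h
  rw [← CfsgLib.Classical.Quad.coe_qPlus]
  split_ifs at h
  · haveI : Fact (Nat.Prime 2) := ⟨Nat.prime_two⟩
    exact isCyclic_of_prime_card h
  · haveI := (Nat.card_eq_one_iff_unique.1 h).1
    infer_instance

/-- the presentations on eight generators -/
theorem omega_eight [Finite F] {n : ℕ} (hn : 4 ≤ n) :
    ∃ R : Finset (FreeGroup (Fin 8)), R.card ≤ (if n ≤ 5 then 29 else 31) ∧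
      Nonempty (PresentedGroup (↑R : Set (FreeGroup (Fin 8))) ≃* ↥(Cfsg.Omega F (Cfsg.quadFormPlus n F))) := by
  classical
  obtain ⟨k, rfl⟩ : ∃ k, n = k + 4 := ⟨n - 4, by omega⟩
  obtain ⟨R6, h6, ⟨e6⟩⟩ := SLBounded.sl_six (F := F) hn
  obtain ⟨S, hS, hS1, hS2⟩ := exists_words (F := F) k
  obtain ⟨R, hR, ⟨e⟩⟩ := exists_pres R6 e6 S hS1 hS2
  obtain ⟨R', hR', ⟨e'⟩⟩ := SLBounded.pad_gen R e
  let σ : Option (Fin 6 ⊕ Unit) ≃ Fin 8 :=
    (Equiv.optionCongr ((Equiv.optionEquivSumPUnit (Fin 6)).symm.trans (finSuccEquiv 6).symm)).trans (finSuccEquiv 7).symm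
  obtain ⟨R8, h8, e8⟩ := SLBounded.reindex_pres σ R' e'
  refine ⟨R8, ?_, e8⟩
  split_ifs at h6 hS ⊢ <;> omega

/-- the projective group costs one more relation -/
theorem pomega_pres [Finite F] {m : ℕ} (hm : 4 ≤ m) {α : Type*} (R : Finset (FreeGroup α))
    (e : PresentedGroup (↑R : Set (FreeGroup α)) ≃* ↥(Cfsg.Omega F (Cfsg.quadFormPlus m F))) :
    ∃ R' : Finset (FreeGroup α), R'.card ≤ R.card + 1 ∧
      Nonempty (PresentedGroup (↑R' : Set (FreeGroup α)) ≃* Cfsg.POmega F (Cfsg.quadFormPlus m F)) :=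
  SLBounded.quot_pres R e _ (isCyclic_center hm)

end CfsgLib.Known.DBounded
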