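import Cfsg.Agent.Lib.Known.DBounded.Move

/-!
# One more element over `SL` gives all the relations
-/

set_option autoImplicit false

namespace CfsgLib.Known.DBounded

open Matrix (SpecialLinearGroup)
open CfsgLib.Known.SpBounded (tA xp xm wS hd wS_sq xp_add xm_add)

variable {F : Type*} [Field F] {k : ℕ} {G : Type*} [Group G]

/-- the word in `ψ` and one element standing for a rank one group -/
def phiOf (ψ : SpecialLinearGroup (Fin (k + 4)) F →* G) (r : G) : SpecialLinearGroup (Fin 2) F →* G :=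
  (MulAut.conj r).toMonoidHom.comp (ψ.comp (b20 F k))

theorem phiOf_apply (ψ : SpecialLinearGroup (Fin (k + 4)) F →* G) (r : G) (M : SpecialLinearGroup (Fin 2) F) :
    phiOf ψ r M = r * ψ (b20 F k M) * r⁻¹ := rfl

/-- the relations on the element -/
structure Glue (F : Type*) [Field F] (k : ℕ) (G : Type*) [Group G] where
  ψ : SpecialLinearGroup (Fin (k + 4)) F →* G
  r : G
  blk : ∀ A B, Commute r (ψ (b01 F k A * bR F k B))
  sq : r * r = ψ (SpecialLinearGroup.diag2n n01 (-1) (neg_ne_zero.2 one_ne_zero))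
  braid : r = ψ (Pm F k) * phiOf ψ r (wS F) * (ψ (Pm F k))⁻¹
  c2 : Commute (phiOf ψ r (xp 1)) (ψ (tA n12 1))
  c3 : Commute (phiOf ψ r (xp 1)) (ψ (tA (n03 (k := k)).symm 1))

theorem sq_act {m : ℕ} {i j a : Fin m} (h : i ≠ j) (ha : a ≠ i) (ha' : a ≠ j) (t : F) :
    (SpecialLinearGroup.diag2n h (-1) (neg_ne_zero.2 one_ne_zero) * tA (Ne.symm ha) t =
      tA (Ne.symm ha) (-t) * SpecialLinearGroup.diag2n h (-1) (neg_ne_zero.2 one_ne_zero)) ∧
    (SpecialLinearGroup.diag2n h (-1) (neg_ne_zero.2 one_ne_zero) * tA (Ne.symm ha') t =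
      tA (Ne.symm ha') (-t) * SpecialLinearGroup.diag2n h (-1) (neg_ne_zero.2 one_ne_zero)) ∧
    (SpecialLinearGroup.diag2n h (-1) (neg_ne_zero.2 one_ne_zero) * tA ha t =
      tA ha (-t) * SpecialLinearGroup.diag2n h (-1) (neg_ne_zero.2 one_ne_zero)) ∧
    (SpecialLinearGroup.diag2n h (-1) (neg_ne_zero.2 one_ne_zero) * tA ha' t =
      tA ha' (-t) * SpecialLinearGroup.diag2n h (-1) (neg_ne_zero.2 one_ne_zero)) := by
  refine ⟨?_, ?_, ?_, ?_⟩ <;> refine CfsgLib.Classical.sl_ext_smul fun x => funext fun l => ?_ <;>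
    simp only [tA, mul_smul, CfsgLib.Classical.transvection_smul_apply, CfsgLib.Classical.diag2n_smul_apply] <;>
    by_cases h1 : l = i <;> by_cases h2 : l = j <;> by_cases h3 : l = a <;>
    simp_all [Ne.symm h, inv_neg] <;> ring

theorem forall_pair_of_sq [Finite F] {P : F → F → Prop} (h0 : ∀ s, P s 0)
    (hadd : ∀ t s s', P s t → P s' t → P (s + s') t)
    (hsc : ∀ t u : F, t ≠ 0 → u ≠ 0 → P (u * u * t) t) (s t : F) : P s t := by
  rcases eq_or_ne t 0 with rfl | ht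
  · exact h0 s
  have hz : P 0 t := by
    haveI : Fintype F := Fintype.ofFinite F
    obtain ⟨a, b, hab⟩ := CfsgLib.Classical.exists_sum_two_sq (-1 : F)
    rcases eq_or_ne a 0 with rfl | ha
    · rcases eq_or_ne b 0 with rfl | hb
      · exact absurd hab (by simp)
      · have e := hadd t _ _ (hsc t 1 ht one_ne_zero) (hsc t b ht hb)
        have : 1 * 1 * t + b * b * t = 0 := by linear_combination t * hab
        rwa [this] at e
    · rcases eq_or_ne b 0 with rfl | hb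
      · have e := hadd t _ _ (hsc t 1 ht one_ne_zero) (hsc t a ht ha)
        have : 1 * 1 * t + a * a * t = 0 := by linear_combination t * hab
        rwa [this] at e
      · have e := hadd t _ _ (hadd t _ _ (hsc t 1 ht one_ne_zero) (hsc t a ht ha)) (hsc t b ht hb)
        have : 1 * 1 * t + a * a * t + b * b * t = 0 := by linear_combination t * hab
        rwa [this] at e
  have key : ∀ z : F, P (z * t) t := SpBounded.forall_of_sq (fun a b ha hb => by rw [add_mul]; exact hadd t _ _ ha hb)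
    fun u => by
      rcases eq_or_ne u 0 with rfl | hu
      · rw [mul_zero, zero_mul]; exact hz
      · exact hsc t u ht hu
  have := key (s / t)
  rwa [div_mul_cancel₀ s ht] at this

namespace Glue

variable (D : Glue F k G)

theorem blk_01 (A : SpecialLinearGroup (Fin 2) F) : Commute D.r (D.ψ (b01 F k A)) := by
  have := D.blk A 1
  rwa [map_one, mul_one] at this

theorem blk_R (B : SpecialLinearGroup (Fin (k + 2)) F) : Commute D.r (D.ψ (bR F k B)) := by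
  have := D.blk 1 B
  rwa [map_one, one_mul] at this

theorem blk_tA {a b : Fin (k + 4)} (h : a ≠ b)
    (h' : ((a = 0 ∨ a = 1) ∧ (b = 0 ∨ b = 1)) ∨ (a ≠ 0 ∧ a ≠ 1 ∧ b ≠ 0 ∧ b ≠ 1)) (t : F) :
    Commute D.r (D.ψ (tA h t)) := by
  rcases h' with ⟨rfl | rfl, rfl | rfl⟩ | ⟨ha0, ha1, hb0, hb1⟩
  · exact absurd rfl h
  · have := D.blk_01 (xp t); rwa [b01_xp] at this
  · have := D.blk_01 (xm t); rwa [b01_xm] at this
  · exact absurd rfl h
  · obtain ⟨a1, rfl⟩ := Fin.exists_succ_eq.2 ha0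
    obtain ⟨b1, rfl⟩ := Fin.exists_succ_eq.2 hb0
    obtain ⟨a2, rfl⟩ := Fin.exists_succ_eq.2 (fun e : a1 = 0 => ha1 (by rw [e]; rfl))
    obtain ⟨b2, rfl⟩ := Fin.exists_succ_eq.2 (fun e : b1 = 0 => hb1 (by rw [e]; rfl))
    have hab : a2 ≠ b2 := fun e => h (by rw [e])
    have := D.blk_R (tA hab t)
    rwa [bR_tA hab h] at this

theorem blk_diag {a b : Fin (k + 4)} (h : a ≠ b)
    (h' : ((a = 0 ∨ a = 1) ∧ (b = 0 ∨ b = 1)) ∨ (a ≠ 0 ∧ a ≠ 1 ∧ b ≠ 0 ∧ b ≠ 1)) {c : F} (hc : c ≠ 0) :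
    Commute D.r (D.ψ (SpecialLinearGroup.diag2n h c hc)) := by
  have h'' : ((b = 0 ∨ b = 1) ∧ (a = 0 ∨ a = 1)) ∨ (b ≠ 0 ∧ b ≠ 1 ∧ a ≠ 0 ∧ a ≠ 1) := by tauto
  have e1 := fun t => D.blk_tA h h' t
  have e2 := fun t => D.blk_tA h.symm h'' t
  simp only [tA] at e1 e2
  rw [CfsgLib.Classical.diag2n_eq_prod h hc]
  simp only [map_mul]
  exact ((((e1 _).mul_right (e2 _)).mul_right (e1 _)).mul_right (e1 _)).mul_right (e2 _) |>.mul_right (e1 _)

/-- the first group -/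
def φ : SpecialLinearGroup (Fin 2) F →* G := phiOf D.ψ D.r

theorem φ_apply (M : SpecialLinearGroup (Fin 2) F) : D.φ M = D.r * D.ψ (b20 F k M) * D.r⁻¹ := rfl

theorem φ_xp (t : F) : D.φ (xp t) = D.r * D.ψ (tA (n02 (k := k)).symm t) * D.r⁻¹ := by rw [φ_apply, b20_xp]

theorem φ_xm (t : F) : D.φ (xm t) = D.r * D.ψ (tA (n02 (k := k)) t) * D.r⁻¹ := by rw [φ_apply, b20_xm]

theorem inv_conj_xm (t : F) : D.r⁻¹ * D.ψ (tA (n02 (k := k)) t) * D.r = D.φ (xm (-t)) := by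
  have e := (sq_act (F := F) (n01 (k := k)) n02.symm n12.symm (-t)).1
  rw [neg_neg] at e
  have e' : D.r * D.r * D.ψ (tA (n02 (k := k)) (-t)) = D.ψ (tA (n02 (k := k)) t) * (D.r * D.r) := by
    rw [D.sq, ← map_mul, ← map_mul]
    exact congrArg D.ψ e
  calc D.r⁻¹ * D.ψ (tA n02 t) * D.r = D.r⁻¹ * (D.ψ (tA n02 t) * (D.r * D.r)) * D.r⁻¹ := by group
    _ = _ := by rw [← e', D.φ_xm]; group

theorem wS_eq : D.φ (wS F) = (D.ψ (Pm F k))⁻¹ * D.r * D.ψ (Pm F k) := by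
  have h : D.r = D.ψ (Pm F k) * D.φ (wS F) * (D.ψ (Pm F k))⁻¹ := D.braid
  conv_rhs => arg 1; arg 2; rw [h]
  group

/-- what commutes with the Weyl element -/
theorem w_comm {a b : Fin (k + 4)} (h : a ≠ b)
    (h' : ((a = 1 ∨ a = 2) ∧ (b = 1 ∨ b = 2)) ∨ (a ≠ 1 ∧ a ≠ 2 ∧ b ≠ 1 ∧ b ≠ 2)) (t : F) :
    Commute (D.φ (wS F)) (D.ψ (tA h t)) := by
  have hne : Pp k a ≠ Pp k b := fun e => h ((Pp k).injective e)
  have i1 : ∀ c, Pp k c = 0 ↔ c = 1 := fun c => by rw [← (Pp k).injective.eq_iff (a := c) (b := 1), Pp_1]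
  have i2 : ∀ c, Pp k c = 1 ↔ c = 2 := fun c => by rw [← (Pp k).injective.eq_iff (a := c) (b := 2), Pp_2]
  have hc := D.blk_tA hne (by simpa [i1, i2] using h') t
  have e : D.ψ (tA h t) = (D.ψ (Pm F k))⁻¹ * D.ψ (tA hne t) * D.ψ (Pm F k) := by
    rw [mul_assoc, ← map_mul, ← conj_tA (mv_Pm a) (mv_Pm b) h hne, map_mul, inv_mul_cancel_left]
  rw [D.wS_eq, e]
  have := hc.map (MulAut.conj (D.ψ (Pm F k))⁻¹).toMonoidHom
  simpa [MulAut.conj_apply] using this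

theorem φ_xm_w (t : F) : D.φ (xm t) = D.φ (wS F) * D.φ (xp (-t)) * (D.φ (wS F))⁻¹ := by
  rw [← map_inv, ← map_mul, ← map_mul]
  congr 1
  rw [eq_mul_inv_iff_mul_eq]
  refine Subtype.ext ?_
  rw [Matrix.SpecialLinearGroup.coe_mul, Matrix.SpecialLinearGroup.coe_mul, SpBounded.xm_coe, SpBounded.wS_coe,
    SpBounded.xp_coe]
  ext a b
  fin_cases a <;> fin_cases b <;> simp

theorem φ_comm (x : G) (hw : Commute (D.φ (wS F)) x) (hp : ∀ t, Commute (D.φ (xp t)) x)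
    (M : SpecialLinearGroup (Fin 2) F) : Commute (D.φ M) x := by
  have hm : ∀ t, Commute (D.φ (xm t)) x := fun t => by
    rw [D.φ_xm_w]; exact (hw.mul_left (hp _)).mul_left hw.inv_left
  refine (Subgroup.mem_centralizer_singleton_iff.1 (mem_of_gens2 ((Subgroup.centralizer {x}).comap D.φ)
    (fun t => ?_) (fun t => ?_) M))
  · exact Subgroup.mem_centralizer_singleton_iff.2 (hp t).eq
  · exact Subgroup.mem_centralizer_singleton_iff.2 (hm t).eq

theorem scale {a0 c : F} (ha : a0 ≠ 0) (hc : c ≠ 0) {i j : Fin (k + 4)} (hij : i ≠ j) {s t t' : F}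
    (he : SpecialLinearGroup.diag2n n01 a0 ha * SpecialLinearGroup.diag2n n23 c hc * tA hij t =
      tA hij t' * (SpecialLinearGroup.diag2n n01 a0 ha * SpecialLinearGroup.diag2n n23 c hc))
    (h : Commute (D.φ (xp s)) (D.ψ (tA hij t))) : Commute (D.φ (xp (c * s / a0))) (D.ψ (tA hij t')) := by
  obtain ⟨C, hC⟩ : ∃ C, C = SpecialLinearGroup.diag2n n01 a0 ha * SpecialLinearGroup.diag2n (n23 (k := k)) c hc :=
    ⟨_, rfl⟩
  have hr : Commute D.r (D.ψ C) := by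
    rw [hC, map_mul]
    exact (D.blk_diag _ (Or.inl ⟨Or.inl rfl, Or.inr rfl⟩) ha).mul_right
      (D.blk_diag _ (Or.inr ⟨n02.symm, n12.symm, n03.symm, n13.symm⟩) hc)
  have e1 : C * tA (n02 (k := k)).symm s = tA (n02 (k := k)).symm (c * s / a0) * C := by
    rw [hC]
    refine CfsgLib.Classical.sl_ext_smul fun x => funext fun l => ?_
    simp only [tA, mul_smul, CfsgLib.Classical.transvection_smul_apply, CfsgLib.Classical.diag2n_smul_apply]
    by_cases h2 : l = 2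
    · subst h2
      simp [n02.symm, n12.symm, n03, n02, n01]
      field_simp
    · simp [h2]
  rw [← hC] at he
  have h' := h.map (MulAut.conj (D.ψ C)).toMonoidHom
  simp only [MulEquiv.coe_toMonoidHom, MulAut.conj_apply] at h'
  rw [← map_mul D.ψ, he, map_mul, mul_inv_cancel_right] at h'
  rw [D.φ_xp, show D.ψ C * (D.r * D.ψ (tA n02.symm s) * D.r⁻¹) * (D.ψ C)⁻¹ =
    (D.ψ C * D.r) * D.ψ (tA n02.symm s) * (D.ψ C * D.r)⁻¹ by group, ← hr.eq,
    show D.r * D.ψ C * D.ψ (tA n02.symm s) * (D.r * D.ψ C)⁻¹ =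
      D.r * (D.ψ C * D.ψ (tA n02.symm s) * (D.ψ C)⁻¹) * D.r⁻¹ by group,
    ← map_mul D.ψ, e1, map_mul, mul_inv_cancel_right, ← D.φ_xp] at h'
  exact h'

theorem c2_all [Finite F] (s t : F) : Commute (D.φ (xp s)) (D.ψ (tA n12 t)) := by
  refine forall_pair_of_sq (P := fun s t => Commute (D.φ (xp s)) (D.ψ (tA n12 t))) (fun s => ?_)
    (fun t s s' h h' => by rw [← xp_add, map_mul]; exact h.mul_left h') (fun t u ht hu => ?_) s t
  · rw [SpBounded.tA_zero, map_one]; exact Commute.one_right _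
  have ha : (t * u)⁻¹ ≠ 0 := inv_ne_zero (mul_ne_zero ht hu)
  have h := D.scale ha hu (n12 (k := k)) (t := 1) (t' := t) (s := 1) ?_ D.c2
  · have e : u * 1 / (t * u)⁻¹ = u * u * t := by field_simp
    rwa [e] at h
  refine CfsgLib.Classical.sl_ext_smul fun x => funext fun l => ?_
  simp only [tA, mul_smul, CfsgLib.Classical.transvection_smul_apply, CfsgLib.Classical.diag2n_smul_apply]
  by_cases h2 : l = 1
  · subst h2
    simp [n01.symm, n12, n13, n02.symm, n12.symm, n23]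
    field_simp
  · simp [h2]

theorem c3_all [Finite F] (s t : F) : Commute (D.φ (xp s)) (D.ψ (tA (n03 (k := k)).symm t)) := by
  refine forall_pair_of_sq (P := fun s t => Commute (D.φ (xp s)) (D.ψ (tA (n03 (k := k)).symm t))) (fun s => ?_)
    (fun t s s' h h' => by rw [← xp_add, map_mul]; exact h.mul_left h') (fun t u ht hu => ?_) s t
  · rw [SpBounded.tA_zero, map_one]; exact Commute.one_right _
  have ha : (t * u)⁻¹ ≠ 0 := inv_ne_zero (mul_ne_zero ht hu)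
  have h := D.scale ha hu (n03 (k := k)).symm (t := 1) (t' := t) (s := 1) ?_ D.c3
  · have e : u * 1 / (t * u)⁻¹ = u * u * t := by field_simp
    rwa [e] at h
  refine CfsgLib.Classical.sl_ext_smul fun x => funext fun l => ?_
  simp only [tA, mul_smul, CfsgLib.Classical.transvection_smul_apply, CfsgLib.Classical.diag2n_smul_apply]
  by_cases h2 : l = 3
  · subst h2
    simp [n01, n03, n03.symm, n13.symm, n23.symm, n02]
    field_simp
  · simp [h2]

theorem φ_30 [Finite F] (M : SpecialLinearGroup (Fin 2) F) (t : F) :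
    Commute (D.φ M) (D.ψ (tA (n03 (k := k)).symm t)) :=
  D.φ_comm _ (D.w_comm _ (Or.inr ⟨n13.symm, n23.symm, n01, n02⟩) t) (fun s => D.c3_all s t) M

theorem φ_03 [Finite F] (M : SpecialLinearGroup (Fin 2) F) (t : F) :
    Commute (D.φ M) (D.ψ (tA (n03 (k := k)) t)) := by
  refine D.φ_comm _ (D.w_comm _ (Or.inr ⟨n01, n02, n13.symm, n23.symm⟩) t) (fun s => ?_) M
  obtain ⟨W, hW⟩ : ∃ W, W = tA (n23 (k := k)) (1 : F) * tA n23.symm (-1) * tA n23 1 := ⟨_, rfl⟩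
  have b23 : ((2 : Fin (k + 4)) ≠ 0 ∧ (2 : Fin (k + 4)) ≠ 1 ∧ (3 : Fin (k + 4)) ≠ 0 ∧ (3 : Fin (k + 4)) ≠ 1) :=
    ⟨n02.symm, n12.symm, n03.symm, n13.symm⟩
  have hr : Commute D.r (D.ψ W) := by
    rw [hW, map_mul, map_mul]
    exact ((D.blk_tA _ (Or.inr b23) _).mul_right (D.blk_tA _ (Or.inr ⟨b23.2.2.1, b23.2.2.2, b23.1, b23.2.1⟩) _)).mul_right
      (D.blk_tA _ (Or.inr b23) _)
  have e1 : W * tA (n02 (k := k)).symm s = tA (n03 (k := k)).symm (-s) * W := by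
    rw [hW]
    refine CfsgLib.Classical.sl_ext_smul fun x => funext fun l => ?_
    simp only [tA, mul_smul, CfsgLib.Classical.transvection_smul_apply]
    by_cases h2 : l = 2 <;> by_cases h3 : l = 3 <;>
      simp_all [n02, n03, n23, n23.symm, n02.symm, n03.symm] <;> ring
  have e2 : W * tA (n03 (k := k)) t = tA (n02 (k := k)) t * W := by
    rw [hW]
    refine CfsgLib.Classical.sl_ext_smul fun x => funext fun l => ?_
    simp only [tA, mul_smul, CfsgLib.Classical.transvection_smul_apply]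
    by_cases h2 : l = 2 <;> by_cases h3 : l = 3 <;> by_cases h0 : l = 0 <;>
      simp_all [n02, n03, n23, n23.symm, n02.symm, n03.symm] <;> ring
  have h1 : Commute (D.r * D.ψ (tA (n03 (k := k)).symm (-s)) * D.r⁻¹) (D.ψ (tA n02 t)) := by
    have h := ((D.φ_30 (xm (-t)) (-s)).map (MulAut.conj D.r).toMonoidHom).symm
    simp only [MulEquiv.coe_toMonoidHom, MulAut.conj_apply] at h
    rwa [← D.inv_conj_xm, show D.r * (D.r⁻¹ * D.ψ (tA n02 t) * D.r) * D.r⁻¹ = D.ψ (tA (n02 (k := k)) t) by group] at h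
  have h2 := h1.map (MulAut.conj (D.ψ W)⁻¹).toMonoidHom
  simp only [MulEquiv.coe_toMonoidHom, MulAut.conj_apply, inv_inv] at h2
  have f1 : (D.ψ W)⁻¹ * (D.r * D.ψ (tA (n03 (k := k)).symm (-s)) * D.r⁻¹) * D.ψ W = D.φ (xp s) := by
    rw [D.φ_xp, show (D.ψ W)⁻¹ * (D.r * D.ψ (tA n03.symm (-s)) * D.r⁻¹) * D.ψ W =
      ((D.ψ W)⁻¹ * D.r) * D.ψ (tA n03.symm (-s)) * ((D.ψ W)⁻¹ * D.r)⁻¹ by group, ← hr.inv_right.eq,
      show D.r * (D.ψ W)⁻¹ * D.ψ (tA n03.symm (-s)) * (D.r * (D.ψ W)⁻¹)⁻¹ =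
        D.r * ((D.ψ W)⁻¹ * (D.ψ (tA n03.symm (-s)) * D.ψ W)) * D.r⁻¹ by group, ← map_mul, ← e1, map_mul,
      inv_mul_cancel_left]
  rwa [f1, mul_assoc, ← map_mul, ← e2, map_mul, inv_mul_cancel_left] at h2

/-- the outer block commutes with the first group -/
theorem φ_fix [Finite F] {C : SpecialLinearGroup (Fin (k + 4)) F} (h1 : Mv C 1 1) (h2 : Mv C 2 2)
    (M : SpecialLinearGroup (Fin 2) F) : Commute (D.φ M) (D.ψ C) := by
  let H : Subgroup (SpecialLinearGroup (Fin (k + 4)) F) := (Subgroup.centralizer {D.φ M}).comap D.ψ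
  have hH : ∀ {C}, Commute (D.φ M) (D.ψ C) → C ∈ H := fun h =>
    Subgroup.mem_centralizer_singleton_iff.2 h.eq.symm
  refine (Subgroup.mem_centralizer_singleton_iff.1
    (fix2_mem H (fun a b hab ha1 ha2 hb1 hb2 t => ?_) h1 h2 : D.ψ C ∈ _)).symm
  have big : ∀ (a b : Fin (k + 4)) (h : a ≠ b), a ≠ 0 → a ≠ 1 → a ≠ 2 → b ≠ 0 → b ≠ 1 → b ≠ 2 → ∀ t : F,
      tA h t ∈ H := by
    intro a b h ha0 ha1 ha2 hb0 hb1 hb2 t
    refine hH (D.φ_comm _ (D.w_comm h (Or.inr ⟨ha1, ha2, hb1, hb2⟩) t) (fun s => ?_) M)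
    have hr := D.blk_tA h (Or.inr ⟨ha0, ha1, hb0, hb1⟩) t
    have hc : Commute (D.ψ (tA (n02 (k := k)).symm s)) (D.ψ (tA h t)) :=
      (comm_tA (Mv.tA_fix _ ha2 ha0 s) (Mv.tA_fix _ hb2 hb0 s) h t).map D.ψ
    rw [D.φ_xp]
    exact (hr.mul_left hc).mul_left hr.inv_left
  by_cases ha0 : a = 0
  · subst ha0
    by_cases hb3 : b = 3
    · subst hb3; exact hH (D.φ_03 M t)
    · rw [tA, ← CfsgLib.Classical.transvection_eq_commutator hab (n03 (k := k)) (Ne.symm hb3) t, commutatorElement_def]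
      have x := hH (D.φ_03 M t)
      have y := big 3 b (Ne.symm hb3) n03.symm n13.symm n23.symm hab.symm hb1 hb2 1
      exact H.mul_mem (H.mul_mem (H.mul_mem x y) (H.inv_mem x)) (H.inv_mem y)
  by_cases hb0 : b = 0
  · subst hb0
    by_cases ha3 : a = 3
    · subst ha3; exact hH (D.φ_30 M t)
    · rw [tA, ← CfsgLib.Classical.transvection_eq_commutator hab ha3 (n03 (k := k)).symm t, commutatorElement_def]
      have x := big a 3 ha3 ha0 ha1 ha2 n03.symm n13.symm n23.symm t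
      have y := hH (D.φ_30 M 1)
      exact H.mul_mem (H.mul_mem (H.mul_mem x y) (H.inv_mem x)) (H.inv_mem y)
  exact big a b hab ha0 ha1 ha2 hb0 hb1 hb2 t

theorem φ_12 [Finite F] (M : SpecialLinearGroup (Fin 2) F) (t : F) : Commute (D.φ M) (D.ψ (tA n12 t)) :=
  D.φ_comm _ (D.w_comm _ (Or.inl ⟨Or.inl rfl, Or.inr rfl⟩) t) (fun s => D.c2_all s t) M

theorem φ_21 [Finite F] (M : SpecialLinearGroup (Fin 2) F) (t : F) :
    Commute (D.φ M) (D.ψ (tA (n12 (k := k)).symm t)) := by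
  have hw := D.w_comm (n12 (k := k)).symm (Or.inl ⟨Or.inr rfl, Or.inl rfl⟩) t
  refine D.φ_comm _ hw (fun s => ?_) M
  have hm : ∀ u, Commute (D.φ (xm u)) (D.ψ (tA (n12 (k := k)).symm t)) := by
    intro u
    obtain ⟨W, hW⟩ : ∃ W, W = tA (n01 (k := k)) (1 : F) * tA n01.symm (-1) * tA n01 1 := ⟨_, rfl⟩
    have hr : Commute D.r (D.ψ W) := by
      rw [hW, map_mul, map_mul]
      exact ((D.blk_tA _ (Or.inl ⟨Or.inl rfl, Or.inr rfl⟩) _).mul_right
        (D.blk_tA _ (Or.inl ⟨Or.inr rfl, Or.inl rfl⟩) _)).mul_right (D.blk_tA _ (Or.inl ⟨Or.inl rfl, Or.inr rfl⟩) _)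
    have e1 : W * tA (n02 (k := k)).symm (-t) = tA (n12 (k := k)).symm t * W := by
      rw [hW]
      refine CfsgLib.Classical.sl_ext_smul fun x => funext fun l => ?_
      simp only [tA, mul_smul, CfsgLib.Classical.transvection_smul_apply]
      by_cases h0 : l = 0 <;> by_cases h1 : l = 1 <;> by_cases h2 : l = 2 <;>
        simp_all [n01, n01.symm, n02, n12, n02.symm, n12.symm] <;> ring
    have e2 : W * tA (n12 (k := k)) (-u) = tA (n02 (k := k)) (-u) * W := by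
      rw [hW]
      refine CfsgLib.Classical.sl_ext_smul fun x => funext fun l => ?_
      simp only [tA, mul_smul, CfsgLib.Classical.transvection_smul_apply]
      by_cases h0 : l = 0 <;> by_cases h1 : l = 1 <;> by_cases h2 : l = 2 <;>
        simp_all [n01, n01.symm, n02, n12, n02.symm, n12.symm] <;> ring
    have h1 := (D.c2_all (-t) (-u)).map (MulAut.conj (D.ψ W)).toMonoidHom
    simp only [MulEquiv.coe_toMonoidHom, MulAut.conj_apply] at h1
    rw [D.φ_xp, show D.ψ W * (D.r * D.ψ (tA n02.symm (-t)) * D.r⁻¹) * (D.ψ W)⁻¹ =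
      (D.ψ W * D.r) * D.ψ (tA n02.symm (-t)) * (D.ψ W * D.r)⁻¹ by group, ← hr.eq,
      show D.r * D.ψ W * D.ψ (tA n02.symm (-t)) * (D.r * D.ψ W)⁻¹ =
        D.r * (D.ψ W * D.ψ (tA n02.symm (-t)) * (D.ψ W)⁻¹) * D.r⁻¹ by group,
      ← map_mul D.ψ, e1, map_mul, mul_inv_cancel_right, ← map_mul D.ψ, e2, map_mul, mul_inv_cancel_right] at h1
    have h2 := h1.map (MulAut.conj D.r⁻¹).toMonoidHom
    simp only [MulEquiv.coe_toMonoidHom, MulAut.conj_apply, inv_inv] at h2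
    rw [show D.r⁻¹ * (D.r * D.ψ (tA n12.symm t) * D.r⁻¹) * D.r = D.ψ (tA (n12 (k := k)).symm t) by group,
      D.inv_conj_xm, neg_neg] at h2
    exact h2.symm
  have e : D.φ (xp s) = (D.φ (wS F))⁻¹ * D.φ (xm (-s)) * D.φ (wS F) := by
    rw [D.φ_xm_w, neg_neg]; group
  rw [e]
  exact (hw.inv_left.mul_left (hm _)).mul_left hw

/-- the group at a pair of coordinates -/
noncomputable def ph (i j : Fin (k + 4)) : SpecialLinearGroup (Fin 2) F →* G :=
  if h : i ≠ j then (MulAut.conj (D.ψ (exists_move2 (F := F) h).choose)).toMonoidHom.comp D.φ else 1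

theorem ph_eq [Finite F] {A : SpecialLinearGroup (Fin (k + 4)) F} {i j : Fin (k + 4)} (hi : Mv A 1 i) (hj : Mv A 2 j)
    (M : SpecialLinearGroup (Fin 2) F) : D.ψ A * D.φ M * (D.ψ A)⁻¹ = D.ph i j M := by
  have h : i ≠ j := hi.ne hj n12
  rw [ph, dif_pos h]
  show _ = D.ψ (exists_move2 h).choose * D.φ M * (D.ψ (exists_move2 h).choose)⁻¹
  obtain ⟨hA1, hA2⟩ := (exists_move2 (F := F) h).choose_spec
  generalize (exists_move2 (F := F) h).choose = A0 at hA1 hA2 ⊢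
  have hc := D.φ_fix (hA1.inv.comp hi) (hA2.inv.comp hj) M
  rw [map_mul, map_inv] at hc
  generalize D.ψ A = a at hc ⊢
  generalize D.ψ A0 = a0 at hc ⊢
  calc a * D.φ M * a⁻¹ = a0 * ((a0⁻¹ * a) * D.φ M) * a⁻¹ := by group
    _ = _ := by rw [← hc.eq]; group

theorem ph_12 [Finite F] (M : SpecialLinearGroup (Fin 2) F) : D.ph 1 2 M = D.φ M := by
  rw [← D.ph_eq (Mv.one 1) (Mv.one 2), map_one, one_mul, inv_one, mul_one]

theorem cj [Finite F] {A : SpecialLinearGroup (Fin (k + 4)) F} {a b a' b' : Fin (k + 4)} (ha : Mv A a a')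
    (hb : Mv A b b') (h : a ≠ b) (M : SpecialLinearGroup (Fin 2) F) :
    D.ψ A * D.ph a b M * (D.ψ A)⁻¹ = D.ph a' b' M := by
  obtain ⟨B, hB1, hB2⟩ := exists_move2 (F := F) h
  rw [← D.ph_eq hB1 hB2, ← D.ph_eq (ha.comp hB1) (hb.comp hB2), map_mul]
  group

theorem ph_01 [Finite F] (M : SpecialLinearGroup (Fin 2) F) :
    D.ph 0 1 M = D.ψ (Pm F k) * D.φ M * (D.ψ (Pm F k))⁻¹ := by
  refine (D.ph_eq ?_ ?_ M).symm
  · have := mv_Pm (F := F) (k := k) 1; rwa [Pp_1] at this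
  · have := mv_Pm (F := F) (k := k) 2; rwa [Pp_2] at this

theorem ph_01_w [Finite F] : D.ph 0 1 (wS F) = D.r := (D.ph_01 _).trans D.braid.symm

theorem ψ_tA_conj {A : SpecialLinearGroup (Fin (k + 4)) F} {a b a' b' : Fin (k + 4)} (ha : Mv A a a')
    (hb : Mv A b b') (h : a ≠ b) (h' : a' ≠ b') (t : F) :
    D.ψ A * D.ψ (tA h t) * (D.ψ A)⁻¹ = D.ψ (tA h' t) := by
  rw [← map_mul, conj_tA ha hb h h', map_mul, mul_inv_cancel_right]

theorem sym_gen [Finite F] (i j l : Fin (k + 4)) (hij : i ≠ j) (h : l ≠ i) (hlj : l ≠ j) (t : F) :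
    D.ph i j (wS F) * D.ψ (tA h t) * (D.ph i j (wS F))⁻¹ = D.ph j l (xp t) := by
  obtain ⟨A, h0, h1, h2⟩ := exists_move3 (F := F) hij h.symm hlj.symm
  rw [← D.cj h0 h1 n01, ← D.cj h1 h2 n12, ← D.ψ_tA_conj h2 h0 n02.symm h, D.ph_01_w, D.ph_12, D.φ_xp]
  group

theorem sym'_gen [Finite F] (i j l : Fin (k + 4)) (hij : i ≠ j) (h : i ≠ l) (hlj : l ≠ j) (t : F) :
    (D.ph i j (wS F))⁻¹ * D.ψ (tA h (-t)) * D.ph i j (wS F) = D.ph j l (xm t) := by
  obtain ⟨A, h0, h1, h2⟩ := exists_move3 (F := F) hij h hlj.symm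
  rw [← D.cj h0 h1 n01, ← D.cj h1 h2 n12, ← D.ψ_tA_conj h0 h2 n02 h, D.ph_01_w, D.ph_12]
  have e := D.inv_conj_xm (-t)
  rw [neg_neg] at e
  rw [← e]
  group

theorem sq_gen [Finite F] (i j : Fin (k + 4)) (h : i ≠ j) :
    D.ph i j (hd (-1) (neg_ne_zero.2 one_ne_zero)) =
      D.ψ (SpecialLinearGroup.diag2n h (-1) (neg_ne_zero.2 one_ne_zero)) := by
  obtain ⟨l, hli, hlj⟩ := exists_third i j
  obtain ⟨A, h0, h1, -⟩ := exists_move3 (F := F) h hli.symm hlj.symm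
  rw [← D.cj h0 h1 n01, ← wS_sq, map_mul, D.ph_01_w, D.sq, ← map_inv D.ψ, ← map_mul, ← map_mul,
    conj_diag h0 h1 n01 h, mul_inv_cancel_right]

theorem pair_gen [Finite F] (i j : Fin (k + 4)) (h : i ≠ j) (M : SpecialLinearGroup (Fin 2) F) (t : F) :
    Commute (D.ph i j M) (D.ψ (tA h t)) := by
  obtain ⟨A, h1, h2⟩ := exists_move2 (F := F) h
  rw [← D.cj h1 h2 n12, ← D.ψ_tA_conj h1 h2 n12 h, D.ph_12]
  exact (D.φ_12 M t).map (MulAut.conj (D.ψ A)).toMonoidHom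

theorem fix_gen [Finite F] (i j a b : Fin (k + 4)) (hij : i ≠ j) (h : a ≠ b) (hai : a ≠ i) (haj : a ≠ j)
    (hbi : b ≠ i) (hbj : b ≠ j) (M : SpecialLinearGroup (Fin 2) F) (t : F) :
    Commute (D.ph i j M) (D.ψ (tA h t)) := by
  have e := D.cj (Mv.tA_fix h hai.symm hbi.symm t) (Mv.tA_fix h haj.symm hbj.symm t) hij M
  have : D.ψ (tA h t) * D.ph i j M = D.ph i j M * D.ψ (tA h t) := by
    conv_rhs => rw [← e]
    group
  exact this.symm

theorem symm_gen [Finite F] (i j : Fin (k + 4)) (h : i ≠ j) (M : SpecialLinearGroup (Fin 2) F) :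
    D.ph j i M = D.ph i j (tw F M) := by
  obtain ⟨A, h1, h2⟩ := exists_move2 (F := F) h
  rw [← D.cj h2 h1 n12.symm, ← D.cj h1 h2 n12 (tw F M), D.ph_12]
  suffices e : D.ph 2 1 M = D.φ (tw F M) by rw [e]
  have hc : (-1 : F) ≠ 0 := neg_ne_zero.2 one_ne_zero
  have hss : (-1 : F)⁻¹ = -1 := by rw [inv_neg, inv_one]
  obtain ⟨w, hw⟩ : ∃ w, w = tA (n12 (k := k)) (1 : F) * tA n12.symm (-1) * tA n12 1 := ⟨_, rfl⟩
  obtain ⟨d, hd'⟩ : ∃ d, d = SpecialLinearGroup.diag2n (n01 (k := k)).symm (-1 : F) hc := ⟨_, rfl⟩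
  obtain ⟨d', hd''⟩ : ∃ d', d' = SpecialLinearGroup.diag2n (n03 (k := k)) (-1 : F) hc := ⟨_, rfl⟩
  have hwφ : Commute (D.ψ w) (D.φ (tw F M)) := by
    rw [hw, map_mul, map_mul]
    exact (((D.φ_12 _ _).symm.mul_left (D.φ_21 _ _).symm).mul_left (D.φ_12 _ _).symm)
  have hd'φ : Commute (D.ψ d') (D.φ M) := by
    rw [hd'']
    exact (D.φ_fix (Mv.diag_fix _ n01.symm n13 hc) (Mv.diag_fix _ n02.symm n23 hc) M).symm
  have hdr : Commute D.r (D.ψ d) := hd' ▸ D.blk_diag _ (Or.inl ⟨Or.inr rfl, Or.inl rfl⟩) hc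
  have hdφ : D.ψ d * D.φ M * (D.ψ d)⁻¹ = D.φ (tw F M) := by
    refine hom_ext2 (f := (MulAut.conj (D.ψ d)).toMonoidHom.comp D.φ) (g := D.φ.comp (tw F)) (fun t => ?_)
      (fun t => ?_) M
    all_goals
      simp only [MonoidHom.comp_apply, MulEquiv.coe_toMonoidHom, MulAut.conj_apply, tw_xp, tw_xm, D.φ_xp, D.φ_xm]
    · rw [show D.ψ d * (D.r * D.ψ (tA n02.symm t) * D.r⁻¹) * (D.ψ d)⁻¹ =
        (D.ψ d * D.r) * D.ψ (tA n02.symm t) * (D.ψ d * D.r)⁻¹ by group, ← hdr.eq,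
        show D.r * D.ψ d * D.ψ (tA n02.symm t) * (D.r * D.ψ d)⁻¹ =
          D.r * (D.ψ d * D.ψ (tA n02.symm t) * (D.ψ d)⁻¹) * D.r⁻¹ by group, ← map_mul D.ψ, hd',
        (sq_act (F := F) (n01 (k := k)).symm n12.symm n02.symm t).2.2.2, map_mul, mul_inv_cancel_right]
    · rw [show D.ψ d * (D.r * D.ψ (tA n02 t) * D.r⁻¹) * (D.ψ d)⁻¹ =
        (D.ψ d * D.r) * D.ψ (tA n02 t) * (D.ψ d * D.r)⁻¹ by group, ← hdr.eq,
        show D.r * D.ψ d * D.ψ (tA n02 t) * (D.r * D.ψ d)⁻¹ =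
          D.r * (D.ψ d * D.ψ (tA n02 t) * (D.ψ d)⁻¹) * D.r⁻¹ by group, ← map_mul D.ψ, hd',
        (sq_act (F := F) (n01 (k := k)).symm n12.symm n02.symm t).2.1, map_mul, mul_inv_cancel_right]
  have hA' : Mv (w * (d * d')) 1 2 ∧ Mv (w * (d * d')) 2 1 := by
    rw [hw, hd', hd'']
    refine ⟨⟨?_, ?_⟩, ⟨?_, ?_⟩⟩
    all_goals
      funext l
      simp only [map_mul, SpBounded.iot_tr, SpBounded.iot_diag, mul_smul, tA,
        CfsgLib.Classical.transvection_smul_apply, CfsgLib.Classical.diag2n_smul_apply]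
      by_cases l1 : l = 1 <;> by_cases l2 : l = 2 <;> by_cases l0 : l = 0 <;> by_cases l3 : l = 3 <;>
        simp_all [n01, n02, n03, n12, n13, n23, n01.symm, n02.symm, n03.symm, n12.symm, n13.symm, n23.symm]
  rw [← D.ph_eq hA'.1 hA'.2, map_mul, map_mul,
    show D.ψ w * (D.ψ d * D.ψ d') * D.φ M * (D.ψ w * (D.ψ d * D.ψ d'))⁻¹ =
      D.ψ w * (D.ψ d * (D.ψ d' * D.φ M * (D.ψ d')⁻¹) * (D.ψ d)⁻¹) * (D.ψ w)⁻¹ by group,
    hd'φ.eq, mul_inv_cancel_right, hdφ, hwφ.eq, mul_inv_cancel_right]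

theorem w_inv [Finite F] {i j : Fin (k + 4)} (h : i ≠ j) : D.ph j i (wS F) = (D.ph i j (wS F))⁻¹ := by
  rw [D.symm_gen i j h, tw_wS, map_inv]

theorem w_sq [Finite F] {i j : Fin (k + 4)} (h : i ≠ j) : D.ph i j (wS F) * D.ph i j (wS F) =
    D.ψ (SpecialLinearGroup.diag2n h (-1) (neg_ne_zero.2 one_ne_zero)) := by
  rw [← map_mul, wS_sq, D.sq_gen i j h]

theorem sq_conj [Finite F] {i j : Fin (k + 4)} (h : i ≠ j) {x y : SpecialLinearGroup (Fin (k + 4)) F}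
    (e : SpecialLinearGroup.diag2n h (-1) (neg_ne_zero.2 one_ne_zero) * x =
      y * SpecialLinearGroup.diag2n h (-1) (neg_ne_zero.2 one_ne_zero)) :
    D.ph i j (wS F) * D.ψ x * (D.ph i j (wS F))⁻¹ = (D.ph i j (wS F))⁻¹ * D.ψ y * D.ph i j (wS F) := by
  have e' : D.ph i j (wS F) * D.ph i j (wS F) * D.ψ x = D.ψ y * (D.ph i j (wS F) * D.ph i j (wS F)) := by
    rw [D.w_sq h, ← map_mul, ← map_mul, e]
  generalize D.ph i j (wS F) = W at e' ⊢
  calc W * D.ψ x * W⁻¹ = W⁻¹ * (W * W * D.ψ x) * W⁻¹ := by group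
    _ = _ := by rw [e']; group

theorem xp_form [Finite F] {i j p : Fin (k + 4)} (hij : i ≠ j) (hpi : p ≠ i) (hpj : p ≠ j) (s : F) :
    D.ph i j (xp s) = (D.ph j p (wS F))⁻¹ * D.ψ (tA hpi.symm (-s)) * D.ph j p (wS F) := by
  have e := D.sym_gen p j i hpj hpi.symm hij (-s)
  rw [D.w_inv hpj.symm, inv_inv, D.symm_gen i j hij, tw_xp, neg_neg] at e
  exact e.symm

theorem xm_form [Finite F] {i j p : Fin (k + 4)} (hij : i ≠ j) (hpi : p ≠ i) (hpj : p ≠ j) (s : F) :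
    D.ph i j (xm s) = D.ph j p (wS F) * D.ψ (tA hpi s) * (D.ph j p (wS F))⁻¹ := by
  have e := D.sym'_gen p j i hpj hpi hij (-s)
  rw [D.w_inv hpj.symm, inv_inv, D.symm_gen i j hij, tw_xm, neg_neg] at e
  exact e.symm

theorem long_gen [Finite F] (i j a b : Fin (k + 4)) (hij : i ≠ j) (hab : a ≠ b) (hai : a ≠ i) (haj : a ≠ j)
    (hbi : b ≠ i) (hbj : b ≠ j) (M N : SpecialLinearGroup (Fin 2) F) :
    Commute (D.ph i j M) (D.ph a b N) := by
  have nodeA := D.sym_gen i a b hai.symm hbi hab.symm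
  have nodeA' := D.sym'_gen i a b hai.symm hbi.symm hab.symm
  have nodeI : ∀ s, D.ph i j (xp s) = (D.ph i a (wS F))⁻¹ * D.ψ (tA haj.symm s) * D.ph i a (wS F) := fun s => by
    rw [← D.sym_gen a i j hai haj.symm hij.symm s, D.w_inv hai.symm, inv_inv]
  have nodeI' : ∀ s, D.ph i j (xm s) = D.ph i a (wS F) * D.ψ (tA haj (-s)) * (D.ph i a (wS F))⁻¹ := fun s => by
    rw [← D.sym'_gen a i j hai haj hij.symm s, D.w_inv hai.symm, inv_inv]
  have hs1 := fun u => D.sq_conj hai.symm (sq_act (F := F) hai.symm hbi hab.symm u).2.2.1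
  have hs2 := fun u => D.sq_conj hai.symm (sq_act (F := F) hai.symm hbi hab.symm u).1
  have q1 : ∀ s t, Commute (D.ψ (tA haj.symm s)) (D.ψ (tA hbi t)) := fun s t =>
    (comm_tA (Mv.tA_fix _ hbj hab.symm s) (Mv.tA_fix _ hij hai.symm s) hbi t).map D.ψ
  have q2 : ∀ s t, Commute (D.ψ (tA haj s)) (D.ψ (tA hbi.symm t)) := fun s t =>
    (comm_tA (Mv.tA_fix _ hai.symm hij s) (Mv.tA_fix _ hab.symm hbj s) hbi.symm t).map D.ψ
  have q3 : ∀ s t, Commute (D.ψ (tA haj s)) (D.ψ (tA hbi t)) := fun s t =>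
    (comm_tA (Mv.tA_fix _ hab.symm hbj s) (Mv.tA_fix _ hai.symm hij s) hbi t).map D.ψ
  have q4 : ∀ s t, Commute (D.ψ (tA haj.symm s)) (D.ψ (tA hbi.symm t)) := fun s t =>
    (comm_tA (Mv.tA_fix _ hij hai.symm s) (Mv.tA_fix _ hbj hab.symm s) hbi.symm t).map D.ψ
  let W := D.ph i a (wS F)
  have cW : ∀ {x y : G}, Commute x y → Commute (W * x * W⁻¹) (W * y * W⁻¹) := fun h =>
    h.map (MulAut.conj W).toMonoidHom
  have cW' : ∀ {x y : G}, Commute x y → Commute (W⁻¹ * x * W) (W⁻¹ * y * W) := fun h => by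
    have := h.map (MulAut.conj W⁻¹).toMonoidHom
    simpa using this
  have pp : ∀ s t, Commute (D.ph i j (xp s)) (D.ph a b (xp t)) := fun s t => by
    rw [nodeI, ← nodeA, hs1]; exact cW' (q1 _ _)
  have pm : ∀ s t, Commute (D.ph i j (xp s)) (D.ph a b (xm t)) := fun s t => by
    rw [nodeI, ← nodeA']; exact cW' (q4 _ _)
  have mp : ∀ s t, Commute (D.ph i j (xm s)) (D.ph a b (xp t)) := fun s t => by
    rw [nodeI', ← nodeA]; exact cW (q3 _ _)
  have mm : ∀ s t, Commute (D.ph i j (xm s)) (D.ph a b (xm t)) := fun s t => by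
    have e := hs2 t
    rw [nodeI', ← nodeA', ← e]; exact cW (q2 _ _)
  have hM : ∀ (x : G), (∀ s, Commute (D.ph i j (xp s)) x) → (∀ s, Commute (D.ph i j (xm s)) x) →
      Commute (D.ph i j M) x := fun x hp hm =>
    Subgroup.mem_centralizer_singleton_iff.1 (mem_of_gens2 ((Subgroup.centralizer {x}).comap (D.ph i j))
      (fun s => Subgroup.mem_centralizer_singleton_iff.2 (hp s).eq)
      (fun s => Subgroup.mem_centralizer_singleton_iff.2 (hm s).eq) M)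
  exact (Subgroup.mem_centralizer_singleton_iff.1 (mem_of_gens2
    ((Subgroup.centralizer {D.ph i j M}).comap (D.ph a b))
      (fun t => Subgroup.mem_centralizer_singleton_iff.2 (hM _ (fun s => pp s t) (fun s => mp s t)).eq.symm)
      (fun t => Subgroup.mem_centralizer_singleton_iff.2 (hM _ (fun s => pm s t) (fun s => mm s t)).eq.symm) N)).symm

theorem fx_gen [Finite F] (i j l : Fin (k + 4)) (hij : i ≠ j) (h : i ≠ l) (hlj : l ≠ j) (s t : F) :
    Commute (D.ph i j (xp s)) (D.ψ (tA h t)) := by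
  obtain ⟨p, hpi, hpj, hpl⟩ := exists_fourth i j l
  rw [D.xp_form hij hpi hpj]
  have hQ : Commute (D.ph j p (wS F)) (D.ψ (tA h t)) :=
    D.fix_gen j p i l hpj.symm h hij hpi.symm hlj hpl.symm _ _
  have hc : Commute (D.ψ (tA hpi.symm (-s))) (D.ψ (tA h t)) :=
    ((SpBounded.Pre.tA_comm hpi.symm h hpi h _ _)).map D.ψ
  exact (hQ.inv_left.mul_left hc).mul_left hQ

theorem fx'_gen [Finite F] (i j l : Fin (k + 4)) (hij : i ≠ j) (h : l ≠ i) (hlj : l ≠ j) (s t : F) :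
    Commute (D.ph i j (xm s)) (D.ψ (tA h t)) := by
  obtain ⟨p, hpi, hpj, hpl⟩ := exists_fourth i j l
  rw [D.xm_form hij hpi hpj]
  have hQ : Commute (D.ph j p (wS F)) (D.ψ (tA h t)) :=
    D.fix_gen j p l i hpj.symm h hlj hpl.symm hij hpi.symm _ _
  have hc : Commute (D.ψ (tA hpi s)) (D.ψ (tA h t)) :=
    ((SpBounded.Pre.tA_comm hpi h h.symm hpi _ _)).map D.ψ
  exact (hQ.mul_left hc).mul_left hQ.inv_left

theorem move_gen [Finite F] (i j l : Fin (k + 4)) (hij : i ≠ j) (h : l ≠ i) (hlj : l ≠ j) (s t : F) :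
    D.ψ (tA h s) * D.ph i j (xp t) * (D.ψ (tA h s))⁻¹ = D.ph i j (xp t) * D.ph l j (xp (s * t)) := by
  obtain ⟨p, hpi, hpj, hpl⟩ := exists_fourth i j l
  rw [D.xp_form hij hpi hpj, D.xp_form hlj hpl hpj]
  have hQ : Commute (D.ψ (tA h s)) (D.ph j p (wS F)) :=
    (D.fix_gen j p l i hpj.symm h hlj hpl.symm hij hpi.symm _ _).symm
  have e : tA h s * tA hpi.symm (-t) * (tA h s)⁻¹ = tA hpi.symm (-t) * tA hpl.symm (-(s * t)) := by
    rw [mul_inv_eq_iff_eq_mul]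
    refine CfsgLib.Classical.sl_ext_smul fun x => ?_
    simp only [mul_smul, smul_tA, Pi.add_apply, Pi.smul_apply, Pi.single_apply, h, h.symm, hpi, hpi.symm, hpl,
      hpl.symm, if_false, smul_eq_mul, mul_zero, add_zero, if_true, mul_one]
    funext a
    simp only [Pi.add_apply, Pi.smul_apply, smul_eq_mul]
    ring
  calc D.ψ (tA h s) * ((D.ph j p (wS F))⁻¹ * D.ψ (tA hpi.symm (-t)) * D.ph j p (wS F)) * (D.ψ (tA h s))⁻¹
      = (D.ψ (tA h s) * (D.ph j p (wS F))⁻¹) * D.ψ (tA hpi.symm (-t)) * (D.ψ (tA h s) * (D.ph j p (wS F))⁻¹)⁻¹ := by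
        group
    _ = (D.ph j p (wS F))⁻¹ * (D.ψ (tA h s * tA hpi.symm (-t) * (tA h s)⁻¹)) * D.ph j p (wS F) := by
        rw [hQ.inv_right.eq, map_mul, map_mul, map_inv]; group
    _ = _ := by rw [e, map_mul]; group

theorem move'_gen [Finite F] (i j l : Fin (k + 4)) (hij : i ≠ j) (h : i ≠ l) (hlj : l ≠ j) (s t : F) :
    D.ψ (tA h (-s)) * D.ph i j (xm t) * (D.ψ (tA h (-s)))⁻¹ = D.ph i j (xm t) * D.ph l j (xm (s * t)) := by
  obtain ⟨p, hpi, hpj, hpl⟩ := exists_fourth i j l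
  rw [D.xm_form hij hpi hpj, D.xm_form hlj hpl hpj]
  have hQ : Commute (D.ψ (tA h (-s))) (D.ph j p (wS F)) :=
    (D.fix_gen j p i l hpj.symm h hij hpi.symm hlj hpl.symm _ _).symm
  have e : tA h (-s) * tA hpi t * (tA h (-s))⁻¹ = tA hpi t * tA hpl (s * t) := by
    rw [mul_inv_eq_iff_eq_mul]
    refine CfsgLib.Classical.sl_ext_smul fun x => ?_
    simp only [mul_smul, smul_tA, Pi.add_apply, Pi.smul_apply, Pi.single_apply, h, h.symm, hpi, hpi.symm, hpl,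
      hpl.symm, if_false, smul_eq_mul, mul_zero, add_zero, if_true, mul_one]
    funext a
    simp only [Pi.add_apply, Pi.smul_apply, smul_eq_mul]
    ring
  calc D.ψ (tA h (-s)) * (D.ph j p (wS F) * D.ψ (tA hpi t) * (D.ph j p (wS F))⁻¹) * (D.ψ (tA h (-s)))⁻¹
      = (D.ψ (tA h (-s)) * D.ph j p (wS F)) * D.ψ (tA hpi t) * (D.ψ (tA h (-s)) * D.ph j p (wS F))⁻¹ := by group
    _ = D.ph j p (wS F) * (D.ψ (tA h (-s) * tA hpi t * (tA h (-s))⁻¹)) * (D.ph j p (wS F))⁻¹ := by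
        rw [hQ.eq, map_mul, map_mul, map_inv]; group
    _ = _ := by rw [e, map_mul]; group

theorem hd_form [Finite F] {i j p : Fin (k + 4)} (hij : i ≠ j) (hpi : p ≠ i) (hpj : p ≠ j) {c : F} (hc : c ≠ 0) :
    D.ph i j (hd c hc) = (D.ph j p (wS F))⁻¹ * D.ψ (SpecialLinearGroup.diag2n hpi.symm c hc) * D.ph j p (wS F) := by
  have hm : ∀ t, D.ph i j (xm t) = (D.ph j p (wS F))⁻¹ * D.ψ (tA hpi (-t)) * D.ph j p (wS F) := fun t => by
    rw [D.xm_form hij hpi hpj, D.sq_conj hpj.symm (sq_act (F := F) hpj.symm hij hpi.symm t).2.1]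
  have h01 : (0 : Fin 2) ≠ 1 := by decide
  have h1 := D.xp_form hij hpi hpj
  obtain ⟨f, hf⟩ : ∃ f : SpecialLinearGroup (Fin (k + 4)) F →* G,
      ∀ x, f x = (D.ph j p (wS F))⁻¹ * D.ψ x * D.ph j p (wS F) :=
    ⟨(MulAut.conj (D.ph j p (wS F))⁻¹).toMonoidHom.comp D.ψ, fun x => by simp⟩
  rw [← hf, ← tw_hd hc]
  rw [SpBounded.hd, CfsgLib.Classical.diag2n_eq_prod hpi.symm hc, CfsgLib.Classical.diag2n_eq_prod h01 hc]
  simp only [map_mul]
  have a1 : ∀ t, f (SpecialLinearGroup.transvection hpi.symm t) = D.ph i j (tw F (SpecialLinearGroup.transvection h01 t)) :=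
    fun t => by
      show f (tA hpi.symm t) = D.ph i j (tw F (xp t))
      rw [tw_xp, hf, h1, neg_neg]
  have a2 : ∀ t, f (SpecialLinearGroup.transvection hpi.symm.symm t) =
      D.ph i j (tw F (SpecialLinearGroup.transvection h01.symm t)) := fun t => by
    show f (tA hpi t) = D.ph i j (tw F (xm t))
    rw [tw_xm, hf, hm, neg_neg]
  rw [a1, a2, a1, a2]

theorem tor_gen [Finite F] (i j l : Fin (k + 4)) (hij : i ≠ j) (h : i ≠ l) (hlj : l ≠ j) (c : F) (hc : c ≠ 0) :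
    D.ψ (SpecialLinearGroup.diag2n h c hc) = D.ph i j (hd c hc) * D.ph l j (hd c⁻¹ (inv_ne_zero hc)) := by
  obtain ⟨p, hpi, hpj, hpl⟩ := exists_fourth i j l
  rw [D.hd_form hij hpi hpj, D.hd_form hlj hpl hpj]
  have hQ : Commute (D.ph j p (wS F)) (D.ψ (SpecialLinearGroup.diag2n h c hc)) := by
    have f1 := fun t => D.fix_gen j p i l hpj.symm h hij hpi.symm hlj hpl.symm (wS F) t
    have f2 := fun t => D.fix_gen j p l i hpj.symm h.symm hlj hpl.symm hij hpi.symm (wS F) t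
    simp only [tA] at f1 f2
    rw [CfsgLib.Classical.diag2n_eq_prod h hc]
    simp only [map_mul]
    exact ((((f1 _).mul_right (f2 _)).mul_right (f1 _)).mul_right (f1 _)).mul_right (f2 _) |>.mul_right (f1 _)
  have e : SpecialLinearGroup.diag2n hpi.symm c hc * SpecialLinearGroup.diag2n hpl.symm c⁻¹ (inv_ne_zero hc) =
      SpecialLinearGroup.diag2n h c hc :=
    CfsgLib.Classical.sl_ext_smul fun x => funext fun a => by
      simp only [mul_smul, CfsgLib.Classical.diag2n_smul_apply]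
      by_cases a1 : a = i <;> by_cases a2 : a = l <;> by_cases a3 : a = p <;>
        first | exact absurd (a1.symm.trans a2) h | simp_all
  rw [show (D.ph j p (wS F))⁻¹ * D.ψ (SpecialLinearGroup.diag2n hpi.symm c hc) * D.ph j p (wS F) *
      ((D.ph j p (wS F))⁻¹ * D.ψ (SpecialLinearGroup.diag2n hpl.symm c⁻¹ (inv_ne_zero hc)) * D.ph j p (wS F)) =
    (D.ph j p (wS F))⁻¹ * (D.ψ (SpecialLinearGroup.diag2n hpi.symm c hc) *
      D.ψ (SpecialLinearGroup.diag2n hpl.symm c⁻¹ (inv_ne_zero hc))) * D.ph j p (wS F) by group,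
    ← map_mul, e, mul_assoc, ← hQ.eq, inv_mul_cancel_left]

/-- all the relations -/
noncomputable def toPre [Finite F] : Pre F (k + 4) G where
  ψ := D.ψ
  φ := D.ph
  symm := D.symm_gen
  fix := D.fix_gen
  pair := D.pair_gen
  long := D.long_gen
  sym := D.sym_gen
  sym' := D.sym'_gen
  sq := D.sq_gen
  fx := D.fx_gen
  fx' := D.fx'_gen
  move := D.move_gen
  move' := D.move'_gen
  tor := D.tor_gen

theorem r_mem_gen [Finite F] : D.r ∈ D.toPre.gen := by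
  rw [← D.ph_01_w]
  exact D.toPre.φ_mem_gen n01 _

end Glue

end CfsgLib.Known.DBounded
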