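import Cfsg.Agent.Lib.Known.DBounded.Canon

/-!
# The orthogonal group satisfies the relations
-/

set_option autoImplicit false

namespace CfsgLib.Known.DBounded

open Matrix (SpecialLinearGroup fromBlocks single)
open CfsgLib.Known.ClassicalSections (levi)
open CfsgLib.Known.SpBounded (iot iot_iot iot_tr iot_diag coe_iot tA xp xm wS hd wS_coe xp_coe xm_coe hd_coe smul_eq_mv)

variable {F : Type*} [Field F] {m k : ℕ}

theorem mul_single_of {P Q : Matrix (Fin m) (Fin m) F} {a a' b b' : Fin m}
    (hP : P.mulVec (Pi.single a 1) = Pi.single a' 1) (hQ : ∀ l, Q b' l = (Pi.single b 1 : Fin m → F) l) (c : F) :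
    P * single a b c = single a' b' c * Q := by
  have hP' : ∀ l, P l a = (Pi.single a' 1 : Fin m → F) l := fun l => by
    have := congrFun hP l
    rwa [Matrix.mulVec_single_one] at this
  ext u v
  rw [Matrix.mul_apply, Matrix.mul_apply, Finset.sum_eq_single a, Finset.sum_eq_single b']
  · rw [hP', hQ, Pi.single_apply, Pi.single_apply]
    simp only [Matrix.single, Matrix.of_apply, eq_self_iff_true, true_and, and_true]
    by_cases hu : u = a' <;> by_cases hv : v = b <;> simp [hu, hv, Ne.symm, eq_comm (a := b), eq_comm (a := a')]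
  · intro l _ hl; simp [single, Ne.symm hl]
  · simp
  · intro l _ hl; simp [single, Ne.symm hl]
  · simp

theorem Mv.iot {A : SpecialLinearGroup (Fin m) F} {a b : Fin m} (h : Mv A a b) : Mv (SpBounded.iot _ F A) a b :=
  ⟨h.2, by rw [iot_iot]; exact h.1⟩

theorem Mv.col {A : SpecialLinearGroup (Fin m) F} {a b : Fin m} (h : Mv A a b) :
    A.1.mulVec (Pi.single a 1) = Pi.single b 1 := by rw [smul_eq_mv]; exact h.1

theorem Mv.row {A : SpecialLinearGroup (Fin m) F} {a b : Fin m} (h : Mv A a b) (l : Fin m) :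
    A.1 b l = (Pi.single a 1 : Fin m → F) l := by
  have e := h.apply (Pi.single l 1 : Fin m → F)
  rw [← smul_eq_mv, Matrix.mulVec_single_one] at e
  simp only [Matrix.col_apply, Pi.single_apply] at e ⊢
  rw [e]
  simp [eq_comm]

theorem levi_conj_d2 {A : SpecialLinearGroup (Fin m) F} {i j i' j' : Fin m} (hi : Mv A i i') (hj : Mv A j j')
    (h : i ≠ j) (M : SpecialLinearGroup (Fin 2) F) : levi m A * d2 i j M = d2 i' j' M * levi m A := by
  rw [d2_ne h, d2_ne (hi.ne hj h), coe_levi, d2m, d2m, Matrix.fromBlocks_multiply, Matrix.fromBlocks_multiply]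
  simp only [Matrix.mul_zero, Matrix.zero_mul, add_zero, zero_add, pr, Am, mul_add, add_mul, mul_sub, sub_mul,
    mul_one, one_mul, mul_single_of hi.col (Mv.row hi), mul_single_of hj.col (Mv.row hj),
    mul_single_of hi.col (Mv.row hj.iot), mul_single_of hj.col (Mv.row hi.iot),
    mul_single_of hi.iot.col (Mv.row hj), mul_single_of hj.iot.col (Mv.row hi),
    mul_single_of hi.iot.col (Mv.row hi.iot), mul_single_of hj.iot.col (Mv.row hj.iot)]

theorem d2_pair {i j : Fin m} (h : i ≠ j) (M : SpecialLinearGroup (Fin 2) F) (t : F) :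
    d2 i j M * levi m (tA h t) = levi m (tA h t) * d2 i j M ∧
      d2 i j M * levi m (tA h.symm t) = levi m (tA h.symm t) * d2 i j M := by
  rw [d2_ne h, coe_levi, coe_levi, iot_tr, iot_tr, d2m, SpecialLinearGroup.transvection_coe,
    SpecialLinearGroup.transvection_coe, SpecialLinearGroup.transvection_coe, SpecialLinearGroup.transvection_coe]
  simp only [Matrix.fromBlocks_multiply, Matrix.fromBlocks_inj, Matrix.mul_zero, Matrix.zero_mul, add_zero, zero_add,
    pr, Am, mul_add, add_mul, mul_sub, sub_mul, mul_one, one_mul, Matrix.single_mul_single_same,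
    ne_eq, h, Ne.symm h, not_false_eq_true, Matrix.single_mul_single_of_ne]
  and_intros <;> ext p q <;>
    simp only [Matrix.add_apply, Matrix.sub_apply, Matrix.one_apply, Matrix.zero_apply, single, Matrix.of_apply] <;>
    split_ifs <;> first | ring1 | simp_all

theorem d2_sq {i j : Fin m} (h : i ≠ j) {c : F} (hc : c ≠ 0) (hcc : c * c = 1) :
    d2 i j (hd c hc) = levi m (SpecialLinearGroup.diag2n h c hc) := by
  have hi : c⁻¹ = c := inv_eq_of_mul_eq_one_right hcc
  rw [d2_ne h, coe_levi, iot_diag, d2m, hd_coe, SpecialLinearGroup.diag2n_coe, SpecialLinearGroup.diag2n_coe]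
  simp only [pr, Am, hi, Matrix.fromBlocks_inj, Matrix.of_apply, Matrix.cons_val', Matrix.cons_val_zero, Matrix.cons_val_one,
    Matrix.cons_val_fin_one]
  clear hcc hi
  and_intros <;> ext p q <;>
    simp only [Matrix.add_apply, Matrix.sub_apply, Matrix.neg_apply, Matrix.one_apply, Matrix.zero_apply,
      Matrix.diagonal_apply, single, Matrix.of_apply] <;>
    split_ifs <;> first | ring1 | grind

theorem d2_sym {i j l : Fin m} (hij : i ≠ j) (h : l ≠ i) (hlj : l ≠ j) (t : F) :
    d2 i j (wS F) * levi m (tA h t) = d2 j l (xp t) * d2 i j (wS F) ∧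
      d2 i j (wS F) * levi m (tA h.symm t) = d2 j l (xm t) * d2 i j (wS F) := by
  rw [d2_ne hij, d2_ne hlj.symm, d2_ne hlj.symm, coe_levi, coe_levi, iot_tr, iot_tr, d2m, d2m, d2m, wS_coe, xp_coe,
    xm_coe, SpecialLinearGroup.transvection_coe, SpecialLinearGroup.transvection_coe,
    SpecialLinearGroup.transvection_coe, SpecialLinearGroup.transvection_coe]
  simp [Matrix.fromBlocks_multiply, Matrix.fromBlocks_inj, pr, Am, mul_add, add_mul, mul_sub, sub_mul,
    Matrix.single_mul_single_same, Matrix.single_mul_single_of_ne, hij, Ne.symm hij, h, Ne.symm h, hlj, Ne.symm hlj]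
  and_intros <;> ext p q <;>
    simp only [Matrix.add_apply, Matrix.sub_apply, Matrix.neg_apply, Matrix.one_apply, Matrix.zero_apply, single,
      Matrix.of_apply] <;>
    split_ifs <;> first | ring1 | simp_all

/-- the matrices as units -/
noncomputable def lu (F : Type*) [Field F] (m : ℕ) :
    SpecialLinearGroup (Fin m) F →* (Matrix (Fin m ⊕ Fin m) (Fin m ⊕ Fin m) F)ˣ := (levi m).toHomUnits

/-- the rank one matrices as units -/
noncomputable def du {m : ℕ} (i j : Fin m) :
    SpecialLinearGroup (Fin 2) F →* (Matrix (Fin m ⊕ Fin m) (Fin m ⊕ Fin m) F)ˣ := (d2 i j).toHomUnits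

theorem du_comm_levi {i j : Fin m} (h : i ≠ j) {A : SpecialLinearGroup (Fin m) F} (hi : Mv A i i) (hj : Mv A j j)
    (M : SpecialLinearGroup (Fin 2) F) : Commute (du i j M) (lu F m A) :=
  Units.ext (levi_conj_d2 hi hj h M).symm

theorem phiOf_model (M : SpecialLinearGroup (Fin 2) F) :
    phiOf (lu F (k + 4)) (du 0 1 (wS F)) M = du (1 : Fin (k + 4)) 2 M := by
  refine hom_ext2 (f := phiOf (lu F (k + 4)) (du 0 1 (wS F))) (g := du (1 : Fin (k + 4)) 2) (fun t => ?_) (fun t => ?_) M
  · rw [phiOf_apply, b20_xp, mul_inv_eq_iff_eq_mul]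
    exact Units.ext (d2_sym n01 n02.symm n12.symm t).1
  · rw [phiOf_apply, b20_xm, mul_inv_eq_iff_eq_mul]
    exact Units.ext (d2_sym n01 n02.symm n12.symm t).2

theorem mv_bR (B : SpecialLinearGroup (Fin (k + 2)) F) :
    Mv (bR F k B) (0 : Fin (k + 4)) 0 ∧ Mv (bR F k B) (1 : Fin (k + 4)) 1 := by
  have h0 : ∀ {n : ℕ} (C : SpecialLinearGroup (Fin n) F), Mv (SpBounded.bs n F C) 0 0 := by
    intro n C
    have key : ∀ C : SpecialLinearGroup (Fin n) F,
        SpBounded.bs n F C • (Pi.single 0 1 : Fin (n + 1) → F) = Pi.single 0 1 := fun C => by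
      funext i
      rw [← smul_eq_mv, Matrix.mulVec_single_one]
      cases i using Fin.cases <;> simp [SpBounded.coe_bs, Fin.succ_ne_zero]
    exact ⟨key C, by rw [SpBounded.iot_bs]; exact key _⟩
  refine ⟨h0 _, ?_⟩
  have key : ∀ C : SpecialLinearGroup (Fin (k + 3)) F, Mv C 0 0 → Mv (SpBounded.bs (k + 3) F C) (1 : Fin (k + 4)) 1 := by
    intro C hC
    have key2 : ∀ C : SpecialLinearGroup (Fin (k + 3)) F, C • (Pi.single 0 1 : Fin (k + 3) → F) = Pi.single 0 1 →
        SpBounded.bs (k + 3) F C • (Pi.single (1 : Fin (k + 4)) 1 : Fin (k + 4) → F) = Pi.single 1 1 := by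
      intro C e
      rw [← smul_eq_mv, Matrix.mulVec_single_one] at e ⊢
      funext i
      rw [show (1 : Fin (k + 4)) = (0 : Fin (k + 3)).succ from rfl]
      cases i using Fin.cases with
      | zero =>
        rw [Matrix.col_apply, SpBounded.coe_bs, SpBounded.pad_0s, Pi.single_eq_of_ne (Fin.succ_ne_zero _).symm]
      | succ i =>
        have := congrFun e i
        rw [Matrix.col_apply, Pi.single_apply] at this
        rw [Matrix.col_apply, SpBounded.coe_bs, SpBounded.pad_ss, this, Pi.single_apply]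
        simp only [Fin.succ_inj]
    exact ⟨key2 C hC.1, by rw [SpBounded.iot_bs]; exact key2 _ hC.2⟩
  exact key _ (h0 B)

theorem r_blk (A : SpecialLinearGroup (Fin 2) F) (B : SpecialLinearGroup (Fin (k + 2)) F) :
    Commute (du (0 : Fin (k + 4)) 1 (wS F)) (lu F (k + 4) (b01 F k A * bR F k B)) := by
  rw [map_mul]
  refine Commute.mul_right ?_ (du_comm_levi n01 (mv_bR B).1 (mv_bR B).2 _)
  refine Subgroup.mem_centralizer_singleton_iff.1 (mem_of_gens2
    ((Subgroup.centralizer {du (0 : Fin (k + 4)) 1 (wS F)}).comap ((lu F (k + 4)).comp (b01 F k)))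
    (fun t => ?_) (fun t => ?_) A) |>.symm
  · refine Subgroup.mem_centralizer_singleton_iff.2 ?_
    rw [MonoidHom.comp_apply, b01_xp]
    exact Units.ext (d2_pair n01 _ t).1.symm
  · refine Subgroup.mem_centralizer_singleton_iff.2 ?_
    rw [MonoidHom.comp_apply, b01_xm]
    exact Units.ext (d2_pair n01 _ t).2.symm

/-- the model -/
noncomputable def glueD (F : Type*) [Field F] (k : ℕ) :
    Glue F k (Matrix (Fin (k + 4) ⊕ Fin (k + 4)) (Fin (k + 4) ⊕ Fin (k + 4)) F)ˣ where
  ψ := lu F (k + 4)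
  r := du 0 1 (wS F)
  blk := r_blk
  sq := by
    rw [← map_mul, SpBounded.wS_sq]
    exact Units.ext (d2_sq n01 (neg_ne_zero.2 one_ne_zero) (by ring))
  braid := by
    rw [phiOf_model, eq_mul_inv_iff_mul_eq]
    refine (Units.ext (levi_conj_d2 ?_ ?_ n12 _)).symm
    · have := mv_Pm (F := F) (k := k) 1; rwa [Pp_1] at this
    · have := mv_Pm (F := F) (k := k) 2; rwa [Pp_2] at this
  c2 := by
    rw [phiOf_model]
    exact Units.ext (d2_pair n12 _ 1).1
  c3 := by
    rw [phiOf_model]
    exact du_comm_levi n12 (Mv.tA_fix _ n13 n01.symm 1) (Mv.tA_fix _ n23 n02.symm 1) _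

end CfsgLib.Known.DBounded
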