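import Cfsg.Agent.Lib.Known.DBounded.Orbit
import Cfsg.Agent.Lib.Known.SpBounded.Good
import Cfsg.Prelude.Def_ClassicalGeometry

/-!
# Every element moves the first vector in one of two ways
-/

set_option autoImplicit false

namespace CfsgLib.Known.DBounded

open Matrix (SpecialLinearGroup fromBlocks)
open CfsgLib.Known.ClassicalSections (levi)
open CfsgLib.Known.SpBounded (iot iot_iot iot_tr coe_iot coe_iot_inv tA ev mulVec_ev ev_ne_zero smul_eq_mv xp xm wS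
  wS_coe rowSL coe_rowSL rowM ev2 pad_ext)
open scoped Matrix

variable {F : Type*} [Field F] {k : ℕ}

theorem exists_alt_mulVec (v : Fin (k + 1) → F) (h : v 0 = 0) :
    ∃ T : Matrix (Fin (k + 1)) (Fin (k + 1)) F, IsAlt T ∧ T.mulVec (ev k F) = v := by
  refine ⟨Matrix.vecMulVec v (ev k F) - Matrix.vecMulVec (ev k F) v, ⟨?_, fun i => ?_⟩, ?_⟩
  · simp [Matrix.transpose_vecMulVec]
  · simp [Matrix.vecMulVec_apply, mul_comm]
  · funext i
    rw [mulVec_ev]
    simp [Matrix.vecMulVec_apply, ev, Pi.single_apply, h]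

theorem exists_vec {a : Fin (k + 2) → F} (ha : a ≠ 0) {b : Fin (k + 2) → F} (hab : dotProduct a b = 0) :
    ∃ A : SpecialLinearGroup (Fin (k + 2)) F, ∃ S : Matrix (Fin (k + 2)) (Fin (k + 2)) F,
      IsAlt S ∧ A.1.mulVec (ev (k + 1) F) = a ∧ S.mulVec a = b := by
  obtain ⟨A, hA⟩ := CfsgLib.Classical.exists_smul_eq_SL (v := ev (k + 1) F) ev_ne_zero ha
  rw [← smul_eq_mv] at hA
  have hb : A.1.transpose.mulVec b 0 = 0 := by
    calc A.1.transpose.mulVec b 0 = ∑ l, A.1.transpose 0 l * b l := rfl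
      _ = ∑ l, a l * b l := Finset.sum_congr rfl fun l _ => by rw [← hA, mulVec_ev, Matrix.transpose_apply]
      _ = 0 := hab
  obtain ⟨T, hT, hTe⟩ := exists_alt_mulVec _ hb
  refine ⟨A, (iot _ F A).1 * T * (iot _ F A).1.transpose, hT.conj _, hA, ?_⟩
  have h1 : (A⁻¹).1.mulVec a = ev (k + 1) F := by
    rw [← hA, smul_eq_mv, smul_eq_mv, inv_smul_smul]
  rw [← Matrix.mulVec_mulVec, ← Matrix.mulVec_mulVec, coe_iot, Matrix.transpose_transpose, h1, hTe, ← coe_iot,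
    ← coe_iot_inv, map_inv, smul_eq_mv, smul_eq_mv, smul_inv_smul]

theorem dot_polarVec {m : ℕ} (v w : Fin m ⊕ Fin m → F) :
    dotProduct (Cfsg.polarVec (Cfsg.quadFormPlus m F) v) w = QuadraticMap.polar (Cfsg.quadFormPlus m F) v w := by
  have e : ∀ x y : Fin m ⊕ Fin m → F, QuadraticMap.polar (Cfsg.quadFormPlus m F) x y =
      ∑ i, (x (.inl i) * y (.inr i) + y (.inl i) * x (.inr i)) := fun x y => by
    simp only [QuadraticMap.polar, Cfsg.quadFormPlus, Pi.add_apply, ← Finset.sum_sub_distrib]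
    exact Finset.sum_congr rfl fun i _ => by ring
  simp only [dotProduct, Cfsg.polarVec, e, Fintype.sum_sum_type, Pi.single_apply, Sum.inl.injEq, Sum.inr.injEq,
    reduceCtorEq, if_false, mul_zero, zero_mul, zero_add, add_zero, mul_ite, ite_mul, mul_one, one_mul,
    Finset.sum_add_distrib, Finset.sum_ite_eq', Finset.mem_univ, if_true, Finset.sum_const_zero]
  rw [add_comm]
  congr 1 <;> exact Finset.sum_congr rfl fun i _ => mul_comm _ _

theorem polarVec_elim {m : ℕ} (a b : Fin m → F) :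
    Cfsg.polarVec (Cfsg.quadFormPlus m F) (Sum.elim a b) = Sum.elim b a := by
  funext j
  rw [Cfsg.polarVec, ← dot_polarVec, dotProduct_single, mul_one, Cfsg.polarVec, QuadraticMap.polar]
  rcases j with j | j <;>
    simp [Cfsg.quadFormPlus, add_mul, mul_add, Finset.sum_add_distrib, Pi.single_apply]

theorem mul_siegel {m : ℕ} {M : Matrix (Fin m ⊕ Fin m) (Fin m ⊕ Fin m) F}
    (hM : ∀ v, Cfsg.quadFormPlus m F (M.mulVec v) = Cfsg.quadFormPlus m F v) (u v : Fin m ⊕ Fin m → F) (c : F) :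
    M * Cfsg.siegelMatrix (Cfsg.quadFormPlus m F) u v c =
      Cfsg.siegelMatrix (Cfsg.quadFormPlus m F) (M.mulVec u) (M.mulVec v) c * M := by
  have hp : ∀ x, Matrix.vecMul (Cfsg.polarVec (Cfsg.quadFormPlus m F) (M.mulVec x)) M =
      Cfsg.polarVec (Cfsg.quadFormPlus m F) x := fun x => by
    funext j
    show dotProduct (Cfsg.polarVec (Cfsg.quadFormPlus m F) (M.mulVec x)) (fun i => M i j) = _
    rw [show (fun i => M i j) = M.mulVec (Pi.single j 1) by rw [Matrix.mulVec_single_one]; rfl, dot_polarVec]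
    simp only [Cfsg.polarVec, QuadraticMap.polar, ← Matrix.mulVec_add, hM]
  simp only [Cfsg.siegelMatrix, Matrix.mul_add, Matrix.add_mul, Matrix.mul_one, Matrix.one_mul, Matrix.mul_smul,
    Matrix.smul_mul, Matrix.mul_sub, Matrix.sub_mul, Matrix.mul_vecMulVec, Matrix.vecMulVec_mul, hp]

namespace Pre

variable {G : Type*} [Group G] (R : Pre F (k + 2) G)

/-- the two shapes -/
def Good (g : G) : Prop :=
  (∃ S A p, IsAlt S ∧ p ∈ R.P1 ∧ g = R.V S * R.ψ A * p) ∨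
    (∃ S A p, IsAlt S ∧ p ∈ R.P1 ∧ g = R.U S * R.ψ A * R.φ 0 1 (wS F) * p)

theorem good_one : R.Good 1 :=
  Or.inl ⟨0, 1, 1, IsAlt.zero, one_mem _, by rw [R.V_zero, map_one, one_mul, one_mul]⟩

theorem good_ψ (C : SpecialLinearGroup (Fin (k + 2)) F) {y : G} (hy : R.Good y) : R.Good (R.ψ C * y) := by
  rcases hy with ⟨S, A, p, hS, hp, rfl⟩ | ⟨S, A, p, hS, hp, rfl⟩
  · refine Or.inl ⟨_, C * A, p, hS.conj (iot _ F C).1, hp, ?_⟩
    rw [← R.conj_V (by omega) C hS, map_mul]; group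
  · refine Or.inr ⟨_, C * A, p, hS.conj C.1, hp, ?_⟩
    rw [← R.conj_U (by omega) C hS, map_mul]; group

theorem good_U (hk : 1 ≤ k) {M : Matrix (Fin (k + 2)) (Fin (k + 2)) F} (hM : IsAlt M) {y : G}
    (hy : R.Good y) : R.Good (R.U M * y) := by
  rcases hy with ⟨S, A, p, hS, hp, rfl⟩ | ⟨S, A, p, hS, hp, rfl⟩
  · by_cases hb : S.mulVec (A.1.mulVec (ev (k + 1) F)) = 0
    · have hT : IsAlt (A.1.transpose * S * A.1) := by simpa using hS.conj A.1.transpose
      have hT0 : (A.1.transpose * S * A.1).mulVec (ev (k + 1) F) = 0 := by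
        rw [← Matrix.mulVec_mulVec, ← Matrix.mulVec_mulVec, hb, Matrix.mulVec_zero]
      have hU : IsAlt ((A⁻¹).1 * M * (iot _ F A).1) := by rw [coe_iot]; exact hM.conj _
      refine Or.inl ⟨0, A, R.U ((A⁻¹).1 * M * (iot _ F A).1) * (R.V (A.1.transpose * S * A.1) * p),
        IsAlt.zero, mul_mem (R.U_mem_P1 hU) (mul_mem (R.V_mem_P1 hT hT0) hp), ?_⟩
      rw [R.V_zero, one_mul, R.V_ψ A hS, ← mul_assoc (R.ψ A), ← R.U_ψ A hM]
      group
    · obtain ⟨S', A', hS', h⟩ := R.switch hk hS hb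
      refine Or.inr ⟨M + S', A', _, hM.add hS', mul_mem h hp, ?_⟩
      rw [R.U_add]; group
  · refine Or.inr ⟨M + S, A, p, hM.add hS, hp, ?_⟩
    rw [R.U_add]; group

variable {R} {θ : G →* Matrix (Fin (k + 2) ⊕ Fin (k + 2)) (Fin (k + 2) ⊕ Fin (k + 2)) F}

theorem θ_form1 (h : Rep R θ) {S : Matrix (Fin (k + 2)) (Fin (k + 2)) F} (hS : IsAlt S)
    (A : SpecialLinearGroup (Fin (k + 2)) F) :
    (θ (R.V S * R.ψ A)).mulVec (ev2 (k + 1) F) =
      Sum.elim (A.1.mulVec (ev (k + 1) F)) (-S.mulVec (A.1.mulVec (ev (k + 1) F))) := by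
  rw [map_mul, θ_V h hS, h.hψ, coe_levi, ← Matrix.mulVec_mulVec]
  simp [ev2, Matrix.fromBlocks_mulVec, Matrix.neg_mulVec]

theorem θ_W (h : Rep R θ) :
    (θ (R.φ 0 1 (wS F))).mulVec (ev2 (k + 1) F) =
      Sum.elim (0 : Fin (k + 2) → F) (-Pi.single 1 1) := by
  rw [h.hφ 0 1 zero_ne_one, d2_ne zero_ne_one, d2m, wS_coe]
  funext i
  rcases i with i | i <;>
    simp [ev2, Matrix.fromBlocks_mulVec, Matrix.add_mulVec, mulVec_ev, Matrix.one_apply, pr, Am, Matrix.single,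
      Pi.single_apply, ev]
  all_goals split_ifs <;> simp_all

theorem θ_form2 (h : Rep R θ) {S : Matrix (Fin (k + 2)) (Fin (k + 2)) F} (hS : IsAlt S)
    (A : SpecialLinearGroup (Fin (k + 2)) F) :
    (θ (R.U S * R.ψ A * R.φ 0 1 (wS F))).mulVec (ev2 (k + 1) F) =
      Sum.elim (S.mulVec (-(iot _ F A • (Pi.single 1 1 : Fin (k + 2) → F))))
        (-(iot _ F A • (Pi.single 1 1 : Fin (k + 2) → F))) := by
  rw [map_mul, map_mul, ← Matrix.mulVec_mulVec, θ_W h, θ_U h hS, h.hψ, coe_levi, ← Matrix.mulVec_mulVec, ← smul_eq_mv]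
  simp only [Matrix.fromBlocks_mulVec, Sum.elim_comp_inl, Sum.elim_comp_inr, Matrix.mulVec_zero, Matrix.zero_mulVec,
    zero_add, neg_zero, Matrix.one_mulVec, Matrix.mulVec_neg]

theorem θ_P1 (h : Rep R θ) {p : G} (hp : p ∈ R.P1) : (θ p).mulVec (ev2 (k + 1) F) = ev2 (k + 1) F := by
  induction hp using Subgroup.closure_induction with
  | mem x hx =>
    rcases hx with (⟨A, hA, rfl⟩ | ⟨M, hM, rfl⟩) | ⟨M, hM, rfl⟩
    · have := θ_form1 h IsAlt.zero A
      rwa [R.V_zero, one_mul, Matrix.zero_mulVec, neg_zero, (hA : A.1.mulVec (ev (k + 1) F) = ev (k + 1) F)] at this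
    · rw [θ_U h hM]
      simp [ev2, Matrix.fromBlocks_mulVec]
    · have := θ_form1 h hM.1 1
      rwa [map_one, mul_one, Matrix.SpecialLinearGroup.coe_one, Matrix.one_mulVec, hM.2, neg_zero] at this
  | one => simp
  | mul a b _ _ ha hb => rw [map_mul, ← Matrix.mulVec_mulVec, hb, ha]
  | inv a _ ha =>
    conv_lhs => rw [← ha]
    rw [Matrix.mulVec_mulVec, ← map_mul, inv_mul_cancel, map_one, Matrix.one_mulVec]

theorem good_V (h : Rep R θ) (hk : 1 ≤ k) {M : Matrix (Fin (k + 2)) (Fin (k + 2)) F} (hM : IsAlt M) {y : G}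
    (hy : R.Good y) : R.Good (R.V M * y) := by
  rcases hy with ⟨S, A, p, hS, hp, rfl⟩ | ⟨S, A, p, hS, hp, rfl⟩
  · refine Or.inl ⟨M + S, A, p, hM.add hS, hp, ?_⟩
    rw [R.V_add]; group
  · obtain ⟨b0, hb0⟩ : ∃ b0, b0 = iot _ F A • (Pi.single 1 1 : Fin (k + 2) → F) := ⟨_, rfl⟩
    by_cases ha : S.mulVec b0 = 0
    · have hT : IsAlt ((A⁻¹).1 * S * (iot _ F A).1) := by rw [coe_iot]; exact hS.conj _
      have hT0 : ∀ a, ((A⁻¹).1 * S * (iot _ F A).1) a 1 = 0 := fun a => by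
        have e : ((A⁻¹).1 * S * (iot _ F A).1).mulVec (Pi.single 1 1) = 0 := by
          rw [← Matrix.mulVec_mulVec, ← Matrix.mulVec_mulVec, smul_eq_mv (iot _ F A), ← hb0, ha, Matrix.mulVec_zero]
        have e' := congrFun e a
        rw [Matrix.mulVec_single_one] at e'
        exact e'
      have hV : IsAlt (A.1.transpose * M * A.1) := by simpa using hM.conj A.1.transpose
      refine Or.inr ⟨0, A, (R.φ 0 1 (wS F))⁻¹ * R.V (A.1.transpose * M * A.1) * R.φ 0 1 (wS F) *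
        ((R.φ 0 1 (wS F))⁻¹ * R.U ((A⁻¹).1 * S * (iot _ F A).1) * R.φ 0 1 (wS F)) * p, IsAlt.zero,
        mul_mem (mul_mem (R.conj_V0 hV) (R.conj_U1 hT hT0)) hp, ?_⟩
      rw [R.U_zero, one_mul, R.U_ψ A hS,
        show R.V M * (R.ψ A * R.U ((A⁻¹).1 * S * (iot _ F A).1) * R.φ 0 1 (wS F) * p) =
          (R.V M * R.ψ A) * (R.U ((A⁻¹).1 * S * (iot _ F A).1) * R.φ 0 1 (wS F) * p) by group, R.V_ψ A hM]
      group
    · have ha' : S.mulVec (-b0) ≠ 0 := by
        rw [Matrix.mulVec_neg]; exact neg_ne_zero.2 ha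
      have hd : dotProduct (S.mulVec (-b0)) b0 = 0 := by
        rw [Matrix.mulVec_neg, neg_dotProduct, dotProduct_comm, alt_dot hS, neg_zero]
      obtain ⟨A1, S1, hS1, hA1, hS1a⟩ := exists_vec ha' hd
      have hb : S1.mulVec (A1.1.mulVec (ev (k + 1) F)) ≠ 0 := by
        rw [hA1, hS1a]
        intro e
        rw [e, Matrix.mulVec_zero] at ha
        exact ha rfl
      obtain ⟨S2, A2, hS2, hq⟩ := R.switch hk hS1 hb
      obtain ⟨q, hqe⟩ : ∃ q, q = (R.U S2 * R.ψ A2 * R.φ 0 1 (wS F))⁻¹ * (R.V S1 * R.ψ A1) := ⟨_, rfl⟩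
      rw [← hqe] at hq
      have e1 : R.V S1 * R.ψ A1 = R.U S2 * R.ψ A2 * R.φ 0 1 (wS F) * q := by rw [hqe]; group
      have e2 := congrArg (fun g => (θ g).mulVec (ev2 (k + 1) F)) e1
      rw [θ_form1 h hS1, map_mul θ _ q, ← Matrix.mulVec_mulVec, θ_P1 h hq, θ_form2 h hS2,
        hA1, hS1a, Sum.elim_eq_iff] at e2
      obtain ⟨e3, e4⟩ := e2
      rw [neg_inj] at e4
      rw [← e4, Matrix.mulVec_neg, Matrix.mulVec_neg, neg_inj] at e3
      rw [hb0] at e3 e4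
      have hr := R.coset2 hS hS2 e4.symm e3
      refine Or.inl ⟨M + S1, A1, q⁻¹ * ((R.U S * R.ψ A * R.φ 0 1 (wS F))⁻¹ *
        (R.U S2 * R.ψ A2 * R.φ 0 1 (wS F)))⁻¹ * p, hM.add hS1, mul_mem (mul_mem (inv_mem hq) (inv_mem hr)) hp, ?_⟩
      rw [R.V_add, show R.V M * R.V S1 * R.ψ A1 = R.V M * (R.V S1 * R.ψ A1) by group, e1]
      group

theorem good_mem (h : Rep R θ) (hk : 1 ≤ k) {g : G} (hg : g ∈ R.gen) : R.Good g := by
  let H : Subgroup G :=
    { carrier := {x | (∀ y, R.Good y → R.Good (x * y)) ∧ ∀ y, R.Good y → R.Good (x⁻¹ * y)}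
      one_mem' := ⟨fun y hy => by rwa [one_mul], fun y hy => by rwa [inv_one, one_mul]⟩
      mul_mem' := fun {a b} ha hb => ⟨fun y hy => by rw [mul_assoc]; exact ha.1 _ (hb.1 y hy),
        fun y hy => by rw [mul_inv_rev, mul_assoc]; exact hb.2 _ (ha.2 y hy)⟩
      inv_mem' := fun {a} ha => ⟨ha.2, by rw [inv_inv]; exact ha.1⟩ }
  have hle : R.gen ≤ H := (Subgroup.closure_le _).2 (by
    rintro x (⟨A, rfl⟩ | hx)
    · exact ⟨fun y hy => R.good_ψ A hy, fun y hy => by rw [← map_inv]; exact R.good_ψ _ hy⟩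
    · obtain ⟨⟨⟨i, j⟩, hij⟩, A, rfl⟩ := Set.mem_iUnion.1 hx
      exact R.φ_mem_of hij H
        (fun t => ⟨fun y hy => R.good_U hk (Am_alt _ _ _) hy,
          fun y hy => by rw [← R.U_neg]; exact R.good_U hk (Am_alt _ _ _).neg hy⟩)
        (fun t => ⟨fun y hy => good_V h hk (Am_alt _ _ _) hy,
          fun y hy => by rw [← R.V_neg]; exact good_V h hk (Am_alt _ _ _).neg hy⟩) A)
  have := (hle hg).1 1 R.good_one
  rwa [mul_one] at this

/-- the stabiliser of the first vector -/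
theorem stab (h : Rep R θ) (hk : 1 ≤ k) {g : G} (hg : g ∈ R.gen)
    (he : (θ g).mulVec (ev2 (k + 1) F) = ev2 (k + 1) F) : g ∈ R.P1 := by
  rcases good_mem h hk hg with ⟨S, A, p, hS, hp, rfl⟩ | ⟨S, A, p, hS, hp, rfl⟩
  · rw [map_mul θ _ p, ← Matrix.mulVec_mulVec, θ_P1 h hp, θ_form1 h hS, ev2,
      Sum.elim_eq_iff, neg_eq_zero] at he
    refine mul_mem (mul_mem (R.V_mem_P1 hS ?_) (R.ψ_mem_P1 he.1)) hp
    rw [← he.1]; exact he.2
  · rw [map_mul θ _ p, ← Matrix.mulVec_mulVec, θ_P1 h hp, θ_form2 h hS, ev2,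
      Sum.elim_eq_iff, neg_eq_zero, smul_eq_zero_iff_eq] at he
    exact absurd he.2 (by simp)

theorem exists_reach (h : Rep R θ) {v : Fin (k + 2) ⊕ Fin (k + 2) → F} (hv : v ≠ 0)
    (hq : Cfsg.quadFormPlus (k + 2) F v = 0) :
    ∃ g ∈ R.gen, (θ g).mulVec (ev2 (k + 1) F) = v := by
  obtain ⟨a, b, rfl⟩ : ∃ a b, v = Sum.elim a b := ⟨v ∘ Sum.inl, v ∘ Sum.inr, (Sum.elim_comp_inl_inr v).symm⟩
  have hab : dotProduct a b = 0 := hq
  by_cases ha : a = 0
  · subst ha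
    have hb : b ≠ 0 := fun e => hv (by subst e; funext x; cases x <;> rfl)
    obtain ⟨A, hA⟩ := CfsgLib.Classical.exists_smul_eq_SL (v := (Pi.single 1 1 : Fin (k + 2) → F)) (by simp)
      (neg_ne_zero.2 hb)
    refine ⟨R.U 0 * R.ψ (iot _ F A) * R.φ 0 1 (wS F),
      mul_mem (mul_mem (R.U_mem_gen IsAlt.zero) (R.ψ_mem_gen _)) (R.φ_mem_gen zero_ne_one _), ?_⟩
    rw [θ_form2 h IsAlt.zero, iot_iot, hA, neg_neg, Matrix.zero_mulVec]
  · obtain ⟨A, S, hS, hA, hSa⟩ := exists_vec ha (b := -b) (by rw [dotProduct_neg, hab, neg_zero])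
    refine ⟨R.V S * R.ψ A, mul_mem (R.V_mem_gen hS) (R.ψ_mem_gen _), ?_⟩
    rw [θ_form1 h hS, hA, hSa, neg_neg]

theorem θ_iso (h : Rep R θ) {g : G} (hg : g ∈ R.gen) (v : Fin (k + 2) ⊕ Fin (k + 2) → F) :
    Cfsg.quadFormPlus (k + 2) F ((θ g).mulVec v) = Cfsg.quadFormPlus (k + 2) F v := by
  let H : Subgroup G :=
    { carrier := {x | ∀ v, Cfsg.quadFormPlus (k + 2) F ((θ x).mulVec v) = Cfsg.quadFormPlus (k + 2) F v}
      one_mem' := fun v => by rw [map_one, Matrix.one_mulVec]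
      mul_mem' := fun {a b} ha hb v => by rw [map_mul, ← Matrix.mulVec_mulVec, ha, hb]
      inv_mem' := fun {a} ha v => by
        conv_rhs => rw [← Matrix.one_mulVec v, ← map_one θ, ← mul_inv_cancel a, map_mul, ← Matrix.mulVec_mulVec, ha] }
  have hdot : ∀ a b : Fin (k + 2) → F, Cfsg.quadFormPlus (k + 2) F (Sum.elim a b) = dotProduct a b := fun a b => rfl
  have hle : R.gen ≤ H := (Subgroup.closure_le _).2 (by
    rintro x (⟨A, rfl⟩ | hx)
    · intro v
      obtain ⟨a, b, rfl⟩ : ∃ a b, v = Sum.elim a b := ⟨v ∘ Sum.inl, v ∘ Sum.inr, (Sum.elim_comp_inl_inr v).symm⟩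
      rw [h.hψ, coe_levi, Matrix.fromBlocks_mulVec]
      simp only [Sum.elim_comp_inl, Sum.elim_comp_inr, Matrix.zero_mulVec, add_zero, zero_add, hdot, coe_iot]
      rw [Matrix.mulVec_transpose, dotProduct_comm, ← Matrix.dotProduct_mulVec, Matrix.mulVec_mulVec,
        ← Matrix.SpecialLinearGroup.coe_mul, inv_mul_cancel, Matrix.SpecialLinearGroup.coe_one, Matrix.one_mulVec,
        dotProduct_comm]
    · obtain ⟨⟨⟨i, j⟩, hij⟩, A, rfl⟩ := Set.mem_iUnion.1 hx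
      refine R.φ_mem_of hij H (fun t v => ?_) (fun t v => ?_) A
      all_goals
        obtain ⟨a, b, rfl⟩ : ∃ a b, v = Sum.elim a b := ⟨v ∘ Sum.inl, v ∘ Sum.inr, (Sum.elim_comp_inl_inr v).symm⟩
      · rw [θ_U h (Am_alt _ _ _), Matrix.fromBlocks_mulVec]
        simp only [Sum.elim_comp_inl, Sum.elim_comp_inr, Matrix.zero_mulVec, zero_add, Matrix.one_mulVec, hdot,
          add_dotProduct]
        rw [add_eq_left, dotProduct_comm, alt_dot (Am_alt _ _ _)]
      · rw [θ_V h (Am_alt _ _ _), Matrix.fromBlocks_mulVec]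
        simp only [Sum.elim_comp_inl, Sum.elim_comp_inr, Matrix.zero_mulVec, add_zero, Matrix.one_mulVec, hdot,
          dotProduct_add, Matrix.neg_mulVec, dotProduct_neg, alt_dot (Am_alt _ _ _), neg_zero, zero_add])
  exact hle hg v

/-- the Siegel matrix at the first vector -/
theorem siegel_base (h : Rep R θ) {a b : Fin (k + 2) → F} (hb : b 0 = 0) (hab : dotProduct a b = 0) (c : F) :
    ∃ g ∈ R.gen, θ g = Cfsg.siegelMatrix (Cfsg.quadFormPlus (k + 2) F) (ev2 (k + 1) F) (Sum.elim a b) c := by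
  obtain ⟨T, hTe⟩ : ∃ T, T = c • (Matrix.vecMulVec a (ev (k + 1) F) - Matrix.vecMulVec (ev (k + 1) F) a) := ⟨_, rfl⟩
  have hT : IsAlt T := by
    refine ⟨?_, fun i => ?_⟩
    · simp [hTe, Matrix.transpose_vecMulVec, ← smul_neg]
    · simp [hTe, Matrix.vecMulVec_apply, mul_comm]
  obtain ⟨r, hr⟩ : ∃ r : Fin (k + 1) → F, r = fun l => -(c * b l.succ) := ⟨_, rfl⟩
  refine ⟨R.U T * R.ψ (rowSL r), mul_mem (R.U_mem_gen hT) (R.ψ_mem_gen _), ?_⟩
  have hR : (rowSL r : Matrix (Fin (k + 2)) (Fin (k + 2)) F) = 1 - c • Matrix.vecMulVec (ev (k + 1) F) b := by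
    rw [coe_rowSL]
    apply pad_ext <;> intros <;>
      simp [hr, Matrix.vecMulVec_apply, ev, Matrix.one_apply, hb, Fin.succ_ne_zero, (Fin.succ_ne_zero _).symm]
  have hI : (iot _ F (rowSL r) : Matrix (Fin (k + 2)) (Fin (k + 2)) F) =
      1 + c • Matrix.vecMulVec b (ev (k + 1) F) := by
    have e : (rowSL r)⁻¹ = rowSL (-r) := inv_eq_of_mul_eq_one_right (by
      rw [← SpBounded.rowSL_add, add_neg_cancel, SpBounded.rowSL_zero])
    rw [coe_iot, e]
    apply pad_ext <;> intros <;>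
      simp [coe_rowSL, hr, Matrix.vecMulVec_apply, ev, Matrix.one_apply, hb, Fin.succ_ne_zero,
        (Fin.succ_ne_zero _).symm, eq_comm]
  have hTb : T * Matrix.vecMulVec b (ev (k + 1) F) = 0 := by
    rw [Matrix.mul_vecMulVec, hTe, Matrix.smul_mulVec, Matrix.sub_mulVec, Matrix.vecMulVec_mulVec,
      Matrix.vecMulVec_mulVec, hab, show dotProduct (ev (k + 1) F) b = 0 by simp [ev, hb]]
    simp
  rw [map_mul, θ_U h hT, h.hψ, coe_levi, Matrix.fromBlocks_multiply, hR, hI, Cfsg.siegelMatrix, ev2,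
    polarVec_elim, polarVec_elim]
  simp only [Matrix.one_mul, Matrix.mul_zero, Matrix.zero_mul, add_zero, zero_add, Matrix.mul_add, Matrix.mul_one,
    Matrix.mul_smul, hTb, smul_zero]
  rw [hTe]
  ext i j
  rcases i with i | i <;> rcases j with j | j <;>
    simp [Matrix.vecMulVec_apply, Matrix.one_apply] <;> ring

/-- all Siegel matrices are in the image -/
theorem siegel_mem (h : Rep R θ) {u v : Fin (k + 2) ⊕ Fin (k + 2) → F}
    (hu : Cfsg.quadFormPlus (k + 2) F u = 0) (hv : Cfsg.quadFormPlus (k + 2) F v = 0)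
    (huv : QuadraticMap.polar (Cfsg.quadFormPlus (k + 2) F) u v = 0) (c : F) :
    ∃ g ∈ R.gen, θ g = Cfsg.siegelMatrix (Cfsg.quadFormPlus (k + 2) F) u v c := by
  by_cases h0 : u = 0
  · refine ⟨1, one_mem _, ?_⟩
    subst h0
    rw [map_one, Cfsg.siegelMatrix, show (0 : Fin (k + 2) ⊕ Fin (k + 2) → F) = Sum.elim (0 : Fin (k + 2) → F) (0 : Fin (k + 2) → F) by
      funext x; cases x <;> rfl, polarVec_elim]
    simp [show Sum.elim (0 : Fin (k + 2) → F) (0 : Fin (k + 2) → F) = 0 by funext x; cases x <;> rfl]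
  obtain ⟨g, hg, hgu⟩ := exists_reach h h0 hu
  obtain ⟨a, b, hab⟩ : ∃ a b, (θ g⁻¹).mulVec v = Sum.elim a b := ⟨_, _, (Sum.elim_comp_inl_inr _).symm⟩
  have hv' : dotProduct a b = 0 := by
    have := θ_iso h (inv_mem hg) v
    rw [hab, hv] at this
    exact this
  have hgv : (θ g).mulVec (Sum.elim a b) = v := by
    rw [← hab, Matrix.mulVec_mulVec, ← map_mul, mul_inv_cancel, map_one, Matrix.one_mulVec]
  have hb : b 0 = 0 := by
    rw [← hgu, ← hgv] at huv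
    simp only [QuadraticMap.polar, ← Matrix.mulVec_add, θ_iso h hg] at huv
    have hd := dot_polarVec (ev2 (k + 1) F) (Sum.elim a b)
    rw [QuadraticMap.polar, huv, ev2, polarVec_elim] at hd
    simpa [dotProduct, Fintype.sum_sum_type, ev, Pi.single_apply] using hd
  obtain ⟨x, hx, hxe⟩ := siegel_base h hb hv' c
  refine ⟨g * x * g⁻¹, mul_mem (mul_mem hg hx) (inv_mem hg), ?_⟩
  rw [map_mul, map_mul, hxe, mul_siegel (θ_iso h hg), hgu, hgv, mul_assoc, ← map_mul, mul_inv_cancel, map_one, mul_one]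

end Pre

end CfsgLib.Known.DBounded
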