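import Cfsg.Agent.Lib.Known.DBounded.Good
import Cfsg.Agent.Lib.Known.SpBounded.Kernel

/-!
# The relations determine the orthogonal group
-/

set_option autoImplicit false

namespace CfsgLib.Known.DBounded

open Matrix (SpecialLinearGroup fromBlocks)
open CfsgLib.Known.ClassicalSections (levi)
open CfsgLib.Known.SpBounded (iot iot_iot iot_tr coe_iot tA ev ev2 mulVec_ev smul_eq_mv xp xm wS bs coe_bs bs_tA
  bs_diag iot_bs rowSL coe_rowSL rowSL_zero rowSL_add rowSL_inv rowSL_single bs_rowSL pad pad_ext pad_zero pad_one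
  pad_add RowSupp rowSupp_sub embM embM_one embM_mul embM_fromBlocks)
open scoped Matrix

variable {F : Type*} [Field F] {k : ℕ}

theorem pad_Am (a b : Fin k) (t : F) : pad 0 (Am a b t) = Am a.succ b.succ t := by
  apply pad_ext <;> intros <;>
    simp [Am, Matrix.single, Fin.succ_ne_zero, (Fin.succ_ne_zero _).symm]

theorem eq_pad_of_alt {M : Matrix (Fin (k + 1)) (Fin (k + 1)) F} (hM : IsAlt M) (h : M.mulVec (ev k F) = 0) :
    M = pad 0 (M.submatrix Fin.succ Fin.succ) := by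
  have hc : ∀ i, M i 0 = 0 := fun i => (mulVec_ev M i).symm.trans (congrFun h i)
  have hr : ∀ i, M 0 i = 0 := fun i => by rw [hM.apply i 0, hc i, neg_zero]
  apply pad_ext <;> intros <;> simp [hc, hr]

theorem IsAlt.submatrix {M : Matrix (Fin (k + 1)) (Fin (k + 1)) F} (hM : IsAlt M) :
    IsAlt (M.submatrix Fin.succ Fin.succ) :=
  ⟨Matrix.ext fun i j => hM.apply i.succ j.succ, fun i => hM.2 i.succ⟩

theorem rowSupp_eq' {M : Matrix (Fin (k + 1)) (Fin (k + 1)) F} (hM : IsAlt M) (h : RowSupp M) :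
    M = ∑ j : Fin k, Am 0 j.succ (M 0 j.succ) := by
  ext a b
  rw [Matrix.sum_apply]
  cases a using Fin.cases <;> cases b using Fin.cases <;>
    simp [Am, Matrix.single, Fin.succ_ne_zero, (Fin.succ_ne_zero _).symm, hM.2 0, h _ _]
  rename_i a
  exact hM.apply 0 a.succ

theorem pad_one_add_pr (i j : Fin k) (x : F) : pad 1 (1 + pr i j x) = 1 + pr i.succ j.succ x := by
  apply pad_ext <;> intros <;>
    simp [pr, Matrix.one_apply, Matrix.single, Fin.succ_ne_zero, (Fin.succ_ne_zero _).symm]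

theorem embM_levi (B : SpecialLinearGroup (Fin k) F) : embM (levi k B) = levi (k + 1) (bs k F B) := by
  rw [coe_levi, coe_levi, embM_fromBlocks, pad_zero, iot_bs, coe_bs, coe_bs]

theorem embM_d2 {i j : Fin k} (h : i ≠ j) (M : SpecialLinearGroup (Fin 2) F) :
    embM (d2 i j M) = d2 i.succ j.succ M := by
  rw [d2_ne h, d2_ne fun e => h (Fin.succ_inj.1 e), d2m, d2m, embM_fromBlocks, pad_one_add_pr, pad_one_add_pr,
    pad_Am, pad_Am]

/-- the embedding -/
def embH (k : ℕ) (F : Type*) [Field F] :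
    Matrix (Fin k ⊕ Fin k) (Fin k ⊕ Fin k) F →* Matrix (Fin (k + 1) ⊕ Fin (k + 1)) (Fin (k + 1) ⊕ Fin (k + 1)) F where
  toFun := embM
  map_one' := embM_one
  map_mul' := embM_mul

theorem embH_injective : Function.Injective (embH k F) := fun A B h => by
  have h' : embM A = embM B := h
  ext i j
  have key := fun a b => congrFun (congrFun h' a) b
  rcases i with i | i <;> rcases j with j | j
  · simpa [embM, Matrix.toBlocks₁₁] using key (Sum.inl i.succ) (Sum.inl j.succ)
  · simpa [embM, Matrix.toBlocks₁₂] using key (Sum.inl i.succ) (Sum.inr j.succ)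
  · simpa [embM, Matrix.toBlocks₂₁] using key (Sum.inr i.succ) (Sum.inl j.succ)
  · simpa [embM, Matrix.toBlocks₂₂] using key (Sum.inr i.succ) (Sum.inr j.succ)

theorem embH_fix_right (A : Matrix (Fin k ⊕ Fin k) (Fin k ⊕ Fin k) F) :
    (embH k F A).mulVec (Sum.elim (0 : Fin (k + 1) → F) (ev k F)) = Sum.elim (0 : Fin (k + 1) → F) (ev k F) := by
  show (embM A).mulVec _ = _
  simp [embM, Matrix.fromBlocks_mulVec, SpBounded.pad_mulVec_ev]

namespace Pre

variable {G : Type*} [Group G]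

/-- the relations one size down -/
def tail (R : Pre F (k + 1) G) : Pre F k G where
  ψ := R.ψ.comp (bs k F)
  φ i j := R.φ i.succ j.succ
  symm i j h M := R.symm _ _ (fun e => h (Fin.succ_inj.1 e)) M
  fix i j a b hij h h1 h2 h3 h4 M t := by
    simp only [MonoidHom.comp_apply, bs_tA]
    exact R.fix _ _ _ _ (fun e => hij (Fin.succ_inj.1 e)) _ (fun e => h1 (Fin.succ_inj.1 e))
      (fun e => h2 (Fin.succ_inj.1 e)) (fun e => h3 (Fin.succ_inj.1 e)) (fun e => h4 (Fin.succ_inj.1 e)) _ _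
  pair i j h M t := by
    simp only [MonoidHom.comp_apply, bs_tA]
    exact R.pair _ _ _ M t
  long i j a b hij h h1 h2 h3 h4 M N := R.long _ _ _ _ (fun e => hij (Fin.succ_inj.1 e)) (fun e => h (Fin.succ_inj.1 e))
    (fun e => h1 (Fin.succ_inj.1 e)) (fun e => h2 (Fin.succ_inj.1 e)) (fun e => h3 (Fin.succ_inj.1 e))
    (fun e => h4 (Fin.succ_inj.1 e)) _ _
  sym i j l hij h hlj t := by
    simp only [MonoidHom.comp_apply, bs_tA]
    exact R.sym _ _ _ (fun e => hij (Fin.succ_inj.1 e)) _ (fun e => hlj (Fin.succ_inj.1 e)) t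
  sym' i j l hij h hlj t := by
    simp only [MonoidHom.comp_apply, bs_tA]
    exact R.sym' _ _ _ (fun e => hij (Fin.succ_inj.1 e)) _ (fun e => hlj (Fin.succ_inj.1 e)) t
  sq i j h := by
    simp only [MonoidHom.comp_apply, bs_diag]
    exact R.sq _ _ _
  fx i j l hij h hlj s t := by
    simp only [MonoidHom.comp_apply, bs_tA]
    exact R.fx _ _ _ (fun e => hij (Fin.succ_inj.1 e)) _ (fun e => hlj (Fin.succ_inj.1 e)) s t
  fx' i j l hij h hlj s t := by
    simp only [MonoidHom.comp_apply, bs_tA]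
    exact R.fx' _ _ _ (fun e => hij (Fin.succ_inj.1 e)) _ (fun e => hlj (Fin.succ_inj.1 e)) s t
  move i j l hij h hlj s t := by
    simp only [MonoidHom.comp_apply, bs_tA]
    exact R.move _ _ _ (fun e => hij (Fin.succ_inj.1 e)) _ (fun e => hlj (Fin.succ_inj.1 e)) s t
  move' i j l hij h hlj s t := by
    simp only [MonoidHom.comp_apply, bs_tA]
    exact R.move' _ _ _ (fun e => hij (Fin.succ_inj.1 e)) _ (fun e => hlj (Fin.succ_inj.1 e)) s t
  tor i j l hij h hlj c hc := by
    simp only [MonoidHom.comp_apply, bs_diag]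
    exact R.tor _ _ _ (fun e => hij (Fin.succ_inj.1 e)) _ (fun e => hlj (Fin.succ_inj.1 e)) c hc

/-- the relations inside the generated subgroup -/
noncomputable def res {m : ℕ} (R : Pre F m G) : Pre F m R.gen where
  ψ := R.ψ.codRestrict R.gen R.ψ_mem_gen
  φ i j := if h : i = j then 1 else (R.φ i j).codRestrict R.gen (R.φ_mem_gen h)
  symm i j h M := by
    rw [dif_neg h, dif_neg h.symm]
    exact Subtype.ext (R.symm i j h M)
  fix i j a b hij h h1 h2 h3 h4 M t := by
    rw [dif_neg hij]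
    exact Subtype.ext (R.fix i j a b hij h h1 h2 h3 h4 M t).eq
  pair i j h M t := by
    rw [dif_neg h]
    exact Subtype.ext (R.pair i j h M t).eq
  long i j a b hij h h1 h2 h3 h4 M N := by
    rw [dif_neg hij, dif_neg h]
    exact Subtype.ext (R.long i j a b hij h h1 h2 h3 h4 M N).eq
  sym i j l hij h hlj t := by
    rw [dif_neg hij, dif_neg hlj.symm]
    exact Subtype.ext (R.sym i j l hij h hlj t)
  sym' i j l hij h hlj t := by
    rw [dif_neg hij, dif_neg hlj.symm]
    exact Subtype.ext (R.sym' i j l hij h hlj t)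
  sq i j h := by
    rw [dif_neg h]
    exact Subtype.ext (R.sq i j h)
  fx i j l hij h hlj s t := by
    rw [dif_neg hij]
    exact Subtype.ext (R.fx i j l hij h hlj s t).eq
  fx' i j l hij h hlj s t := by
    rw [dif_neg hij]
    exact Subtype.ext (R.fx' i j l hij h hlj s t).eq
  move i j l hij h hlj s t := by
    rw [dif_neg hij, dif_neg hlj]
    exact Subtype.ext (R.move i j l hij h hlj s t)
  move' i j l hij h hlj s t := by
    rw [dif_neg hij, dif_neg hlj]
    exact Subtype.ext (R.move' i j l hij h hlj s t)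
  tor i j l hij h hlj c hc := by
    rw [dif_neg hij, dif_neg hlj]
    exact Subtype.ext (R.tor i j l hij h hlj c hc)

theorem res_φ {m : ℕ} (R : Pre F m G) {i j : Fin m} (h : i ≠ j) (M : SpecialLinearGroup (Fin 2) F) :
    (R.res.φ i j M).1 = R.φ i j M := by
  show ((if h : i = j then (1 : SpecialLinearGroup (Fin 2) F →* R.gen) else (R.φ i j).codRestrict R.gen (R.φ_mem_gen h)) M).1 = _
  rw [dif_neg h]; rfl

theorem res_gen {m : ℕ} (R : Pre F m G) (x : R.gen) : x ∈ R.res.gen := by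
  have hle : R.gen ≤ R.res.gen.map R.gen.subtype := (Subgroup.closure_le _).2 (by
    rintro y (⟨A, rfl⟩ | hy)
    · exact ⟨_, R.res.ψ_mem_gen A, rfl⟩
    · obtain ⟨⟨⟨i, j⟩, h⟩, A, rfl⟩ := Set.mem_iUnion.1 hy
      exact ⟨_, R.res.φ_mem_gen h A, R.res_φ h A⟩)
  obtain ⟨y, hy, e⟩ := hle x.2
  rwa [Subtype.ext e] at hy

variable (R : Pre F (k + 2) G)

/-- the unipotent part of the stabiliser -/
noncomputable def unip : Subgroup G where
  carrier := {g | ∃ r M, IsAlt M ∧ RowSupp M ∧ g = R.ψ (rowSL r) * R.U M}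
  one_mem' := ⟨0, 0, IsAlt.zero, fun _ _ => rfl, by rw [rowSL_zero, map_one, R.U_zero, one_mul]⟩
  mul_mem' := by
    rintro _ _ ⟨r, M, hM, h, rfl⟩ ⟨r', M', hM', h', rfl⟩
    refine ⟨r + r', (rowSL (-r')).1 * M * (rowSL (-r')).1.transpose + M', (hM.conj _).add hM', ?_, ?_⟩
    · intro a b
      rw [Matrix.add_apply, h.conj (-r') a b, h' a b, add_zero]
    · rw [rowSL_add, map_mul, R.U_add, ← R.conj_U (by omega) _ hM, ← rowSL_inv, map_inv]
      group
  inv_mem' := by
    rintro _ ⟨r, M, hM, h, rfl⟩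
    refine ⟨-r, (rowSL r).1 * (-M) * (rowSL r).1.transpose, hM.neg.conj _, ?_, ?_⟩
    · exact RowSupp.conj (fun a b => by rw [Matrix.neg_apply, h a b, neg_zero]) r
    · rw [← R.conj_U (by omega) _ hM.neg, R.U_neg, ← rowSL_inv, map_inv]
      group

variable {R}

theorem ψ_row_mem (r : Fin (k + 1) → F) : R.ψ (rowSL r) ∈ R.unip :=
  ⟨r, 0, IsAlt.zero, fun _ _ => rfl, by rw [R.U_zero, mul_one]⟩

theorem U_row_mem {M : Matrix (Fin (k + 2)) (Fin (k + 2)) F} (hM : IsAlt M) (h : RowSupp M) : R.U M ∈ R.unip :=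
  ⟨0, M, hM, h, by rw [rowSL_zero, map_one, one_mul]⟩

theorem rowSupp_Am0 (b : Fin (k + 2)) (t : F) : RowSupp (Am 0 b t) := fun a c => by
  simp [Am, Matrix.single, (Fin.succ_ne_zero _).symm]

theorem xp0_mem {b : Fin (k + 2)} (hb : b ≠ 0) (t : F) : R.φ 0 b (xp t) ∈ R.unip := by
  rw [← R.U_ne hb.symm]; exact U_row_mem (Am_alt _ _ _) (rowSupp_Am0 _ _)

/-- the normaliser -/
noncomputable def nor (R : Pre F (k + 2) G) : Subgroup G where
  carrier := {x | ∀ n ∈ R.unip, x * n * x⁻¹ ∈ R.unip ∧ x⁻¹ * n * x ∈ R.unip}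
  one_mem' := fun n hn => by simpa using hn
  mul_mem' := fun {x y} hx hy n hn => by
    refine ⟨?_, ?_⟩
    · rw [show x * y * n * (x * y)⁻¹ = x * (y * n * y⁻¹) * x⁻¹ by group]
      exact (hx _ (hy n hn).1).1
    · rw [show (x * y)⁻¹ * n * (x * y) = y⁻¹ * (x⁻¹ * n * x) * y by group]
      exact (hy _ (hx n hn).2).2
  inv_mem' := fun {x} hx n hn => by
    rw [inv_inv]
    exact ⟨(hx n hn).2, (hx n hn).1⟩

theorem ψ_bs_nor (B : SpecialLinearGroup (Fin (k + 1)) F) : R.ψ (bs (k + 1) F B) ∈ R.nor := by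
  have key : ∀ B : SpecialLinearGroup (Fin (k + 1)) F, ∀ n ∈ R.unip,
      R.ψ (bs (k + 1) F B) * n * (R.ψ (bs (k + 1) F B))⁻¹ ∈ R.unip := by
    rintro B _ ⟨r, M, hM, h, rfl⟩
    refine ⟨r ᵥ* (B⁻¹).1, _, hM.conj (bs (k + 1) F B).1, h.conj_bs B, ?_⟩
    rw [← R.conj_U (by omega) _ hM, ← bs_rowSL, map_mul, map_mul, map_inv]
    group
  intro n hn
  refine ⟨key B n hn, ?_⟩
  have := key B⁻¹ n hn
  rwa [map_inv, map_inv, inv_inv] at this

theorem U_nor {X : Matrix (Fin (k + 2)) (Fin (k + 2)) F} (hX : IsAlt X) : R.U X ∈ R.nor := by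
  have key : ∀ X : Matrix (Fin (k + 2)) (Fin (k + 2)) F, IsAlt X → ∀ n ∈ R.unip,
      R.U X * n * (R.U X)⁻¹ ∈ R.unip := by
    rintro X hX _ ⟨r, M, hM, h, rfl⟩
    refine ⟨r, (rowSL (-r)).1 * X * (rowSL (-r)).1.transpose + -X + M,
      ((hX.conj _).add hX.neg).add hM, fun a b => ?_, ?_⟩
    · rw [Matrix.add_apply, rowSupp_sub X (-r) a b, h a b, add_zero]
    · rw [mul_assoc, mul_assoc (R.ψ _), (show R.U M * (R.U X)⁻¹ = (R.U X)⁻¹ * R.U M from
        ((R.U_comm M X).inv_right).eq), R.U_add, R.U_add, R.U_neg, ← R.conj_U (by omega) _ hX, ← rowSL_inv, map_inv]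
      group
  intro n hn
  refine ⟨key X hX n hn, ?_⟩
  have := key (-X) hX.neg n hn
  rwa [R.U_neg, inv_inv] at this

/-- the only commutator that is not trivial -/
theorem V_conj_xp {i j : Fin (k + 2)} (hij : i ≠ j) (hi : i ≠ 0) (hj : j ≠ 0) (t s : F) :
    R.φ i j (xm t) * R.φ 0 i (xp s) * (R.φ i j (xm t))⁻¹ ∈ R.unip := by
  obtain ⟨W, hW⟩ : ∃ W, W = R.φ j i (wS F) := ⟨_, rfl⟩
  obtain ⟨Y, hY⟩ : ∃ Y, Y = R.φ j i (xp t) := ⟨_, rfl⟩
  obtain ⟨P, hP⟩ : ∃ P, P = R.ψ (tA hj.symm (-s)) := ⟨_, rfl⟩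
  obtain ⟨Z, hZ⟩ : ∃ Z, Z = R.φ 0 i (xp (s * t)) := ⟨_, rfl⟩
  have hX : R.φ i j (xm t) = W * Y * W⁻¹ := by
    rw [R.symm j i hij.symm, tw_xm, hW, hY, ← map_inv, ← map_mul, ← map_mul]
    congr 1
    rw [eq_comm, mul_inv_eq_iff_eq_mul]
    refine Subtype.ext ?_
    rw [Matrix.SpecialLinearGroup.coe_mul, Matrix.SpecialLinearGroup.coe_mul, SpBounded.xm_coe, SpBounded.wS_coe,
      SpBounded.xp_coe]
    ext a b
    fin_cases a <;> fin_cases b <;> simp
  have hs : R.φ 0 i (xp s) = W * P * W⁻¹ := by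
    rw [hW, hP, R.sym j i 0 hij.symm hj.symm hi.symm, R.symm i 0 hi, tw_xp]
  have hYP : Y * P * Y⁻¹ = Z * P := by
    have e : P * Y⁻¹ * P⁻¹ = Y⁻¹ * Z := by
      rw [hP, hY, hZ, ← map_inv (R.φ j i), show (xp t)⁻¹ = xp (-t) from Matrix.SpecialLinearGroup.transvection_inv _ t,
        R.move j i 0 hij.symm hj.symm hi.symm (-s) (-t), neg_mul_neg]
    calc Y * P * Y⁻¹ = Y * (P * Y⁻¹ * P⁻¹) * P := by group
      _ = Z * P := by rw [e]; group
  have hWZ : W * Z * W⁻¹ = R.ψ (tA hj.symm (s * t)) := by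
    have e1 : Z = W * R.ψ (tA hj.symm (-(s * t))) * W⁻¹ := by
      rw [hW, hZ, R.sym j i 0 hij.symm hj.symm hi.symm, R.symm i 0 hi, tw_xp]
    have e2 := R.sq_conj_col hij.symm hj.symm hi.symm (s * t)
    rw [← hW] at e2
    rw [e1, ← e2]; group
  have e : R.φ i j (xm t) * R.φ 0 i (xp s) * (R.φ i j (xm t))⁻¹ = (W * Z * W⁻¹) * R.φ 0 i (xp s) := by
    rw [hX, hs]
    calc W * Y * W⁻¹ * (W * P * W⁻¹) * (W * Y * W⁻¹)⁻¹ = W * (Y * P * Y⁻¹) * W⁻¹ := by group
      _ = _ := by rw [hYP]; group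
  rw [e, hWZ]
  refine mul_mem ?_ (xp0_mem hi _)
  obtain ⟨j', rfl⟩ := Fin.exists_succ_eq.2 hj
  rw [← rowSL_single]
  exact ψ_row_mem _

theorem V_nor {i j : Fin (k + 2)} (hij : i ≠ j) (hi : i ≠ 0) (hj : j ≠ 0) (t : F) : R.φ i j (xm t) ∈ R.nor := by
  have key : ∀ t : F, ∀ n ∈ R.unip, R.φ i j (xm t) * n * (R.φ i j (xm t))⁻¹ ∈ R.unip := by
    intro t
    let K : Subgroup G := R.unip.comap (MulAut.conj (R.φ i j (xm t))).toMonoidHom
    rintro _ ⟨r, M, hM, h, rfl⟩
    have h1 : R.ψ (rowSL r) ∈ K := SpBounded.rowSL_mem (K.comap R.ψ) (fun b s => by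
      show R.φ i j (xm t) * R.ψ (tA (Fin.succ_ne_zero b).symm s) * (R.φ i j (xm t))⁻¹ ∈ R.unip
      have hc : Commute (R.φ i j (xm t)) (R.ψ (tA (Fin.succ_ne_zero b).symm s)) := by
        by_cases hb : b.succ = i
        · subst hb; exact R.fx' _ j 0 hij (Fin.succ_ne_zero b).symm hj.symm t s
        by_cases hb' : b.succ = j
        · subst hb'
          rw [R.symm _ i hij.symm, tw_xm]
          exact R.fx' _ i 0 hij.symm (Fin.succ_ne_zero b).symm hi.symm _ s
        exact R.fix i j 0 b.succ hij _ hi.symm hj.symm hb hb' _ _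
      rw [hc.eq, mul_inv_cancel_right, ← rowSL_single]
      exact ψ_row_mem _) r
    have h2 : R.U M ∈ K := by
      rw [rowSupp_eq' hM h]
      refine Finset.sum_induction _ (fun M => R.U M ∈ K) (fun A B ha hb => ?_) ?_ fun b _ => ?_
      · show R.U (A + B) ∈ K
        rw [R.U_add]; exact mul_mem ha hb
      · show R.U 0 ∈ K
        rw [R.U_zero]; exact one_mem K
      · show R.φ i j (xm t) * R.U (Am 0 b.succ (M 0 b.succ)) * (R.φ i j (xm t))⁻¹ ∈ R.unip
        have hb0 : (0 : Fin (k + 2)) ≠ b.succ := (Fin.succ_ne_zero b).symm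
        rw [R.U_ne hb0]
        by_cases hb : b.succ = i
        · rw [hb]; exact V_conj_xp hij hi hj _ _
        by_cases hb' : b.succ = j
        · rw [hb', R.symm j i hij.symm, tw_xm]; exact V_conj_xp hij.symm hj hi _ _
        rw [(R.long i j 0 b.succ hij hb0 hi.symm hj.symm hb hb' _ _).eq, mul_inv_cancel_right]
        exact xp0_mem hb0.symm _
    exact (mul_mem h1 h2 : R.ψ (rowSL r) * R.U M ∈ K)
  intro n hn
  refine ⟨key t n hn, ?_⟩
  have e : (R.φ i j (xm t))⁻¹ = R.φ i j (xm (-t)) := by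
    rw [← map_inv, show xm (-t) = (xm t)⁻¹ from (Matrix.SpecialLinearGroup.transvection_inv _ t).symm]
  have := key (-t) n hn
  rw [← e, inv_inv] at this
  exact this

theorem tail_le_nor : R.tail.gen ≤ R.nor := (Subgroup.closure_le _).2 (by
  rintro x (⟨A, rfl⟩ | hx)
  · exact ψ_bs_nor A
  · obtain ⟨⟨⟨i, j⟩, h⟩, A, rfl⟩ := Set.mem_iUnion.1 hx
    have h' : i.succ ≠ j.succ := fun e => h (Fin.succ_inj.1 e)
    exact R.φ_mem_of h' _ (fun t => U_nor (Am_alt _ _ _))
      (fun t => by rw [R.V_ne h']; exact V_nor h' (Fin.succ_ne_zero i) (Fin.succ_ne_zero j) t) A)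

theorem P1_split {g : G} (hg : g ∈ R.P1) : ∃ n ∈ R.unip, ∃ g' ∈ R.tail.gen, g = n * g' := by
  let S : Subgroup G :=
    { carrier := {g | ∃ n ∈ R.unip, ∃ g' ∈ R.tail.gen, g = n * g'}
      one_mem' := ⟨1, one_mem _, 1, one_mem _, (one_mul 1).symm⟩
      mul_mem' := by
        rintro _ _ ⟨n, hn, a, ha, rfl⟩ ⟨n', hn', a', ha', rfl⟩
        exact ⟨n * (a * n' * a⁻¹), mul_mem hn ((tail_le_nor ha) n' hn').1, a * a', mul_mem ha ha', by group⟩
      inv_mem' := by
        rintro _ ⟨n, hn, a, ha, rfl⟩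
        exact ⟨a⁻¹ * n⁻¹ * a, ((tail_le_nor ha) _ (inv_mem hn)).2, a⁻¹, inv_mem ha, by group⟩ }
  have hN : ∀ {x}, x ∈ R.unip → x ∈ S := fun {x} hx => ⟨x, hx, 1, one_mem _, (mul_one x).symm⟩
  have hT : ∀ {x}, x ∈ R.tail.gen → x ∈ S := fun {x} hx => ⟨1, one_mem _, x, hx, (one_mul x).symm⟩
  have hle : R.P1 ≤ S := (Subgroup.closure_le _).2 (by
    rintro x ((⟨A, hA, rfl⟩ | ⟨M, hM, rfl⟩) | ⟨M, ⟨hM, hM0⟩, rfl⟩)
    · obtain ⟨B, r, rfl⟩ := SpBounded.exists_bs_row hA
      rw [map_mul]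
      exact mul_mem (hT (R.tail.ψ_mem_gen B)) (hN (ψ_row_mem r))
    · refine alt_induction (P := fun M => R.U M ∈ S) ?_ ?_ (fun a b hab t => ?_) hM
      · rw [R.U_zero]; exact one_mem S
      · intro A B _ _ ha hb; rw [R.U_add]; exact mul_mem ha hb
      · cases a using Fin.cases with
        | zero => exact hN (U_row_mem (Am_alt _ _ _) (rowSupp_Am0 _ _))
        | succ a =>
          cases b using Fin.cases with
          | zero => rw [Am_anti]; exact hN (U_row_mem (Am_alt _ _ _) (rowSupp_Am0 _ _))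
          | succ b =>
            rw [R.U_ne hab]
            exact hT (R.tail.φ_mem_gen (fun e => hab (by rw [e])) (xp t))
    · rw [eq_pad_of_alt hM hM0]
      refine alt_induction (P := fun M => R.V (pad 0 M) ∈ S) ?_ ?_ (fun a b hab t => ?_) hM.submatrix
      · rw [pad_zero, R.V_zero]; exact one_mem S
      · intro A B _ _ ha hb
        have e : pad (0 : F) (A + B) = pad 0 A + pad 0 B := by rw [pad_add, add_zero]
        rw [e, R.V_add]; exact mul_mem ha hb
      · rw [pad_Am, R.V_ne fun e => hab (Fin.succ_inj.1 e)]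
        exact hT (R.tail.φ_mem_gen hab (xm t)))
  exact hle hg

end Pre

/-- the kernel is trivial -/
theorem Pre.eq_one : ∀ {m : ℕ}, 2 ≤ m → ∀ {G : Type*} [Group G] {R : Pre F m G}
    {θ : G →* Matrix (Fin m ⊕ Fin m) (Fin m ⊕ Fin m) F}, Pre.Rep R θ → ∀ g ∈ R.gen, θ g = 1 → g = 1 := by
  intro m hm
  induction m, hm using Nat.le_induction with
  | base =>
    intro G _ R θ h g hg hθ
    have h01 : (0 : Fin 2) ≠ 1 := zero_ne_one
    have hcomm : ∀ A M, Commute (R.ψ A) (R.φ 0 1 M) := fun A M => by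
      have := CfsgLib.Classical.closure_transvection_eq_top
        ((Subgroup.centralizer {R.φ 0 1 M}).comap R.ψ) fun a b hab t => by
          show R.ψ (tA hab t) ∈ Subgroup.centralizer {R.φ 0 1 M}
          refine Subgroup.mem_centralizer_singleton_iff.2 ?_
          fin_cases a <;> fin_cases b <;> first | exact absurd rfl hab | skip
          · exact (R.pair 0 1 h01 M t).eq.symm
          · have e := R.pair 1 0 h01.symm (tw F M) t
            rw [R.symm 0 1 h01, tw_tw] at e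
            exact e.eq.symm
      exact (Subgroup.mem_centralizer_singleton_iff.1 (this.ge (Subgroup.mem_top A)))
    let Φ := MonoidHom.noncommCoprod R.ψ (R.φ 0 1) hcomm
    have hle : R.gen ≤ Φ.range := (Subgroup.closure_le _).2 (by
      rintro x (⟨A, rfl⟩ | hx)
      · exact ⟨(A, 1), by simp [Φ]⟩
      · obtain ⟨⟨⟨i, j⟩, hij⟩, A, rfl⟩ := Set.mem_iUnion.1 hx
        fin_cases i <;> fin_cases j <;> first | exact absurd rfl hij | skip
        · exact ⟨(1, A), by simp [Φ]⟩
        · exact ⟨(1, tw F A), by simp only [Φ, MonoidHom.noncommCoprod_apply, map_one, one_mul]; exact (R.symm 0 1 h01 A).symm⟩)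
    obtain ⟨⟨A, M⟩, rfl⟩ := hle hg
    rw [MonoidHom.noncommCoprod_apply, map_mul, h.hψ, h.hφ 0 1 h01, d2_ne h01, coe_levi, d2m,
      Matrix.fromBlocks_multiply, ← Matrix.fromBlocks_one, Matrix.fromBlocks_inj] at hθ
    obtain ⟨e1, e2, e3, -⟩ := hθ
    simp only [Matrix.zero_mul, add_zero, zero_add] at e1 e2 e3
    have hA2 : A.1.det = 1 := A.2
    have hM2 : M.1.det = 1 := M.2
    rw [Matrix.det_fin_two] at hA2 hM2
    have p00 := congrFun (congrFun e1 0) 0
    have p01 := congrFun (congrFun e1 0) 1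
    have p10 := congrFun (congrFun e1 1) 0
    have p11 := congrFun (congrFun e1 1) 1
    have q01 := congrFun (congrFun e2 0) 1
    have q00 := congrFun (congrFun e2 0) 0
    simp [Matrix.mul_apply, Fin.sum_univ_two, pr, Am, Matrix.single, Matrix.one_apply] at p00 p01 p10 p11 q01 q00
    have hm1 : M.1 0 1 = 0 := by
      rcases q01 with h1 | h1
      · rcases q00 with h2 | h2
        · exfalso; rw [h1] at p00; simp at p00
        · exact h2
      · exact h1
    have hI : (iot (Fin 2) F A).1.det = 1 := (iot (Fin 2) F A).2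
    rw [Matrix.det_fin_two] at hI
    have r10 := congrFun (congrFun e3 0) 1
    have r00 := congrFun (congrFun e3 0) 0
    simp [Matrix.mul_apply, Fin.sum_univ_two, pr, Am, Matrix.single, Matrix.one_apply] at r10 r00
    have hm2 : M.1 1 0 = 0 := by
      rcases r10 with h1 | h1
      · rcases r00 with h2 | h2
        · exfalso; rw [h1, h2] at hI; simp at hI
        · exact h2
      · exact h1
    have hm0 : M.1 0 0 ≠ 0 := fun e => by rw [e] at p00; simp at p00
    have ha01 : A.1 0 1 = 0 := by rcases p01 with h1 | h1 <;> first | exact h1 | exact absurd h1 hm0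
    have ha10 : A.1 1 0 = 0 := by rcases p10 with h1 | h1 <;> first | exact h1 | exact absurd h1 hm0
    rw [ha01, zero_mul, sub_zero] at hA2
    rw [hm1, zero_mul, sub_zero] at hM2
    have hsq : M.1 0 0 * M.1 0 0 = 1 := by linear_combination (-(M.1 0 0) * M.1 0 0) * hA2 + (A.1 1 1 * M.1 0 0) * p00 + p11
    have hM11 : M.1 1 1 = M.1 0 0 := by linear_combination (M.1 0 0) * hM2 - (M.1 1 1) * hsq
    have ha00 : A.1 0 0 = M.1 0 0 := by linear_combination (M.1 0 0) * p00 - A.1 0 0 * hsq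
    have ha11 : A.1 1 1 = M.1 0 0 := by linear_combination (M.1 0 0) * p11 - A.1 1 1 * hsq
    show R.ψ A * R.φ 0 1 M = 1
    rcases mul_self_eq_one_iff.1 hsq with he | he
    · have eA : A = 1 := Subtype.ext (by ext a b; fin_cases a <;> fin_cases b <;> simp [ha00, ha01, ha10, ha11, he])
      have eM : M = 1 := Subtype.ext (by ext a b; fin_cases a <;> fin_cases b <;> simp [hm1, hm2, hM11, he])
      rw [eA, eM, map_one, map_one, one_mul]
    · have hc : (-1 : F) ≠ 0 := neg_ne_zero.2 one_ne_zero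
      have eA : A = SpecialLinearGroup.diag2n h01 (-1) hc := Subtype.ext (by
        rw [SpecialLinearGroup.diag2n_coe]
        ext a b; fin_cases a <;> fin_cases b <;> simp [ha00, ha01, ha10, ha11, he, inv_neg])
      have eM : M = SpBounded.hd (-1) hc := Subtype.ext (by
        rw [SpBounded.hd_coe]
        ext a b; fin_cases a <;> fin_cases b <;> simp [hm1, hm2, hM11, he, inv_neg])
      rw [eA, eM, R.sq 0 1 h01, ← map_mul, SpBounded.diag_mul, SpBounded.diag_eq_one h01 _ (by ring), map_one]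
  | succ m hm ih =>
    intro G _ R θ h g hg hθ
    obtain ⟨k, rfl⟩ : ∃ k, m = k + 1 := ⟨m - 1, by omega⟩
    have hP : g ∈ R.P1 := Pre.stab h (by omega) hg (by rw [hθ, Matrix.one_mulVec])
    obtain ⟨n, hn, g', hg', rfl⟩ := Pre.P1_split hP
    let θu := θ.toHomUnits
    let eu := Units.map (embH (k + 1) F)
    have hle : R.tail.gen ≤ eu.range.comap θu := (Subgroup.closure_le _).2 (by
      rintro x (⟨A, rfl⟩ | hx)
      · exact ⟨(levi (k + 1)).toHomUnits A, Units.ext (by
          show embM (levi (k + 1) A) = θ _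
          rw [embM_levi]; exact (h.hψ _).symm)⟩
      · obtain ⟨⟨⟨i, j⟩, hij⟩, A, rfl⟩ := Set.mem_iUnion.1 hx
        exact ⟨(d2 i j).toHomUnits A, Units.ext (by
          show embM (d2 i j A) = θ _
          rw [embM_d2 hij]; exact (h.hφ _ _ (fun e => hij (Fin.succ_inj.1 e)) _).symm)⟩)
    obtain ⟨S, hS⟩ : θu g' ∈ eu.range := hle hg'
    have hS' : embH (k + 1) F S.1 = θ g' := congrArg Units.val hS
    obtain ⟨r, M, hM, hR, rfl⟩ := hn
    have hf : (θ (R.ψ (rowSL r) * R.U M)).mulVec (Sum.elim (0 : Fin (k + 2) → F) (ev (k + 1) F)) =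
        Sum.elim (0 : Fin (k + 2) → F) (ev (k + 1) F) := by
      conv_lhs => rw [← embH_fix_right S.1, hS', Matrix.mulVec_mulVec, ← map_mul, hθ, Matrix.one_mulVec]
    rw [map_mul, h.hψ, Pre.θ_U h hM, coe_levi, ← Matrix.mulVec_mulVec,
      Matrix.fromBlocks_mulVec, Matrix.fromBlocks_mulVec, Sum.elim_eq_iff] at hf
    simp at hf
    obtain ⟨hf1, hf2⟩ := hf
    have hr : r = 0 := by
      have h2 : (iot _ F (rowSL (-r))).1.mulVec (ev (k + 1) F) = ev (k + 1) F := by
        rw [← rowSL_inv, map_inv, smul_eq_mv, inv_smul_eq_iff, ← smul_eq_mv, hf2]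
      rw [← rowSL_inv, coe_iot, inv_inv] at h2
      funext b
      have := (mulVec_ev _ b.succ).symm.trans (congrFun h2 b.succ)
      simpa [coe_rowSL, ev] using this
    subst hr
    rw [rowSL_zero, Matrix.SpecialLinearGroup.coe_one, Matrix.one_mul] at hf1
    have hM0 : M = 0 := by
      rw [eq_pad_of_alt hM hf1]
      have : M.submatrix Fin.succ Fin.succ = 0 := by ext a b; exact hR a b
      rw [this, pad_zero]
    subst hM0
    rw [rowSL_zero, map_one, R.U_zero, one_mul, one_mul] at hθ ⊢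
    have hinj : Function.Injective eu := Units.map_injective embH_injective
    let θ' : R.tail.gen →* Matrix (Fin (k + 1) ⊕ Fin (k + 1)) (Fin (k + 1) ⊕ Fin (k + 1)) F :=
      (Units.coeHom _).comp ((MonoidHom.ofInjective hinj).symm.toMonoidHom.comp
        ((θu.comp R.tail.gen.subtype).codRestrict eu.range fun x => hle x.2))
    have hθ' : ∀ (x : R.tail.gen) S, θ x.1 = embH (k + 1) F S → θ' x = S := fun x S e => by
      have hu : IsUnit S := by
        obtain ⟨T, hT⟩ := hle x.2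
        have : embH (k + 1) F T.1 = embH (k + 1) F S := (congrArg Units.val hT).trans e
        exact ⟨T, embH_injective this⟩
      obtain ⟨u, rfl⟩ := hu
      show ((MonoidHom.ofInjective hinj).symm
        (((θu.comp R.tail.gen.subtype).codRestrict eu.range fun x => hle x.2) x)).1 = u.1
      congr 1
      rw [MulEquiv.symm_apply_eq]
      exact Subtype.ext (Units.ext e)
    have hrep : Pre.Rep R.tail.res θ' :=
      { hψ := fun A => hθ' _ _ (by
          show θ _ = embM _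
          rw [embM_levi]; exact h.hψ _)
        hφ := fun i j hij A => hθ' _ _ (by
          show θ _ = embM _
          rw [embM_d2 hij, Pre.res_φ _ hij]; exact h.hφ _ _ (fun e => hij (Fin.succ_inj.1 e)) _) }
    have := ih hrep ⟨g', hg'⟩ (R.tail.res_gen _) (hθ' _ _ (by rw [hθ, map_one]))
    exact congrArg Subtype.val this

end CfsgLib.Known.DBounded
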