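import Cfsg.Agent.Lib.Known.DBounded.UHom
import Cfsg.Agent.Lib.Known.ClassicalSections

/-!
# The images among the matrices
-/

set_option autoImplicit false

namespace CfsgLib.Known.DBounded

open Matrix (SpecialLinearGroup fromBlocks single)
open CfsgLib.Known.ClassicalSections (levi)
open CfsgLib.Known.SpBounded (iot iot_iot coe_iot mu coe_mu xp xp_coe xm tA)

variable {F : Type*} [Field F] {m : ℕ}

theorem coe_levi (A : SpecialLinearGroup (Fin m) F) :
    levi (F := F) m A = fromBlocks A.1 0 0 (iot (Fin m) F A).1 := rfl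

/-- the projection onto two coordinates -/
def pr (i j : Fin m) (c : F) : Matrix (Fin m) (Fin m) F := single i i c + single j j c

/-- the matrix of a rank one group at a pair of coordinates -/
def d2m (i j : Fin m) (M : Matrix (Fin 2) (Fin 2) F) : Matrix (Fin m ⊕ Fin m) (Fin m ⊕ Fin m) F :=
  fromBlocks (1 + pr i j (M 0 0 - 1)) (Am i j (M 0 1)) (Am i j (-(M 1 0))) (1 + pr i j (M 1 1 - 1))

theorem d2m_one (i j : Fin m) : d2m i j (1 : Matrix (Fin 2) (Fin 2) F) = 1 := by
  simp [d2m, pr, Am, Matrix.fromBlocks_one]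

theorem pr_mul {i j : Fin m} (h : i ≠ j) (a b : F) : pr i j a * pr i j b = pr i j (a * b) := by
  simp [pr, add_mul, mul_add, h, Ne.symm h]

theorem pr_Am {i j : Fin m} (h : i ≠ j) (a b : F) : pr i j a * Am i j b = Am i j (a * b) := by
  simp [pr, Am, add_mul, mul_sub, h, Ne.symm h]

theorem Am_pr {i j : Fin m} (h : i ≠ j) (a b : F) : Am i j a * pr i j b = Am i j (a * b) := by
  simp [pr, Am, sub_mul, mul_add, h, Ne.symm h]
  abel

theorem Am_mul {i j : Fin m} (h : i ≠ j) (a b : F) : Am i j a * Am i j b = pr i j (-(a * b)) := by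
  simp [pr, Am, sub_mul, mul_sub, h, Ne.symm h]
  ext p q
  simp only [Matrix.add_apply, Matrix.sub_apply, Matrix.neg_apply, Matrix.zero_apply, Matrix.single, Matrix.of_apply]
  split_ifs <;> ring

theorem d2m_mul {i j : Fin m} (h : i ≠ j) (M N : Matrix (Fin 2) (Fin 2) F) :
    d2m i j (M * N) = d2m i j M * d2m i j N := by
  simp only [d2m, Matrix.fromBlocks_multiply, Matrix.fromBlocks_inj, Matrix.mul_apply, Fin.sum_univ_two, add_mul,
    mul_add, one_mul, mul_one, pr_mul h, pr_Am h, Am_pr h, Am_mul h]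
  refine ⟨?_, ?_, ?_, ?_⟩ <;> ext p q <;>
    simp only [Matrix.add_apply, Matrix.sub_apply, pr, Am, Matrix.single, Matrix.of_apply] <;>
    split_ifs <;> ring

/-- the rank one group at a pair of coordinates -/
def d2 (i j : Fin m) : SpecialLinearGroup (Fin 2) F →* Matrix (Fin m ⊕ Fin m) (Fin m ⊕ Fin m) F where
  toFun M := if i = j then 1 else d2m i j M.1
  map_one' := by split_ifs; exacts [rfl, d2m_one i j]
  map_mul' M N := by
    split_ifs with h
    · exact (one_mul 1).symm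
    · rw [Matrix.SpecialLinearGroup.coe_mul, d2m_mul h]

theorem d2_ne {i j : Fin m} (h : i ≠ j) (M : SpecialLinearGroup (Fin 2) F) : d2 i j M = d2m i j M.1 := if_neg h

/-- exchanging the halves with a sign -/
def tau (m : ℕ) (F : Type*) [Field F] :
    Matrix (Fin m ⊕ Fin m) (Fin m ⊕ Fin m) F →* Matrix (Fin m ⊕ Fin m) (Fin m ⊕ Fin m) F where
  toFun A := fromBlocks A.toBlocks₂₂ (-A.toBlocks₂₁) (-A.toBlocks₁₂) A.toBlocks₁₁
  map_one' := by
    ext i j
    rcases i with i | i <;> rcases j with j | j <;>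
      simp [Matrix.toBlocks₁₁, Matrix.toBlocks₁₂, Matrix.toBlocks₂₁, Matrix.toBlocks₂₂, Matrix.one_apply]
  map_mul' A B := by
    obtain ⟨a, b, c, d, rfl⟩ : ∃ a b c d, A = fromBlocks a b c d := ⟨_, _, _, _, (Matrix.fromBlocks_toBlocks A).symm⟩
    obtain ⟨a', b', c', d', rfl⟩ : ∃ a b c d, B = fromBlocks a b c d :=
      ⟨_, _, _, _, (Matrix.fromBlocks_toBlocks B).symm⟩
    simp [Matrix.fromBlocks_multiply, Matrix.neg_mul, Matrix.mul_neg, add_comm]

theorem tau_fromBlocks (A B C D : Matrix (Fin m) (Fin m) F) :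
    tau m F (fromBlocks A B C D) = fromBlocks D (-C) (-B) A := by
  show fromBlocks _ _ _ _ = _
  simp

theorem tau_tau (A : Matrix (Fin m ⊕ Fin m) (Fin m ⊕ Fin m) F) : tau m F (tau m F A) = A := by
  obtain ⟨a, b, c, d, rfl⟩ : ∃ a b c d, A = fromBlocks a b c d := ⟨_, _, _, _, (Matrix.fromBlocks_toBlocks A).symm⟩
  simp [tau_fromBlocks]

theorem neg_Am (i j : Fin m) (t : F) : -Am i j t = Am i j (-t) := by
  ext a b
  simp only [Am, Matrix.neg_apply, Matrix.sub_apply, Matrix.single, Matrix.of_apply]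
  split_ifs <;> ring

namespace Pre

variable {G : Type*} [Group G]

/-- compatibility with the matrices -/
structure Rep (R : Pre F m G) (θ : G →* Matrix (Fin m ⊕ Fin m) (Fin m ⊕ Fin m) F) : Prop where
  hψ : ∀ A, θ (R.ψ A) = levi m A
  hφ : ∀ i j, i ≠ j → ∀ M, θ (R.φ i j M) = d2 i j M

variable {R : Pre F m G} {θ : G →* Matrix (Fin m ⊕ Fin m) (Fin m ⊕ Fin m) F}

theorem Rep.flip (h : Rep R θ) : Rep R.flip ((tau m F).comp θ) where
  hψ A := by simp [Pre.flip, h.hψ, coe_levi, tau_fromBlocks, iot_iot]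
  hφ i j hij M := by
    simp only [Pre.flip, MonoidHom.comp_apply, h.hφ i j hij, d2_ne hij, d2m, tau_fromBlocks, coe_mu]
    simp [neg_Am]

theorem θ_U (h : Rep R θ) {M : Matrix (Fin m) (Fin m) F} (hM : IsAlt M) :
    θ (R.U M) = fromBlocks 1 M 0 1 := by
  refine alt_induction (P := fun M => θ (R.U M) = fromBlocks 1 M 0 1) ?_ ?_ ?_ hM
  · rw [R.U_zero, map_one]; exact Matrix.fromBlocks_one.symm
  · intro A B _ _ ha hb
    rw [R.U_add, map_mul, ha, hb, Matrix.fromBlocks_multiply]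
    simp [add_comm]
  · intro i j hij t
    rw [R.U_ne hij, h.hφ i j hij, d2_ne hij, d2m, xp_coe]
    simp [pr, Am]

theorem θ_V (h : Rep R θ) {M : Matrix (Fin m) (Fin m) F} (hM : IsAlt M) :
    θ (R.V M) = fromBlocks 1 0 (-M) 1 := by
  have h1 : tau m F (θ (R.V M)) = fromBlocks 1 M 0 1 := θ_U h.flip hM
  rw [← tau_tau (θ (R.V M)), h1, tau_fromBlocks, neg_zero]

end Pre

end CfsgLib.Known.DBounded
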