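import Cfsg.Agent.Lib.Known.DBounded.Kernel
import Cfsg.Agent.Lib.Known.ClassicalSections
import Cfsg.Agent.Lib.Known.SLBounded.Glue

/-!
# Elements moving coordinate vectors, and the two blocks
-/

set_option autoImplicit false

namespace CfsgLib.Known.DBounded

open Matrix (SpecialLinearGroup)
open CfsgLib.Known.SpBounded (iot iot_iot iot_tr iot_diag coe_iot coe_iot_inv tA ev mulVec_ev smul_eq_mv xp xm wS hd mono
  mono_single iot_mono_single msgn bs coe_bs bs_tA pad rowSL coe_rowSL rowSL_zero)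

variable {F : Type*} [Field F] {m k : ℕ}

/-- the element and its contragredient move one coordinate vector to the other -/
def Mv (A : SpecialLinearGroup (Fin m) F) (a b : Fin m) : Prop :=
  A • (Pi.single a 1 : Fin m → F) = Pi.single b 1 ∧ iot _ F A • (Pi.single a 1 : Fin m → F) = Pi.single b 1

theorem Mv.one (a : Fin m) : Mv (1 : SpecialLinearGroup (Fin m) F) a a :=
  ⟨one_smul _ _, by rw [map_one, one_smul]⟩

theorem Mv.inv {A : SpecialLinearGroup (Fin m) F} {a b : Fin m} (h : Mv A a b) : Mv A⁻¹ b a :=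
  ⟨by rw [inv_smul_eq_iff]; exact h.1.symm, by rw [map_inv, inv_smul_eq_iff]; exact h.2.symm⟩

theorem Mv.comp {A B : SpecialLinearGroup (Fin m) F} {a b c : Fin m} (hA : Mv A b c) (hB : Mv B a b) :
    Mv (A * B) a c :=
  ⟨by rw [mul_smul, hB.1, hA.1], by rw [map_mul, mul_smul, hB.2, hA.2]⟩

theorem Mv.ne {A : SpecialLinearGroup (Fin m) F} {a b c d : Fin m} (h : Mv A a c) (h' : Mv A b d) (hab : a ≠ b) :
    c ≠ d := by
  rintro rfl
  have e := congrFun (smul_left_cancel A (h.1.trans h'.1.symm)) a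
  rw [Pi.single_eq_same, Pi.single_eq_of_ne hab] at e
  exact one_ne_zero e

theorem Mv.apply {A : SpecialLinearGroup (Fin m) F} {a b : Fin m} (h : Mv A a b) (x : Fin m → F) :
    (A • x) b = x a := by
  have hT := h.inv.2
  rw [← smul_eq_mv, coe_iot_inv] at hT
  have e : ∀ l, A.1 b l = (Pi.single a 1 : Fin m → F) l := fun l => by
    have := congrFun hT l
    rwa [Matrix.mulVec_single_one] at this
  rw [← smul_eq_mv]
  show ∑ l, A.1 b l * x l = x a
  simp [e, Pi.single_apply]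

theorem smul_tA {i j : Fin m} (h : i ≠ j) (t : F) (x : Fin m → F) :
    tA h t • x = x + (t * x j) • Pi.single i 1 := funext fun l => by
  rw [tA, CfsgLib.Classical.transvection_smul_apply]
  by_cases hl : l = i
  · subst hl; simp
  · simp [hl]

theorem Mv.smul_vec {A : SpecialLinearGroup (Fin m) F} (u v : Fin m → F) (c : F) :
    A • (u + c • v) = A • u + c • (A • v) := by
  simp only [← smul_eq_mv, Matrix.mulVec_add, Matrix.mulVec_smul]

theorem conj_tA {A : SpecialLinearGroup (Fin m) F} {a b a' b' : Fin m} (ha : Mv A a a') (hb : Mv A b b')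
    (h : a ≠ b) (h' : a' ≠ b') (t : F) : A * tA h t = tA h' t * A := by
  refine CfsgLib.Classical.sl_ext_smul fun x => ?_
  rw [mul_smul, mul_smul, smul_tA, smul_tA, Mv.smul_vec, ha.1, hb.apply]

theorem conj_diag {A : SpecialLinearGroup (Fin m) F} {a b a' b' : Fin m} (ha : Mv A a a') (hb : Mv A b b')
    (h : a ≠ b) (h' : a' ≠ b') {c : F} (hc : c ≠ 0) :
    A * SpecialLinearGroup.diag2n h c hc = SpecialLinearGroup.diag2n h' c hc * A := by
  have h1 := fun t => conj_tA ha hb h h' t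
  have h2 := fun t => conj_tA hb ha h.symm h'.symm t
  simp only [tA] at h1 h2
  rw [CfsgLib.Classical.diag2n_eq_prod h hc, CfsgLib.Classical.diag2n_eq_prod h' hc]
  simp only [← mul_assoc]
  rw [h1]
  simp only [mul_assoc]
  rw [← mul_assoc A, h2]
  simp only [mul_assoc]
  rw [← mul_assoc A, h1]
  simp only [mul_assoc]
  rw [← mul_assoc A, h1]
  simp only [mul_assoc]
  rw [← mul_assoc A, h2]
  simp only [mul_assoc]
  rw [h1]

theorem Mv.tA_fix {a i j : Fin m} (h : i ≠ j) (hi : a ≠ i) (hj : a ≠ j) (t : F) : Mv (tA h t) a a :=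
  ⟨by rw [smul_tA, Pi.single_eq_of_ne hj.symm, mul_zero, zero_smul, add_zero],
    by rw [iot_tr, smul_tA, Pi.single_eq_of_ne hi.symm, mul_zero, zero_smul, add_zero]⟩

theorem Mv.diag_fix {a i j : Fin m} (h : i ≠ j) (hi : a ≠ i) (hj : a ≠ j) {c : F} (hc : c ≠ 0) :
    Mv (SpecialLinearGroup.diag2n h c hc) a a := by
  have : ∀ (d : F) (hd : d ≠ 0), SpecialLinearGroup.diag2n h d hd • (Pi.single a 1 : Fin m → F) = Pi.single a 1 :=
    fun d hd => funext fun l => by
      rw [CfsgLib.Classical.diag2n_smul_apply]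
      by_cases hl : l = a
      · subst hl; simp [hi, hj]
      · simp [hl]
  exact ⟨this c hc, by rw [iot_diag]; exact this _ _⟩

theorem comm_tA {A : SpecialLinearGroup (Fin m) F} {a b : Fin m} (ha : Mv A a a) (hb : Mv A b b)
    (h : a ≠ b) (t : F) : Commute A (tA h t) := conj_tA ha hb h h t

theorem mv_zero_eq_bs {C : SpecialLinearGroup (Fin (k + 1)) F} (h : Mv C 0 0) : ∃ B, C = bs k F B := by
  have hc1 : C.1.mulVec (ev k F) = ev k F := by rw [smul_eq_mv]; exact h.1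
  obtain ⟨B, r, hBr⟩ := SpBounded.exists_bs_row hc1
  refine ⟨B, ?_⟩
  have hr : r = 0 := by
    funext i
    have e := h.apply (Pi.single i.succ 1 : Fin (k + 1) → F)
    rw [Pi.single_eq_of_ne (Fin.succ_ne_zero i).symm, ← smul_eq_mv, Matrix.mulVec_single_one] at e
    rw [hBr, Matrix.col_apply, Matrix.SpecialLinearGroup.coe_mul, coe_bs, coe_rowSL, Matrix.mul_apply,
      Fin.sum_univ_succ] at e
    simpa using e
  rw [hBr, hr, rowSL_zero, mul_one]

theorem Mv.of_bs {B : SpecialLinearGroup (Fin k) F} {a : Fin k} (h : Mv (bs k F B) a.succ a.succ) : Mv B a a := by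
  have key : ∀ B : SpecialLinearGroup (Fin k) F,
      bs k F B • (Pi.single a.succ 1 : Fin (k + 1) → F) = Pi.single a.succ 1 →
        B • (Pi.single a 1 : Fin k → F) = Pi.single a 1 := by
    intro B e
    funext i
    rw [← smul_eq_mv, Matrix.mulVec_single_one] at e ⊢
    have := congrFun e i.succ
    simpa [coe_bs, Pi.single_apply] using this
  exact ⟨key B h.1, key _ (by rw [← SpBounded.iot_bs]; exact h.2)⟩

/-- moving a three-cycle of coordinates -/
def Pp (k : ℕ) : Equiv.Perm (Fin (k + 2 + 2)) := Equiv.swap 1 2 * Equiv.swap 0 1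

theorem n01 : (0 : Fin (k + 4)) ≠ 1 := by simp [Fin.ext_iff]
theorem n02 : (0 : Fin (k + 4)) ≠ 2 := by
  simp [Fin.ext_iff, Nat.mod_eq_of_lt (show 2 < k + 4 by omega), Nat.mod_eq_of_lt (show 3 < k + 4 by omega)]
theorem n03 : (0 : Fin (k + 4)) ≠ 3 := by
  simp [Fin.ext_iff, Nat.mod_eq_of_lt (show 2 < k + 4 by omega), Nat.mod_eq_of_lt (show 3 < k + 4 by omega)]
theorem n12 : (1 : Fin (k + 4)) ≠ 2 := by
  simp [Fin.ext_iff, Nat.mod_eq_of_lt (show 2 < k + 4 by omega), Nat.mod_eq_of_lt (show 3 < k + 4 by omega)]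
theorem n13 : (1 : Fin (k + 4)) ≠ 3 := by
  simp [Fin.ext_iff, Nat.mod_eq_of_lt (show 2 < k + 4 by omega), Nat.mod_eq_of_lt (show 3 < k + 4 by omega)]
theorem n23 : (2 : Fin (k + 4)) ≠ 3 := by
  simp [Fin.ext_iff, Nat.mod_eq_of_lt (show 2 < k + 4 by omega), Nat.mod_eq_of_lt (show 3 < k + 4 by omega)]

theorem Pp_0 : Pp k 0 = 2 := by
  rw [Pp, Equiv.Perm.mul_apply, Equiv.swap_apply_left, Equiv.swap_apply_left]

theorem Pp_1 : Pp k 1 = 0 := by
  rw [Pp, Equiv.Perm.mul_apply, Equiv.swap_apply_right, Equiv.swap_apply_of_ne_of_ne n01 n02]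

theorem Pp_2 : Pp k 2 = 1 := by
  rw [Pp, Equiv.Perm.mul_apply, Equiv.swap_apply_of_ne_of_ne n02.symm n12.symm, Equiv.swap_apply_right]

theorem Pp_fix {a : Fin (k + 4)} (h0 : a ≠ 0) (h1 : a ≠ 1) (h2 : a ≠ 2) : Pp k a = a := by
  rw [Pp, Equiv.Perm.mul_apply, Equiv.swap_apply_of_ne_of_ne h0 h1, Equiv.swap_apply_of_ne_of_ne h1 h2]

/-- its matrix -/
def Pm (F : Type*) [Field F] (k : ℕ) : SpecialLinearGroup (Fin (k + 4)) F := mono F (Pp k)

theorem msgn_Pp (l : Fin (k + 4)) : msgn F (Pp k) l = 1 := by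
  have : Equiv.Perm.sign (Pp k) = 1 := by
    rw [Pp, map_mul, Equiv.Perm.sign_swap n12, Equiv.Perm.sign_swap n01]; rfl
  simp [msgn, this]

theorem mv_Pm (a : Fin (k + 4)) : Mv (Pm F k) a (Pp k a) :=
  ⟨by rw [Pm, mono_single, msgn_Pp, mul_one], by rw [Pm, iot_mono_single, msgn_Pp, mul_one]⟩

theorem exists_move3 {i j l : Fin (k + 4)} (hij : i ≠ j) (hil : i ≠ l) (hjl : j ≠ l) :
    ∃ A : SpecialLinearGroup (Fin (k + 4)) F, Mv A 0 i ∧ Mv A 1 j ∧ Mv A 2 l := by
  obtain ⟨σ0, e0, e1⟩ := SpBounded.exists_perm_pair (k := k + 2) hij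
  obtain ⟨σ, hσ⟩ : ∃ σ, σ = Equiv.swap (σ0 2) l * σ0 := ⟨_, rfl⟩
  have h20 : σ0 2 ≠ i := fun e => n02 (σ0.injective (e0.trans e.symm))
  have h21 : σ0 2 ≠ j := fun e => n12 (σ0.injective (e1.trans e.symm))
  have f0 : σ 0 = i := by rw [hσ, Equiv.Perm.mul_apply, e0, Equiv.swap_apply_of_ne_of_ne h20.symm hil]
  have f1 : σ 1 = j := by rw [hσ, Equiv.Perm.mul_apply, e1, Equiv.swap_apply_of_ne_of_ne h21.symm hjl]
  have f2 : σ 2 = l := by rw [hσ, Equiv.Perm.mul_apply, Equiv.swap_apply_left]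
  obtain ⟨s, hs⟩ : ∃ s, s = msgn F σ 1 := ⟨_, rfl⟩
  have hss : s * s = 1 := hs ▸ SpBounded.msgn_sq σ 1
  have hs0 : s ≠ 0 := hs ▸ SpBounded.msgn_ne σ 1
  refine ⟨mono F σ * SpecialLinearGroup.diag2n n13 s hs0, ?_, ?_, ?_⟩
  · refine Mv.comp ⟨?_, ?_⟩ (Mv.diag_fix n13 n01 n03 hs0)
    · rw [mono_single, f0, SpBounded.msgn_zero, mul_one]
    · rw [iot_mono_single, f0, SpBounded.msgn_zero, mul_one]
  · have hd : ∀ (d : F) (hd : d ≠ 0), SpecialLinearGroup.diag2n n13 d hd • (Pi.single 1 1 : Fin (k + 4) → F) =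
        (Pi.single 1 d : Fin (k + 4) → F) := fun d hd => funext fun a => by
      rw [CfsgLib.Classical.diag2n_smul_apply]
      by_cases ha : a = 1
      · subst ha; simp
      · simp [ha]
    have hi : s⁻¹ = s := inv_eq_of_mul_eq_one_right hss
    exact ⟨by rw [mul_smul, hd, mono_single, f1, ← hs, hss],
      by rw [map_mul, mul_smul, iot_diag, hd, hi, iot_mono_single, f1, ← hs, hss]⟩
  · have h2 : msgn F σ 2 = 1 := if_neg n12.symm
    refine Mv.comp ⟨?_, ?_⟩ (Mv.diag_fix n13 n12.symm n23 hs0)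
    · rw [mono_single, f2, h2, mul_one]
    · rw [iot_mono_single, f2, h2, mul_one]

theorem exists_third (i j : Fin (k + 4)) : ∃ l : Fin (k + 4), l ≠ i ∧ l ≠ j :=
  CfsgLib.Classical.exists_third (by omega) i j

theorem exists_fourth (i j l : Fin (k + 4)) : ∃ p : Fin (k + 4), p ≠ i ∧ p ≠ j ∧ p ≠ l :=
  SLBounded.exists_fourth (by omega) i j l

theorem exists_move2 {i j : Fin (k + 4)} (hij : i ≠ j) :
    ∃ A : SpecialLinearGroup (Fin (k + 4)) F, Mv A 1 i ∧ Mv A 2 j := by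
  obtain ⟨l, hli, hlj⟩ := exists_third i j
  obtain ⟨A, -, h1, h2⟩ := exists_move3 (F := F) hli hlj hij
  exact ⟨A, h1, h2⟩

/-- a subgroup with the outer transvections contains whatever fixes the two middle vectors -/
theorem fix2_mem (H : Subgroup (SpecialLinearGroup (Fin (k + 4)) F))
    (h : ∀ (a b : Fin (k + 4)) (hab : a ≠ b), a ≠ 1 → a ≠ 2 → b ≠ 1 → b ≠ 2 → ∀ t : F, tA hab t ∈ H)
    {C : SpecialLinearGroup (Fin (k + 4)) F} (h1 : Mv C 1 1) (h2 : Mv C 2 2) : C ∈ H := by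
  have p1 : Mv (Pm F k) 1 0 := by have := mv_Pm (F := F) (k := k) 1; rwa [Pp_1] at this
  have p2 : Mv (Pm F k) 2 1 := by have := mv_Pm (F := F) (k := k) 2; rwa [Pp_2] at this
  have c0 : Mv (Pm F k * C * (Pm F k)⁻¹) 0 0 := (p1.comp h1).comp p1.inv
  have c1 : Mv (Pm F k * C * (Pm F k)⁻¹) 1 1 := (p2.comp h2).comp p2.inv
  obtain ⟨B, hB⟩ := mv_zero_eq_bs (k := k + 3) c0
  rw [hB] at c1
  obtain ⟨B', rfl⟩ := mv_zero_eq_bs (k := k + 2) (Mv.of_bs (a := (0 : Fin (k + 3))) c1)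
  let H' : Subgroup (SpecialLinearGroup (Fin (k + 2)) F) :=
    H.comap ((MulAut.conj (Pm F k)⁻¹).toMonoidHom.comp ((bs (k + 3) F).comp (bs (k + 2) F)))
  have hH : B' ∈ H' := by
    haveI : Nontrivial (Fin (k + 2)) := Fin.nontrivial_iff_two_le.2 (by omega)
    refine (CfsgLib.Classical.closure_transvection_eq_top H' fun a b hab t => ?_).ge (Subgroup.mem_top _)
    show (Pm F k)⁻¹ * bs (k + 3) F (bs (k + 2) F (tA hab t)) * (Pm F k)⁻¹⁻¹ ∈ H
    rw [bs_tA, bs_tA, inv_inv]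
    have ha0 : a.succ.succ ≠ (0 : Fin (k + 4)) := Fin.succ_ne_zero _
    have hb0 : b.succ.succ ≠ (0 : Fin (k + 4)) := Fin.succ_ne_zero _
    have ha1 : a.succ.succ ≠ (1 : Fin (k + 4)) := fun e => Fin.succ_ne_zero a (Fin.succ_inj.1 e)
    have hb1 : b.succ.succ ≠ (1 : Fin (k + 4)) := fun e => Fin.succ_ne_zero b (Fin.succ_inj.1 e)
    obtain ⟨a', ha'⟩ := (Pp k).surjective a.succ.succ
    obtain ⟨b', hb'⟩ := (Pp k).surjective b.succ.succ
    have hne : a' ≠ b' := fun e => hab (Fin.succ_inj.1 (Fin.succ_inj.1 (ha'.symm.trans ((congrArg (Pp k) e).trans hb'))))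
    have mA := mv_Pm (F := F) a'
    have mB := mv_Pm (F := F) b'
    rw [ha'] at mA
    rw [hb'] at mB
    rw [mul_assoc, ← conj_tA mA mB hne, inv_mul_cancel_left]
    exact h a' b' hne (fun e => ha0 (by rw [← ha', e, Pp_1])) (fun e => ha1 (by rw [← ha', e, Pp_2]))
      (fun e => hb0 (by rw [← hb', e, Pp_1])) (fun e => hb1 (by rw [← hb', e, Pp_2])) t
  have hH' : (Pm F k)⁻¹ * bs (k + 3) F (bs (k + 2) F B') * (Pm F k)⁻¹⁻¹ ∈ H := hH
  rw [← hB] at hH'
  simpa [mul_assoc] using hH'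

/-- the first two coordinates and the others -/
def e01 (k : ℕ) : Fin 2 ⊕ Fin (k + 2) ≃ Fin (k + 4) := finSumFinEquiv.trans (finCongr (by omega))

theorem e01_inl0 : e01 k (Sum.inl 0) = 0 := Fin.ext (by simp [e01])
theorem e01_inl1 : e01 k (Sum.inl 1) = 1 := Fin.ext (by simp [e01])
theorem e01_inr (b : Fin (k + 2)) : e01 k (Sum.inr b) = b.succ.succ := Fin.ext (by simp [e01, Nat.add_comm, Nat.add_left_comm])

/-- `SL 2` on the first two coordinates -/
def b01 (F : Type*) [Field F] (k : ℕ) : SpecialLinearGroup (Fin 2) F →* SpecialLinearGroup (Fin (k + 4)) F :=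
  ClassicalSections.blockSL (e01 k)

/-- `SL` on the other coordinates -/
def bR (F : Type*) [Field F] (k : ℕ) : SpecialLinearGroup (Fin (k + 2)) F →* SpecialLinearGroup (Fin (k + 4)) F :=
  (bs (k + 3) F).comp (bs (k + 2) F)

theorem b01_tA {a b : Fin 2} (h : a ≠ b) (h' : e01 k (Sum.inl a) ≠ e01 k (Sum.inl b)) (t : F) :
    b01 F k (tA h t) = tA h' t := by
  refine Subtype.ext (Matrix.ext fun u v => ?_)
  obtain ⟨u, rfl⟩ := (e01 k).surjective u
  obtain ⟨v, rfl⟩ := (e01 k).surjective v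
  show Matrix.reindex (e01 k) (e01 k) (Matrix.fromBlocks (tA h t).1 0 0 1) (e01 k u) (e01 k v) = _
  rw [Matrix.reindex_apply, Matrix.submatrix_apply, Equiv.symm_apply_apply, Equiv.symm_apply_apply,
    SpecialLinearGroup.transvection_coe, SpecialLinearGroup.transvection_coe]
  rcases u with u | u <;> rcases v with v | v <;>
    simp [Matrix.one_apply, Matrix.single, (e01 k).injective.eq_iff]

theorem b01_xp (t : F) : b01 F k (xp t) = tA n01 t := by
  have h' : e01 k (Sum.inl 0) ≠ e01 k (Sum.inl 1) := by rw [e01_inl0, e01_inl1]; exact n01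
  have e := b01_tA (F := F) (k := k) (show (0 : Fin 2) ≠ 1 by decide) h' t
  simp only [e01_inl0, e01_inl1] at e
  exact e

theorem b01_xm (t : F) : b01 F k (xm t) = tA n01.symm t := by
  have h' : e01 k (Sum.inl 1) ≠ e01 k (Sum.inl 0) := by rw [e01_inl0, e01_inl1]; exact n01.symm
  have e := b01_tA (F := F) (k := k) (show (1 : Fin 2) ≠ 0 by decide) h' t
  simp only [e01_inl0, e01_inl1] at e
  exact e

theorem bR_tA {a b : Fin (k + 2)} (h : a ≠ b) (h' : a.succ.succ ≠ b.succ.succ) (t : F) :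
    bR F k (tA h t) = tA h' t := by
  show bs (k + 3) F (bs (k + 2) F (tA h t)) = _
  rw [bs_tA, bs_tA]

theorem mem_of_gens2 (H : Subgroup (SpecialLinearGroup (Fin 2) F)) (hp : ∀ t, xp t ∈ H) (hm : ∀ t, xm t ∈ H)
    (M : SpecialLinearGroup (Fin 2) F) : M ∈ H := by
  refine (CfsgLib.Classical.closure_transvection_eq_top H fun a b hab c => ?_).ge (Subgroup.mem_top M)
  fin_cases a <;> fin_cases b <;> first | exact absurd rfl hab | skip
  · exact hp c
  · exact hm c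

theorem hom_ext2 {G : Type*} [Group G] {f g : SpecialLinearGroup (Fin 2) F →* G} (hp : ∀ t, f (xp t) = g (xp t))
    (hm : ∀ t, f (xm t) = g (xm t)) (M : SpecialLinearGroup (Fin 2) F) : f M = g M :=
  mem_of_gens2 (f.eqLocus g) hp hm M

/-- `SL 2` on the third and first coordinates -/
def b20 (F : Type*) [Field F] (k : ℕ) : SpecialLinearGroup (Fin 2) F →* SpecialLinearGroup (Fin (k + 4)) F :=
  (MulAut.conj (Pm F k)).toMonoidHom.comp (b01 F k)

theorem b20_xp (t : F) : b20 F k (xp t) = tA n02.symm t := by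
  show Pm F k * b01 F k (xp t) * (Pm F k)⁻¹ = _
  rw [b01_xp, mul_inv_eq_iff_eq_mul]
  exact conj_tA (by have := mv_Pm (F := F) (k := k) 0; rwa [Pp_0] at this)
    (by have := mv_Pm (F := F) (k := k) 1; rwa [Pp_1] at this) _ _ t

theorem b20_xm (t : F) : b20 F k (xm t) = tA n02 t := by
  show Pm F k * b01 F k (xm t) * (Pm F k)⁻¹ = _
  rw [b01_xm, mul_inv_eq_iff_eq_mul]
  exact conj_tA (by have := mv_Pm (F := F) (k := k) 1; rwa [Pp_1] at this)
    (by have := mv_Pm (F := F) (k := k) 0; rwa [Pp_0] at this) _ _ t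

end CfsgLib.Known.DBounded
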