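import Cfsg.Agent.Lib.Known.DBounded.Mat
import Cfsg.Agent.Lib.Known.SpBounded.Orbit
import Cfsg.Agent.Lib.Known.SpBounded.Mono

/-!
# The orbit of the first coordinate vector
-/

set_option autoImplicit false

namespace CfsgLib.Known.DBounded

open Matrix (SpecialLinearGroup fromBlocks)
open CfsgLib.Known.SpBounded (iot iot_iot iot_tr coe_iot coe_iot_inv tA ev mulVec_ev ev_ne_zero smul_eq_mv xp xm hd wS
  mono iot_mono mono_single msgn msgn_zero monoM_apply coe_mono bs rowSL pad)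

variable {F : Type*} [Field F]

theorem xm_switch' {β : F} (hβ : β ≠ 0) :
    xm (-β) = xp (-β⁻¹) * hd β⁻¹ (inv_ne_zero hβ) * wS F * xp (-β⁻¹) := by
  have h := SpBounded.xm_switch (neg_ne_zero.2 hβ)
  simp only [inv_neg, neg_neg] at h
  exact h

theorem diag_swap {m : ℕ} {i j : Fin m} (h : i ≠ j) {c : F} (hc : c ≠ 0) :
    SpecialLinearGroup.diag2n h.symm c hc = SpecialLinearGroup.diag2n h c⁻¹ (inv_ne_zero hc) :=
  CfsgLib.Classical.sl_ext_smul fun x => funext fun l => by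
    rw [CfsgLib.Classical.diag2n_smul_apply, CfsgLib.Classical.diag2n_smul_apply]
    by_cases hi : l = i
    · subst hi; simp [h]
    · simp [hi]

theorem alt_dot {m : ℕ} {M : Matrix (Fin m) (Fin m) F} (hM : IsAlt M) (b : Fin m → F) :
    dotProduct b (M.mulVec b) = 0 := by
  refine alt_induction (P := fun M => dotProduct b (M.mulVec b) = 0) ?_ ?_ (fun i j h t => ?_) hM
  · simp
  · intro A B _ _ ha hb; rw [Matrix.add_mulVec, dotProduct_add, ha, hb, add_zero]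
  · rw [Am, Matrix.sub_mulVec, dotProduct_sub, Matrix.single_mulVec, Matrix.single_mulVec, dotProduct, dotProduct]
    simp [Function.update_apply]
    ring

namespace Pre

variable {G : Type*} [Group G]

/-- the subgroup generated by the given groups -/
def gen {m : ℕ} (R : Pre F m G) : Subgroup G :=
  Subgroup.closure (Set.range R.ψ ∪ ⋃ p : {p : Fin m × Fin m // p.1 ≠ p.2}, Set.range (R.φ p.1.1 p.1.2))

theorem ψ_mem_gen {m : ℕ} (R : Pre F m G) (A : SpecialLinearGroup (Fin m) F) : R.ψ A ∈ R.gen :=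
  Subgroup.subset_closure (Or.inl ⟨A, rfl⟩)

theorem φ_mem_gen {m : ℕ} (R : Pre F m G) {i j : Fin m} (h : i ≠ j) (A : SpecialLinearGroup (Fin 2) F) :
    R.φ i j A ∈ R.gen :=
  Subgroup.subset_closure (Or.inr (Set.mem_iUnion.2 ⟨⟨(i, j), h⟩, A, rfl⟩))

theorem U_mem_gen {m : ℕ} (R : Pre F m G) {M : Matrix (Fin m) (Fin m) F} (hM : IsAlt M) : R.U M ∈ R.gen := by
  refine alt_induction (P := fun M => R.U M ∈ R.gen) ?_ ?_ (fun i j h t => ?_) hM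
  · rw [R.U_zero]; exact one_mem _
  · intro A B _ _ ha hb; rw [R.U_add]; exact mul_mem ha hb
  · rw [R.U_ne h]; exact R.φ_mem_gen h _

theorem V_mem_gen {m : ℕ} (R : Pre F m G) {M : Matrix (Fin m) (Fin m) F} (hM : IsAlt M) : R.V M ∈ R.gen := by
  refine alt_induction (P := fun M => R.V M ∈ R.gen) ?_ ?_ (fun i j h t => ?_) hM
  · rw [R.V_zero]; exact one_mem _
  · intro A B _ _ ha hb; rw [R.V_add]; exact mul_mem ha hb
  · rw [R.V_ne h]; exact R.φ_mem_gen h _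

theorem φ_mem_of {m : ℕ} (R : Pre F m G) {i j : Fin m} (hij : i ≠ j) (H : Subgroup G)
    (hU : ∀ t, R.U (Am i j t) ∈ H) (hV : ∀ t, R.V (Am i j t) ∈ H) (M : SpecialLinearGroup (Fin 2) F) :
    R.φ i j M ∈ H := by
  have := CfsgLib.Classical.closure_transvection_eq_top (H.comap (R.φ i j)) fun a b hab c => by
    show R.φ i j (SpecialLinearGroup.transvection hab c) ∈ H
    fin_cases a <;> fin_cases b <;> first | exact absurd rfl hab | skip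
    · show R.φ i j (xp c) ∈ H
      rw [← R.U_ne hij]; exact hU c
    · show R.φ i j (xm c) ∈ H
      rw [← R.V_ne hij]; exact hV c
  exact this.ge (Subgroup.mem_top M)

variable {k : ℕ} (R : Pre F (k + 2) G)

/-- the stabiliser -/
noncomputable def P1 : Subgroup G := Subgroup.closure
  (R.ψ '' {A | A.1.mulVec (ev (k + 1) F) = ev (k + 1) F} ∪ R.U '' {M | IsAlt M} ∪
    R.V '' {M | IsAlt M ∧ M.mulVec (ev (k + 1) F) = 0})

theorem ψ_mem_P1 {A : SpecialLinearGroup (Fin (k + 2)) F} (h : A.1.mulVec (ev (k + 1) F) = ev (k + 1) F) :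
    R.ψ A ∈ R.P1 :=
  Subgroup.subset_closure (Or.inl (Or.inl ⟨A, h, rfl⟩))

theorem U_mem_P1 {M : Matrix (Fin (k + 2)) (Fin (k + 2)) F} (h : IsAlt M) : R.U M ∈ R.P1 :=
  Subgroup.subset_closure (Or.inl (Or.inr ⟨M, h, rfl⟩))

theorem V_mem_P1 {M : Matrix (Fin (k + 2)) (Fin (k + 2)) F} (h : IsAlt M) (h' : M.mulVec (ev (k + 1) F) = 0) :
    R.V M ∈ R.P1 :=
  Subgroup.subset_closure (Or.inr ⟨M, ⟨h, h'⟩, rfl⟩)

theorem Am_fix {a b : Fin (k + 2)} (ha : a ≠ 0) (hb : b ≠ 0) (t : F) :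
    (Am a b t).mulVec (ev (k + 1) F) = 0 := by
  funext i
  rw [mulVec_ev]
  simp [Am, Matrix.single, ha, hb]

theorem xp_mem_P1 {i j : Fin (k + 2)} (h : i ≠ j) (t : F) : R.φ i j (xp t) ∈ R.P1 := by
  rw [← R.U_ne h]; exact R.U_mem_P1 (Am_alt _ _ _)

theorem φ_mem_P1 {i j : Fin (k + 2)} (h : i ≠ j) (hi : i ≠ 0) (hj : j ≠ 0) (M : SpecialLinearGroup (Fin 2) F) :
    R.φ i j M ∈ R.P1 :=
  R.φ_mem_of h _ (fun _ => R.U_mem_P1 (Am_alt _ _ _)) (fun t => R.V_mem_P1 (Am_alt _ _ _) (Am_fix hi hj t)) M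

theorem conj_U1 {M : Matrix (Fin (k + 2)) (Fin (k + 2)) F} (hM : IsAlt M) (h : ∀ a, M a 1 = 0) :
    (R.φ 0 1 (wS F))⁻¹ * R.U M * R.φ 0 1 (wS F) ∈ R.P1 := by
  have h01 : (0 : Fin (k + 2)) ≠ 1 := zero_ne_one
  rw [hM.eq_sum]
  refine Finset.sum_induction _ (fun M => (R.φ 0 1 (wS F))⁻¹ * R.U M * R.φ 0 1 (wS F) ∈ R.P1) (fun A B ha hb => ?_) ?_
    fun p _ => ?_
  · show (R.φ 0 1 (wS F))⁻¹ * R.U (A + B) * R.φ 0 1 (wS F) ∈ R.P1
    rw [R.U_add, show (R.φ 0 1 (wS F))⁻¹ * (R.U A * R.U B) * R.φ 0 1 (wS F) =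
      ((R.φ 0 1 (wS F))⁻¹ * R.U A * R.φ 0 1 (wS F)) * ((R.φ 0 1 (wS F))⁻¹ * R.U B * R.φ 0 1 (wS F)) by group]
    exact mul_mem ha hb
  · show (R.φ 0 1 (wS F))⁻¹ * R.U 0 * R.φ 0 1 (wS F) ∈ R.P1
    rw [R.U_zero, mul_one, inv_mul_cancel]; exact one_mem _
  obtain ⟨a, b⟩ := p
  obtain ⟨t, ht⟩ : ∃ t, t = M a b := ⟨_, rfl⟩
  show (R.φ 0 1 (wS F))⁻¹ * R.U (if a < b then Am a b (M a b) else 0) * R.φ 0 1 (wS F) ∈ R.P1
  rw [← ht]
  have hz : t = 0 → (R.φ 0 1 (wS F))⁻¹ * R.U (if a < b then Am a b t else 0) * R.φ 0 1 (wS F) ∈ R.P1 := by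
    rintro rfl
    have e : (if a < b then Am a b (0 : F) else 0) = 0 := by split <;> simp [Am]
    rw [e, R.U_zero, mul_one, inv_mul_cancel]
    exact one_mem _
  by_cases hb : b = 1
  · subst hb; exact hz (ht.trans (h a))
  by_cases ha : a = 1
  · subst ha; exact hz (ht.trans (by rw [hM.apply b 1, h b, neg_zero]))
  by_cases hab : a < b
  swap
  · rw [if_neg hab, R.U_zero, mul_one, inv_mul_cancel]; exact one_mem _
  have hb0 : b ≠ 0 := fun e => absurd (e ▸ hab) (Fin.not_lt_zero a)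
  rw [if_pos hab]
  by_cases ha0 : a = 0
  · subst ha0
    rw [R.U_ne hab.ne, ← R.sym_col h01 hb hb0, R.sq_conj_col' h01 hb hb0,
      show (R.φ 0 1 (wS F))⁻¹ * (R.φ 0 1 (wS F) * R.ψ (tA hb (-t)) * (R.φ 0 1 (wS F))⁻¹) * R.φ 0 1 (wS F) =
        R.ψ (tA hb (-t)) by group]
    exact R.ψ_mem_P1 (SpBounded.Pre.tA_fix hb one_ne_zero _)
  · rw [R.U_ne hab.ne, mul_assoc, ← (R.long 0 1 a b h01 hab.ne ha0 ha hb0 hb (wS F) (xp t)).eq, inv_mul_cancel_left]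
    exact R.xp_mem_P1 hab.ne t

theorem conj_V0 {S : Matrix (Fin (k + 2)) (Fin (k + 2)) F} (hS : IsAlt S) :
    (R.φ 0 1 (wS F))⁻¹ * R.V S * R.φ 0 1 (wS F) ∈ R.P1 := by
  have h01 : (0 : Fin (k + 2)) ≠ 1 := zero_ne_one
  refine alt_induction (P := fun S => (R.φ 0 1 (wS F))⁻¹ * R.V S * R.φ 0 1 (wS F) ∈ R.P1) ?_ ?_
    (fun a b hab t => ?_) hS
  · rw [R.V_zero, mul_one, inv_mul_cancel]; exact one_mem _
  · intro A B _ _ ha hb
    rw [R.V_add, show (R.φ 0 1 (wS F))⁻¹ * (R.V A * R.V B) * R.φ 0 1 (wS F) =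
      ((R.φ 0 1 (wS F))⁻¹ * R.V A * R.φ 0 1 (wS F)) * ((R.φ 0 1 (wS F))⁻¹ * R.V B * R.φ 0 1 (wS F)) by group]
    exact mul_mem ha hb
  · have base : ∀ (a b : Fin (k + 2)) (t : F), a ≠ b → (a = 0 ∨ (a = 1 ∧ b ≠ 0) ∨ (a ≠ 0 ∧ a ≠ 1 ∧ b ≠ 0 ∧ b ≠ 1)) →
        (R.φ 0 1 (wS F))⁻¹ * R.V (Am a b t) * R.φ 0 1 (wS F) ∈ R.P1 := by
      intro a b t hab hcase
      rcases hcase with rfl | ⟨rfl, hb0⟩ | ⟨ha0, ha1, hb0, hb1⟩
      · by_cases hb1 : b = 1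
        · subst hb1
          rw [R.V_ne hab, ← map_inv, ← map_mul, ← map_mul, SpBounded.wS_conj_xm]
          exact R.xp_mem_P1 hab _
        · have e := R.flip.sym_col h01 hb1 (Ne.symm hab) t
          simp only [Pre.flip, MonoidHom.comp_apply, iot_tr, SpBounded.mu_wS, map_inv, inv_inv, SpBounded.mu_xp] at e
          rw [R.V_ne hab, ← e,
            show (R.φ 0 1 (wS F))⁻¹ * (R.φ 0 1 (wS F) * R.ψ (tA (Ne.symm hb1) (-t)) * (R.φ 0 1 (wS F))⁻¹) *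
              R.φ 0 1 (wS F) = R.ψ (tA (Ne.symm hb1) (-t)) by group]
          exact R.ψ_mem_P1 (SpBounded.Pre.tA_fix _ (Ne.symm hab) _)
      · have hb0' : (0 : Fin (k + 2)) ≠ b := Ne.symm hb0
        rw [R.V_ne hab, ← R.sym' 0 1 b h01 hb0' (Ne.symm hab) t, R.sq_conj_row h01 hb0' (Ne.symm hab), neg_neg,
          show (R.φ 0 1 (wS F))⁻¹ * (R.φ 0 1 (wS F) * R.ψ (tA hb0' t) * (R.φ 0 1 (wS F))⁻¹) * R.φ 0 1 (wS F) =
            R.ψ (tA hb0' t) by group]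
        exact R.ψ_mem_P1 (SpBounded.Pre.tA_fix _ hb0 _)
      · rw [R.V_ne hab, mul_assoc, ← (R.long 0 1 a b h01 hab ha0 ha1 hb0 hb1 (wS F) (xm t)).eq, inv_mul_cancel_left]
        exact R.φ_mem_P1 hab ha0 hb0 _
    by_cases ha0 : a = 0
    · exact base a b t hab (Or.inl ha0)
    by_cases hb0 : b = 0
    · rw [Am_anti b a]; exact base b a _ (Ne.symm hab) (Or.inl hb0)
    by_cases ha1 : a = 1
    · exact base a b t hab (Or.inr (Or.inl ⟨ha1, hb0⟩))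
    by_cases hb1 : b = 1
    · rw [Am_anti b a]; exact base b a _ (Ne.symm hab) (Or.inr (Or.inl ⟨hb1, ha0⟩))
    exact base a b t hab (Or.inr (Or.inr ⟨ha0, ha1, hb0, hb1⟩))

theorem conj_ψ {C : SpecialLinearGroup (Fin (k + 2)) F}
    (h : iot _ F C • (Pi.single 1 1 : Fin (k + 2) → F) = Pi.single 1 1) :
    (R.φ 0 1 (wS F))⁻¹ * R.ψ C * R.φ 0 1 (wS F) ∈ R.P1 := by
  have h01 : (0 : Fin (k + 2)) ≠ 1 := zero_ne_one
  let H : Subgroup (SpecialLinearGroup (Fin (k + 2)) F) :=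
    R.P1.comap ((MulAut.conj (R.φ 0 1 (wS F))⁻¹).toMonoidHom.comp (R.ψ.comp (iot _ F)))
  have hH : ∀ (a b : Fin (k + 2)) (hab : a ≠ b), b ≠ 1 → ∀ t : F, tA hab t ∈ H := fun a b hab hb1 t => by
    show (R.φ 0 1 (wS F))⁻¹ * R.ψ (iot _ F (tA hab t)) * (R.φ 0 1 (wS F))⁻¹⁻¹ ∈ R.P1
    rw [inv_inv, iot_tr]
    by_cases hb0 : b = 0
    · subst hb0
      by_cases ha1 : a = 1
      · subst ha1
        rw [mul_assoc, ← (R.pair 0 1 h01 (wS F) (-t)).eq, inv_mul_cancel_left]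
        exact R.ψ_mem_P1 (SpBounded.Pre.tA_fix _ hab _)
      · have e := R.sym' 0 1 a h01 hab.symm ha1 t
        rw [e]
        exact R.φ_mem_P1 (Ne.symm ha1) one_ne_zero hab _
    · by_cases ha0 : a = 0
      · subst ha0
        rw [R.sq_conj_col h01 hab.symm hb1, neg_neg, R.sym 0 1 b h01 hab.symm hb1]
        exact R.xp_mem_P1 (Ne.symm hb1) _
      · by_cases ha1 : a = 1
        · subst ha1
          rw [R.sym_col h01 hab.symm hb0]
          exact R.xp_mem_P1 (Ne.symm hb0) _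
        · rw [mul_assoc, ← (R.fix 0 1 b a h01 hab.symm hb0 hb1 ha0 ha1 (wS F) (-t)).eq, inv_mul_cancel_left]
          exact R.ψ_mem_P1 (SpBounded.Pre.tA_fix _ ha0 _)
  obtain ⟨P, hP⟩ : ∃ P, P = mono F (Equiv.swap (0 : Fin (k + 2)) 1) := ⟨_, rfl⟩
  have hPe : P • ev (k + 1) F = Pi.single 1 1 := by
    rw [hP, ev, mono_single, Equiv.swap_apply_left, msgn_zero, mul_one]
  have hm : P * (P⁻¹ * iot _ F C * P) * P⁻¹ ∈ H := by
    refine SpBounded.fix_mem (H.comap (MulAut.conj P).toMonoidHom) (fun a b hab hb t => ?_) ?_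
    · show P * tA hab t * P⁻¹ ∈ H
      rw [hP, SpBounded.mono_tA, mul_inv_cancel_right]
      refine hH _ _ _ (fun e => hb ?_) _
      have := congrArg (Equiv.swap (0 : Fin (k + 2)) 1) e
      rwa [Equiv.swap_apply_self, Equiv.swap_apply_right] at this
    · rw [smul_eq_mv, mul_smul, mul_smul, hPe, h, ← hPe, inv_smul_smul]
  rw [show P * (P⁻¹ * iot _ F C * P) * P⁻¹ = iot _ F C by group] at hm
  have hm' : (R.φ 0 1 (wS F))⁻¹ * R.ψ (iot _ F (iot _ F C)) * (R.φ 0 1 (wS F))⁻¹⁻¹ ∈ R.P1 := hm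
  rwa [iot_iot, inv_inv] at hm'

theorem V_ψ (A : SpecialLinearGroup (Fin (k + 2)) F) {S : Matrix (Fin (k + 2)) (Fin (k + 2)) F}
    (hS : IsAlt S) : R.V S * R.ψ A = R.ψ A * R.V (A.1.transpose * S * A.1) := by
  have h := R.conj_V (by omega) A⁻¹ hS
  rw [coe_iot_inv, Matrix.transpose_transpose, map_inv, inv_inv] at h
  rw [← h]; group

theorem U_ψ (A : SpecialLinearGroup (Fin (k + 2)) F) {S : Matrix (Fin (k + 2)) (Fin (k + 2)) F}
    (hS : IsAlt S) : R.U S * R.ψ A = R.ψ A * R.U ((A⁻¹).1 * S * (iot _ F A).1) := by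
  have h := R.conj_U (by omega) A⁻¹ hS
  rw [← coe_iot, map_inv, inv_inv] at h
  rw [← h]; group

theorem coset1 {A A' : SpecialLinearGroup (Fin (k + 2)) F} {S S' : Matrix (Fin (k + 2)) (Fin (k + 2)) F}
    (hS : IsAlt S) (hS' : IsAlt S') (h1 : A'.1.mulVec (ev (k + 1) F) = A.1.mulVec (ev (k + 1) F))
    (h2 : S.mulVec (A.1.mulVec (ev (k + 1) F)) = S'.mulVec (A.1.mulVec (ev (k + 1) F))) :
    (R.V S * R.ψ A)⁻¹ * (R.V S' * R.ψ A') ∈ R.P1 := by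
  have e : (R.V S * R.ψ A)⁻¹ * (R.V S' * R.ψ A') =
      (R.ψ A)⁻¹ * (R.V (-S + S') * R.ψ A) * R.ψ (A⁻¹ * A') := by
    rw [R.V_add, R.V_neg, map_mul, map_inv]; group
  rw [e, R.V_ψ A (hS.neg.add hS'), inv_mul_cancel_left]
  refine mul_mem (R.V_mem_P1 ?_ ?_) (R.ψ_mem_P1 ?_)
  · simpa using (hS.neg.add hS').conj A.1.transpose
  · rw [← Matrix.mulVec_mulVec, ← Matrix.mulVec_mulVec, Matrix.add_mulVec, Matrix.neg_mulVec, h2,
      neg_add_cancel, Matrix.mulVec_zero]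
  · simp only [smul_eq_mv] at h1 ⊢
    rw [mul_smul, h1, inv_smul_smul]

theorem coset2 {A A' : SpecialLinearGroup (Fin (k + 2)) F} {S S' : Matrix (Fin (k + 2)) (Fin (k + 2)) F}
    (hS : IsAlt S) (hS' : IsAlt S')
    (h1 : iot _ F A' • (Pi.single 1 1 : Fin (k + 2) → F) = iot _ F A • Pi.single 1 1)
    (h2 : S.mulVec (iot _ F A • Pi.single 1 1) = S'.mulVec (iot _ F A • Pi.single 1 1)) :
    (R.U S * R.ψ A * R.φ 0 1 (wS F))⁻¹ * (R.U S' * R.ψ A' * R.φ 0 1 (wS F)) ∈ R.P1 := by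
  have e : (R.U S * R.ψ A * R.φ 0 1 (wS F))⁻¹ * (R.U S' * R.ψ A' * R.φ 0 1 (wS F)) =
      (R.φ 0 1 (wS F))⁻¹ * ((R.ψ A)⁻¹ * (R.U (-S + S') * R.ψ A)) * R.φ 0 1 (wS F) *
        ((R.φ 0 1 (wS F))⁻¹ * R.ψ (A⁻¹ * A') * R.φ 0 1 (wS F)) := by
    rw [R.U_add, R.U_neg, map_mul, map_inv]; group
  have hM : IsAlt ((A⁻¹).1 * (-S + S') * (iot _ F A).1) := by
    rw [coe_iot]; exact (hS.neg.add hS').conj _
  have hM0 : ∀ a, ((A⁻¹).1 * (-S + S') * (iot _ F A).1) a 1 = 0 := by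
    intro a
    have e : ((A⁻¹).1 * (-S + S') * (iot _ F A).1).mulVec (Pi.single 1 1) = 0 := by
      rw [← Matrix.mulVec_mulVec, ← Matrix.mulVec_mulVec, smul_eq_mv (iot _ F A), Matrix.add_mulVec, Matrix.neg_mulVec,
        h2, neg_add_cancel, Matrix.mulVec_zero]
    have e' := congrFun e a
    rw [Matrix.mulVec_single_one] at e'
    exact e'
  rw [e, R.U_ψ A (hS.neg.add hS'), inv_mul_cancel_left]
  refine mul_mem (R.conj_U1 hM hM0) (R.conj_ψ ?_)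
  rw [map_mul, map_inv, mul_smul, h1, inv_smul_smul]

theorem conj_prod {i j : Fin (k + 2)} (h : i ≠ j) (f : G →* G) (g : SpecialLinearGroup (Fin 2) F →* G)
    (hp : ∀ t, f (R.ψ (tA h t)) = g (xp t)) (hm : ∀ t, f (R.ψ (tA h.symm t)) = g (xm t)) {c : F} (hc : c ≠ 0) :
    f (R.ψ (SpecialLinearGroup.diag2n h c hc)) = g (hd c hc) := by
  rw [SpBounded.hd, CfsgLib.Classical.diag2n_eq_prod h hc,
    CfsgLib.Classical.diag2n_eq_prod (show (0 : Fin 2) ≠ 1 by decide) hc]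
  simp only [map_mul]
  rw [show f (R.ψ (SpecialLinearGroup.transvection h c)) = g (xp c) from hp c,
    show f (R.ψ (SpecialLinearGroup.transvection h.symm (-c⁻¹))) = g (xm (-c⁻¹)) from hm _,
    show f (R.ψ (SpecialLinearGroup.transvection h (-1 : F))) = g (xp (-1)) from hp _,
    show f (R.ψ (SpecialLinearGroup.transvection h.symm (1 : F))) = g (xm 1) from hm _]
  rfl

theorem q_eq {l : Fin (k + 2)} (hl0 : l ≠ 0) (hl1 : l ≠ 1) {c : F} (hc : c ≠ 0) :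
    (R.φ 0 1 (wS F))⁻¹ * (R.ψ (SpecialLinearGroup.diag2n hl1 c hc) * R.φ l 1 (hd c hc)) * R.φ 0 1 (wS F) =
      R.ψ (SpecialLinearGroup.diag2n hl1 c hc) * R.φ l 1 (hd c hc) := by
  have h01 : (0 : Fin (k + 2)) ≠ 1 := zero_ne_one
  obtain ⟨W, hW⟩ : ∃ W, W = R.φ 0 1 (wS F) := ⟨_, rfl⟩
  have hA : W⁻¹ * R.ψ (SpecialLinearGroup.diag2n hl1 c hc) * W = R.φ 0 l (hd c hc) := by
    have := R.conj_prod hl1 (MulAut.conj W⁻¹).toMonoidHom (R.φ 0 l) (fun t => ?_) (fun t => ?_) hc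
    · simpa using this
    · show W⁻¹ * R.ψ (tA hl1 t) * W⁻¹⁻¹ = _
      rw [inv_inv, hW, R.sym_col h01 hl1 hl0]
    · show W⁻¹ * R.ψ (tA hl1.symm t) * W⁻¹⁻¹ = _
      have e := R.flip.sym_col h01 hl1 hl0 t
      simp only [Pre.flip, MonoidHom.comp_apply, iot_tr, SpBounded.mu_wS, map_inv, inv_inv, SpBounded.mu_xp] at e
      have e2 := R.sq_conj_row h01.symm hl1.symm hl0 (-t)
      rw [R.w_inv h01, inv_inv, neg_neg] at e2
      rw [inv_inv, hW, ← e, e2]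
  have hB : W⁻¹ * R.φ l 1 (hd c hc) * W = R.ψ (SpecialLinearGroup.diag2n hl0 c hc) := by
    have h1 := R.conj_prod hl0 (MulAut.conj W).toMonoidHom (R.φ 1 l) (fun t => ?_) (fun t => ?_) hc
    · have h2 : W * R.ψ (SpecialLinearGroup.diag2n hl0 c hc) * W⁻¹ = R.φ 1 l (hd c hc) := h1
      rw [R.symm 1 l hl1.symm, tw_hd, ← h2]
      group
    · show W * R.ψ (tA hl0 t) * W⁻¹ = _
      rw [hW, R.sym 0 1 l h01 hl0 hl1]
    · show W * R.ψ (tA hl0.symm t) * W⁻¹ = _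
      have e := R.sym' 0 1 l h01 hl0.symm hl1 t
      rw [R.sq_conj_row h01 hl0.symm hl1, neg_neg] at e
      rw [hW, e]
  rw [← hW, show W⁻¹ * (R.ψ (SpecialLinearGroup.diag2n hl1 c hc) * R.φ l 1 (hd c hc)) * W =
    (W⁻¹ * R.ψ (SpecialLinearGroup.diag2n hl1 c hc) * W) * (W⁻¹ * R.φ l 1 (hd c hc) * W) by group, hA, hB]
  -- both sides are products of three commuting torus elements
  have t1 := R.tor l 1 0 hl1 hl0 h01 c hc
  have t2 := R.tor l 0 1 hl0 hl1 h01.symm c hc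
  have t3 := R.tor 0 1 l h01 hl0.symm hl1 c⁻¹ (inv_ne_zero hc)
  rw [show SpecialLinearGroup.diag2n hl0.symm c⁻¹ (inv_ne_zero hc) = SpecialLinearGroup.diag2n hl0 c hc from by
    rw [diag_swap hl0]; simp] at t3
  simp only [inv_inv] at t3
  rw [R.symm 0 1 h01, tw_hd] at t2
  rw [R.symm l 0 hl0, tw_hd, t2, t3, mul_assoc]

/-- the switch at the canonical vectors -/
theorem switch_canon (hk : 1 ≤ k) {β : F} (hβ : β ≠ 0) :
    ∃ S A, IsAlt S ∧ (R.U S * R.ψ A * R.φ 0 1 (wS F))⁻¹ * R.V (Am 1 0 β) ∈ R.P1 := by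
  obtain ⟨W, hW⟩ : ∃ W, W = R.φ 0 1 (wS F) := ⟨_, rfl⟩
  have h01 : (0 : Fin (k + 2)) ≠ 1 := zero_ne_one
  obtain ⟨l, hl0, hl1⟩ : ∃ l : Fin (k + 2), l ≠ 0 ∧ l ≠ 1 := by
    refine ⟨Fin.last (k + 1), ?_, ?_⟩ <;> intro e <;> have := congrArg Fin.val e <;> simp at this <;> omega
  have hc : β⁻¹ ≠ (0 : F) := inv_ne_zero hβ
  obtain ⟨D, hD⟩ : ∃ D, D = SpecialLinearGroup.diag2n hl0.symm β⁻¹ hc * SpecialLinearGroup.diag2n hl1.symm β⁻¹ hc :=
    ⟨_, rfl⟩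
  obtain ⟨q, hq⟩ : ∃ q, q = R.ψ (SpecialLinearGroup.diag2n hl1 β⁻¹ hc) * R.φ l 1 (hd β⁻¹ hc) := ⟨_, rfl⟩
  have hd0 : R.φ 0 1 (hd β⁻¹ hc) = R.ψ D * q := by
    have e := R.tor 0 1 l h01 hl0.symm hl1 β⁻¹ hc
    have e' : SpecialLinearGroup.diag2n hl1.symm β⁻¹ hc * SpecialLinearGroup.diag2n hl1 β⁻¹ hc = 1 := by
      rw [diag_swap hl1, SpBounded.diag_mul]
      exact SpBounded.diag_eq_one _ _ (inv_mul_cancel₀ hc)
    rw [hq, hD, ← mul_assoc, ← map_mul, mul_assoc, e', mul_one, e, mul_assoc, ← map_mul, SpBounded.hd_mul_inv,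
      map_one, mul_one]
  refine ⟨Am 0 1 (-β⁻¹), D, Am_alt _ _ _, ?_⟩
  have hqW := R.q_eq hl0 hl1 hc
  rw [← hq, ← hW] at hqW
  have hqW' : q * W = W * q := by
    calc q * W = W * (W⁻¹ * q * W) := by group
      _ = W * q := by rw [hqW]
  rw [R.V_ne one_ne_zero, R.symm 0 1 h01, tw_xm, xm_switch' hβ, map_mul, map_mul, map_mul, hd0, ← hW, R.U_ne h01]
  rw [show R.φ 0 1 (xp (-β⁻¹)) * (R.ψ D * q) * W = R.φ 0 1 (xp (-β⁻¹)) * R.ψ D * (q * W) by group, hqW']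
  simp only [mul_assoc, inv_mul_cancel_left, mul_inv_rev]
  refine mul_mem ?_ (R.xp_mem_P1 h01 _)
  rw [hq]
  refine mul_mem (R.ψ_mem_P1 ?_) (R.φ_mem_P1 hl1 hl0 one_ne_zero _)
  rw [smul_eq_mv]
  funext a
  rw [CfsgLib.Classical.diag2n_smul_apply, ev]
  by_cases ha : a = 0
  · subst ha; simp [hl0.symm]
  · simp [ha]

/-- the switch -/
theorem switch (hk : 1 ≤ k) {A : SpecialLinearGroup (Fin (k + 2)) F} {S : Matrix (Fin (k + 2)) (Fin (k + 2)) F}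
    (hS : IsAlt S) (hb : S.mulVec (A.1.mulVec (ev (k + 1) F)) ≠ 0) :
    ∃ S' A', IsAlt S' ∧ (R.U S' * R.ψ A' * R.φ 0 1 (wS F))⁻¹ * (R.V S * R.ψ A) ∈ R.P1 := by
  have hT0 : IsAlt (A.1.transpose * S * A.1) := by simpa using hS.conj A.1.transpose
  obtain ⟨v, hv⟩ : ∃ v, v = A.1.transpose.mulVec (S.mulVec (A.1.mulVec (ev (k + 1) F))) := ⟨_, rfl⟩
  have hv0 : v ≠ 0 := by
    intro h
    apply hb
    rw [hv, ← coe_iot_inv] at h
    simp only [smul_eq_mv] at h ⊢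
    rwa [smul_eq_zero_iff_eq] at h
  have hvz : v 0 = 0 := by
    have : v 0 = ((A.1.transpose * S * A.1).mulVec (ev (k + 1) F)) 0 := by
      rw [hv, Matrix.mulVec_mulVec, Matrix.mulVec_mulVec]
    rw [this, ev, Matrix.mulVec_single_one]
    exact hT0.2 0
  obtain ⟨j, hvj⟩ := Function.ne_iff.1 hv0
  have hj0 : j ≠ 0 := fun e => hvj (by rw [e, hvz]; rfl)
  obtain ⟨σ, hσ0, hσ1⟩ : ∃ σ : Equiv.Perm (Fin (k + 2)), σ 0 = 0 ∧ σ 1 = j :=
    SpBounded.exists_perm_pair hj0.symm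
  obtain ⟨s, hs⟩ : ∃ s, s = msgn F σ 1 := ⟨_, rfl⟩
  obtain ⟨u, hu⟩ : ∃ u, u = (v j)⁻¹ • v - Pi.single j 1 := ⟨_, rfl⟩
  have hvj' : v j ≠ 0 := hvj
  have huj : u j = 0 := by simp [hu, hvj']
  have hu0 : u 0 = 0 := by simp [hu, hvz, Pi.single_eq_of_ne hj0.symm]
  have hdet : (1 + Matrix.vecMulVec u (Pi.single j 1)).det = 1 := by
    rw [Matrix.vecMulVec_eq Unit, Matrix.det_one_add_replicateCol_mul_replicateRow, single_one_dotProduct, huj,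
      add_zero]
  let D : SpecialLinearGroup (Fin (k + 2)) F := ⟨_, hdet⟩
  have hDβ : D • (Pi.single j (v j) : Fin (k + 2) → F) = v := by
    rw [← smul_eq_mv]
    show (1 + Matrix.vecMulVec u (Pi.single j 1)).mulVec _ = v
    rw [Matrix.add_mulVec, Matrix.one_mulVec, Matrix.vecMulVec_mulVec, single_one_dotProduct, Pi.single_eq_same, hu]
    funext i
    by_cases hi : i = j
    · subst hi; simp [hvj']
    · simp [hi]; field_simp
  have hCe : iot _ F D • ev (k + 1) F = ev (k + 1) F := by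
    have h : (iot _ F D⁻¹) • ev (k + 1) F = ev (k + 1) F := by
      rw [← smul_eq_mv, coe_iot_inv]
      show (1 + Matrix.vecMulVec u (Pi.single j 1)).transpose.mulVec _ = _
      rw [Matrix.transpose_add, Matrix.transpose_one, Matrix.transpose_vecMulVec, Matrix.add_mulVec,
        Matrix.one_mulVec, Matrix.vecMulVec_mulVec, ev, dotProduct_single, hu0]
      simp
    rw [map_inv, inv_smul_eq_iff] at h
    exact h.symm
  obtain ⟨A1, hA1⟩ : ∃ A1, A1 = A * iot _ F D * mono F σ := ⟨_, rfl⟩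
  have hσe : mono F σ • ev (k + 1) F = ev (k + 1) F := by
    rw [ev, mono_single, hσ0, msgn_zero, mul_one]
  have hA1e : A1.1.mulVec (ev (k + 1) F) = A.1.mulVec (ev (k + 1) F) := by
    rw [hA1, smul_eq_mv, smul_eq_mv, mul_smul, mul_smul, hσe, hCe]
  have hT : (A1.1.transpose * S * A1.1).mulVec (ev (k + 1) F) = (Am 1 0 (s * v j)).mulVec (ev (k + 1) F) := by
    have e1 : A1.1.transpose = ((mono F σ)⁻¹).1 * ((D⁻¹).1 * A.1.transpose) := by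
      have em : (mono F σ : Matrix _ _ F).transpose = ((mono F σ)⁻¹).1 := by
        conv_lhs => rw [← iot_mono σ, coe_iot, Matrix.transpose_transpose]
      rw [hA1, Matrix.SpecialLinearGroup.coe_mul, Matrix.SpecialLinearGroup.coe_mul, Matrix.transpose_mul,
        Matrix.transpose_mul, em, coe_iot, Matrix.transpose_transpose]
    have e2 : (Am 1 0 (s * v j)).mulVec (ev (k + 1) F) = Pi.single (1 : Fin (k + 2)) (s * v j) := by
      funext i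
      rw [mulVec_ev, Am_apply one_ne_zero, Pi.single_apply]
      simp
    rw [← Matrix.mulVec_mulVec, ← Matrix.mulVec_mulVec, hA1e, e1, ← Matrix.mulVec_mulVec, ← Matrix.mulVec_mulVec,
      ← hv, e2, smul_eq_mv, smul_eq_mv, inv_smul_eq_iff, inv_smul_eq_iff, mono_single, hσ1, ← hs, ← mul_assoc, hs,
      SpBounded.msgn_sq, one_mul, hDβ]
  obtain ⟨S0, A0, hS0, h0⟩ := R.switch_canon hk (β := s * v j)
    (mul_ne_zero (hs ▸ SpBounded.msgn_ne σ 1) hvj')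
  refine ⟨A1.1 * S0 * A1.1.transpose, A1 * A0, hS0.conj _, ?_⟩
  have hsT : IsAlt (A1.1.transpose * S * A1.1) := by simpa using hS.conj A1.1.transpose
  have h1 := R.coset1 hS hS hA1e rfl
  have h2 : (R.V (Am 1 0 (s * v j)) * R.ψ 1)⁻¹ * (R.V (A1.1.transpose * S * A1.1) * R.ψ 1) ∈ R.P1 :=
    R.coset1 (Am_alt _ _ _) hsT rfl (by simpa [Matrix.one_mulVec] using hT.symm)
  rw [map_one, mul_one, mul_one] at h2
  have e : (R.U (A1.1 * S0 * A1.1.transpose) * R.ψ (A1 * A0) * R.φ 0 1 (wS F))⁻¹ * (R.V S * R.ψ A) =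
      ((R.U S0 * R.ψ A0 * R.φ 0 1 (wS F))⁻¹ * R.V (Am 1 0 (s * v j))) *
        ((R.V (Am 1 0 (s * v j)))⁻¹ * R.V (A1.1.transpose * S * A1.1)) * ((R.V S * R.ψ A)⁻¹ * (R.V S * R.ψ A1))⁻¹ := by
    rw [← R.conj_U (by omega) A1 hS0, map_mul, R.V_ψ A1 hS]
    group
  rw [e]
  exact mul_mem (mul_mem h0 h2) (inv_mem h1)

end Pre

end CfsgLib.Known.DBounded
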