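import Cfsg.Agent.Lib.Known.SpBounded.Canon

/-!
# The relations between a copy of `SL m` and rank one groups at pairs of coordinates
-/

set_option autoImplicit false

namespace CfsgLib.Known.DBounded

open Matrix (SpecialLinearGroup)
open CfsgLib.Known.SpBounded (iot iot_iot iot_tr iot_diag coe_iot mu mu_mu mu_xp mu_xm mu_hd mu_wS coe_mu xp xm hd wS
  xp_coe xm_coe hd_coe wS_coe wS_sq xp_add xm_add tA)

variable {F : Type*} [Field F]

/-- scaling the first coordinate -/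
noncomputable def dl {e : F} (he : e ≠ 0) : SpecialLinearGroup (Fin 2) F →* SpecialLinearGroup (Fin 2) F where
  toFun A := ⟨Matrix.diagonal ![e, 1] * A.1 * Matrix.diagonal ![e⁻¹, 1], by
    rw [Matrix.det_mul, Matrix.det_mul, A.2, Matrix.det_diagonal, Matrix.det_diagonal]
    simp [he]⟩
  map_one' := Subtype.ext (by
    ext i j
    fin_cases i <;> fin_cases j <;> simp [he])
  map_mul' A B := Subtype.ext (by
    show Matrix.diagonal ![e, 1] * (A.1 * B.1) * Matrix.diagonal ![e⁻¹, 1] =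
      Matrix.diagonal ![e, 1] * A.1 * Matrix.diagonal ![e⁻¹, 1] *
        (Matrix.diagonal ![e, 1] * B.1 * Matrix.diagonal ![e⁻¹, 1])
    have h : Matrix.diagonal ![e⁻¹, 1] * Matrix.diagonal ![e, 1] = (1 : Matrix (Fin 2) (Fin 2) F) := by
      ext i j
      fin_cases i <;> fin_cases j <;> simp [he]
    calc Matrix.diagonal ![e, 1] * (A.1 * B.1) * Matrix.diagonal ![e⁻¹, 1]
        = Matrix.diagonal ![e, 1] * A.1 * (Matrix.diagonal ![e⁻¹, 1] * Matrix.diagonal ![e, 1]) *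
            (B.1 * Matrix.diagonal ![e⁻¹, 1]) := by rw [h, Matrix.mul_one]; simp only [Matrix.mul_assoc]
      _ = _ := by simp only [Matrix.mul_assoc])

theorem dl_coe {e : F} (he : e ≠ 0) (A : SpecialLinearGroup (Fin 2) F) :
    (dl he A : Matrix (Fin 2) (Fin 2) F) = !![A.1 0 0, e * A.1 0 1; e⁻¹ * A.1 1 0, A.1 1 1] := by
  show Matrix.diagonal ![e, 1] * A.1 * Matrix.diagonal ![e⁻¹, 1] = _
  ext i j
  fin_cases i <;> fin_cases j <;> simp [mul_comm, he]

theorem dl_xp {e : F} (he : e ≠ 0) (t : F) : dl he (xp t) = xp (e * t) := Subtype.ext (by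
  rw [dl_coe, xp_coe, xp_coe]
  simp)

theorem dl_xm {e : F} (he : e ≠ 0) (t : F) : dl he (xm t) = xm (e⁻¹ * t) := Subtype.ext (by
  rw [dl_coe, xm_coe, xm_coe]
  simp)

theorem dl_hd {e : F} (he : e ≠ 0) {c : F} (hc : c ≠ 0) : dl he (hd c hc) = hd c hc := Subtype.ext (by
  rw [dl_coe, hd_coe]
  simp)

/-- changing the sign -/
noncomputable def tw (F : Type*) [Field F] : SpecialLinearGroup (Fin 2) F →* SpecialLinearGroup (Fin 2) F :=
  dl (neg_ne_zero.2 (one_ne_zero (α := F)))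

theorem tw_xp (t : F) : tw F (xp t) = xp (-t) := by rw [tw, dl_xp, neg_one_mul]

theorem tw_xm (t : F) : tw F (xm t) = xm (-t) := by rw [tw, dl_xm, inv_neg, inv_one, neg_one_mul]

theorem tw_hd {c : F} (hc : c ≠ 0) : tw F (hd c hc) = hd c hc := dl_hd _ hc

theorem tw_wS : tw F (wS F) = (wS F)⁻¹ := by
  rw [← mu_wS]
  refine Subtype.ext ?_
  rw [tw, dl_coe, coe_mu, wS_coe]
  ext i j
  fin_cases i <;> fin_cases j <;> simp

theorem tw_mu (A : SpecialLinearGroup (Fin 2) F) : tw F (mu F A) = mu F (tw F A) := Subtype.ext (by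
  rw [tw, dl_coe, coe_mu, coe_mu, dl_coe]
  ext i j
  fin_cases i <;> fin_cases j <;> simp)

theorem tw_tw (A : SpecialLinearGroup (Fin 2) F) : tw F (tw F A) = A := Subtype.ext (by
  rw [tw, dl_coe, dl_coe]
  ext i j
  fin_cases i <;> fin_cases j <;> simp)

/-- the relations -/
structure Pre (F : Type*) [Field F] (m : ℕ) (G : Type*) [Group G] where
  ψ : SpecialLinearGroup (Fin m) F →* G
  φ : Fin m → Fin m → SpecialLinearGroup (Fin 2) F →* G
  symm : ∀ i j : Fin m, i ≠ j → ∀ M, φ j i M = φ i j (tw F M)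
  fix : ∀ (i j k l : Fin m), i ≠ j → ∀ (h : k ≠ l), k ≠ i → k ≠ j → l ≠ i → l ≠ j → ∀ M t,
    Commute (φ i j M) (ψ (tA h t))
  pair : ∀ (i j : Fin m) (h : i ≠ j), ∀ M t, Commute (φ i j M) (ψ (tA h t))
  long : ∀ i j k l : Fin m, i ≠ j → k ≠ l → k ≠ i → k ≠ j → l ≠ i → l ≠ j → ∀ M N, Commute (φ i j M) (φ k l N)
  sym : ∀ (i j k : Fin m) (_ : i ≠ j) (h : k ≠ i) (_ : k ≠ j) (t : F),
    φ i j (wS F) * ψ (tA h t) * (φ i j (wS F))⁻¹ = φ j k (xp t)
  sym' : ∀ (i j k : Fin m) (_ : i ≠ j) (h : i ≠ k) (_ : k ≠ j) (t : F),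
    (φ i j (wS F))⁻¹ * ψ (tA h (-t)) * φ i j (wS F) = φ j k (xm t)
  sq : ∀ (i j : Fin m) (h : i ≠ j),
    φ i j (hd (-1) (neg_ne_zero.2 one_ne_zero)) = ψ (SpecialLinearGroup.diag2n h (-1) (neg_ne_zero.2 one_ne_zero))
  fx : ∀ (i j k : Fin m) (_ : i ≠ j) (h : i ≠ k) (_ : k ≠ j) (s t : F), Commute (φ i j (xp s)) (ψ (tA h t))
  fx' : ∀ (i j k : Fin m) (_ : i ≠ j) (h : k ≠ i) (_ : k ≠ j) (s t : F), Commute (φ i j (xm s)) (ψ (tA h t))
  move : ∀ (i j k : Fin m) (_ : i ≠ j) (h : k ≠ i) (_ : k ≠ j) (s t : F),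
    ψ (tA h s) * φ i j (xp t) * (ψ (tA h s))⁻¹ = φ i j (xp t) * φ k j (xp (s * t))
  move' : ∀ (i j k : Fin m) (_ : i ≠ j) (h : i ≠ k) (_ : k ≠ j) (s t : F),
    ψ (tA h (-s)) * φ i j (xm t) * (ψ (tA h (-s)))⁻¹ = φ i j (xm t) * φ k j (xm (s * t))
  tor : ∀ (i j k : Fin m) (_ : i ≠ j) (h : i ≠ k) (_ : k ≠ j) (c : F) (hc : c ≠ 0),
    ψ (SpecialLinearGroup.diag2n h c hc) = φ i j (hd c hc) * φ k j (hd c⁻¹ (inv_ne_zero hc))

namespace Pre

variable {m : ℕ} {G : Type*} [Group G] (R : Pre F m G)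

theorem diag_inv {i j : Fin m} (h : i ≠ j) {c : F} (hc : c ≠ 0) :
    SpecialLinearGroup.diag2n h c⁻¹ (inv_ne_zero hc) = (SpecialLinearGroup.diag2n h c hc)⁻¹ :=
  (inv_eq_of_mul_eq_one_right (by
    rw [SpBounded.diag_mul]
    exact SpBounded.diag_eq_one h _ (mul_inv_cancel₀ hc))).symm

/-- exchanging the two halves -/
noncomputable def flip : Pre F m G where
  ψ := R.ψ.comp (iot (Fin m) F)
  φ i j := (R.φ i j).comp (mu F)
  symm i j h M := by
    simp only [MonoidHom.comp_apply]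
    rw [R.symm i j h, tw_mu]
  fix i j k l hij h h1 h2 h3 h4 M t := by
    simp only [MonoidHom.comp_apply, iot_tr]
    exact R.fix i j l k hij h.symm h3 h4 h1 h2 _ _
  pair i j h M t := by
    simp only [MonoidHom.comp_apply, iot_tr]
    have := R.pair j i h.symm (tw F (mu F M)) (-t)
    rwa [R.symm i j h, tw_tw] at this
  long i j k l h h' h1 h2 h3 h4 M N := R.long i j k l h h' h1 h2 h3 h4 _ _
  sym i j k hij h hkj t := by
    simp only [MonoidHom.comp_apply, iot_tr, mu_wS, map_inv, inv_inv, mu_xp]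
    exact R.sym' i j k hij h.symm hkj t
  sym' i j k hij h hkj t := by
    simp only [MonoidHom.comp_apply, iot_tr, mu_wS, map_inv, inv_inv, mu_xm, neg_neg]
    exact R.sym i j k hij h.symm hkj t
  sq i j h := by
    simp only [MonoidHom.comp_apply, iot_diag, mu_hd]
    have := R.sq i j h
    simp only [inv_neg, inv_one]
    exact this
  fx i j k hij h hkj s t := by
    simp only [MonoidHom.comp_apply, iot_tr, mu_xp]
    exact R.fx' i j k hij h.symm hkj _ _
  fx' i j k hij h hkj s t := by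
    simp only [MonoidHom.comp_apply, iot_tr, mu_xm]
    exact R.fx i j k hij h.symm hkj _ _
  move i j k hij h hkj s t := by
    simp only [MonoidHom.comp_apply, iot_tr, mu_xp]
    exact R.move' i j k hij h.symm hkj s t
  move' i j k hij h hkj s t := by
    simp only [MonoidHom.comp_apply, iot_tr, mu_xm, neg_neg]
    exact R.move i j k hij h.symm hkj s t
  tor i j k hij h hkj c hc := by
    simp only [MonoidHom.comp_apply, iot_diag, mu_hd]
    exact R.tor i j k hij h hkj c⁻¹ (inv_ne_zero hc)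

/-- alternating root elements -/
noncomputable def uu (i j : Fin m) (t : F) : G := if i = j then 1 else R.φ i j (xp t)

theorem uu_self (i : Fin m) (t : F) : R.uu i i t = 1 := if_pos rfl

theorem uu_ne {i j : Fin m} (h : i ≠ j) (t : F) : R.uu i j t = R.φ i j (xp t) := if_neg h

theorem uu_anti (i j : Fin m) (t : F) : R.uu j i t = R.uu i j (-t) := by
  by_cases h : i = j
  · subst h; rw [R.uu_self, R.uu_self]
  · rw [R.uu_ne h, R.uu_ne (Ne.symm h), R.symm i j h, tw_xp]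

theorem uu_add (i j : Fin m) (s t : F) : R.uu i j s * R.uu i j t = R.uu i j (s + t) := by
  by_cases h : i = j
  · subst h; rw [R.uu_self, R.uu_self, R.uu_self, one_mul]
  · rw [R.uu_ne h, R.uu_ne h, R.uu_ne h, ← map_mul, xp_add]

theorem uu_zero (i j : Fin m) : R.uu i j 0 = 1 := by
  have := R.uu_add i j (0 : F) 0
  rw [add_zero] at this
  exact mul_eq_left.1 this

theorem w_sq {i j : Fin m} (h : i ≠ j) : R.φ i j (wS F) * R.φ i j (wS F) =
    R.ψ (SpecialLinearGroup.diag2n h (-1) (neg_ne_zero.2 one_ne_zero)) := by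
  rw [← map_mul, wS_sq, R.sq i j h]

theorem w_inv {i j : Fin m} (h : i ≠ j) : R.φ j i (wS F) = (R.φ i j (wS F))⁻¹ := by
  rw [R.symm i j h, tw_wS, map_inv]

theorem sq_conj_row {i j k : Fin m} (hij : i ≠ j) (h : i ≠ k) (hkj : k ≠ j) (t : F) :
    (R.φ i j (wS F))⁻¹ * R.ψ (tA h t) * R.φ i j (wS F) =
      R.φ i j (wS F) * R.ψ (tA h (-t)) * (R.φ i j (wS F))⁻¹ := by
  obtain ⟨W, hW⟩ : ∃ W, W = R.φ i j (wS F) := ⟨_, rfl⟩
  rw [← hW]
  have e : SpecialLinearGroup.diag2n hij (-1 : F) (neg_ne_zero.2 one_ne_zero) * tA h (-t) =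
      tA h t * SpecialLinearGroup.diag2n hij (-1 : F) (neg_ne_zero.2 one_ne_zero) :=
    CfsgLib.Classical.sl_ext_smul fun x => funext fun a => by
      simp only [tA, mul_smul, CfsgLib.Classical.transvection_smul_apply, CfsgLib.Classical.diag2n_smul_apply]
      by_cases ha : a = i
      · subst ha; simp [Ne.symm h, hkj]; ring
      · simp [ha]
  have h2 : W * W * R.ψ (tA h (-t)) * (W * W)⁻¹ = R.ψ (tA h t) := by
    rw [hW, R.w_sq hij, ← map_mul, e, map_mul, mul_inv_cancel_right]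
  calc W⁻¹ * R.ψ (tA h t) * W = W⁻¹ * (W * W * R.ψ (tA h (-t)) * (W * W)⁻¹) * W := by rw [h2]
    _ = _ := by group

theorem sq_conj_col {i j k : Fin m} (hij : i ≠ j) (h : k ≠ i) (hkj : k ≠ j) (t : F) :
    (R.φ i j (wS F))⁻¹ * R.ψ (tA h t) * R.φ i j (wS F) =
      R.φ i j (wS F) * R.ψ (tA h (-t)) * (R.φ i j (wS F))⁻¹ := by
  obtain ⟨W, hW⟩ : ∃ W, W = R.φ i j (wS F) := ⟨_, rfl⟩
  rw [← hW]
  have e : SpecialLinearGroup.diag2n hij (-1 : F) (neg_ne_zero.2 one_ne_zero) * tA h (-t) =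
      tA h t * SpecialLinearGroup.diag2n hij (-1 : F) (neg_ne_zero.2 one_ne_zero) :=
    CfsgLib.Classical.sl_ext_smul fun x => funext fun a => by
      simp only [tA, mul_smul, CfsgLib.Classical.transvection_smul_apply, CfsgLib.Classical.diag2n_smul_apply]
      by_cases ha : a = k
      · subst ha; simp [h, hkj]
      · simp [ha]
  have h2 : W * W * R.ψ (tA h (-t)) * (W * W)⁻¹ = R.ψ (tA h t) := by
    rw [hW, R.w_sq hij, ← map_mul, e, map_mul, mul_inv_cancel_right]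
  calc W⁻¹ * R.ψ (tA h t) * W = W⁻¹ * (W * W * R.ψ (tA h (-t)) * (W * W)⁻¹) * W := by rw [h2]
    _ = _ := by group

theorem sym_col {i j k : Fin m} (hij : i ≠ j) (h : k ≠ j) (hki : k ≠ i) (t : F) :
    (R.φ i j (wS F))⁻¹ * R.ψ (tA h t) * R.φ i j (wS F) = R.φ i k (xp t) := by
  have := R.sym j i k hij.symm h hki t
  rwa [R.w_inv hij, inv_inv] at this

theorem fix_uu {i j k l : Fin m} (h : k ≠ l) (hi : l ≠ i) (hj : l ≠ j) (s t : F) :
    Commute (R.ψ (tA h s)) (R.uu i j t) := by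
  by_cases hij : i = j
  · subst hij; rw [R.uu_self]; exact Commute.one_right _
  rw [R.uu_ne hij]
  by_cases hki : k = i
  · subst hki; exact (R.fx k j l hij h hj t s).symm
  by_cases hkj : k = j
  · subst hkj
    have := (R.fx k i l (Ne.symm hij) h hi (-t) s).symm
    rwa [R.symm i k hij, tw_xp, neg_neg] at this
  exact (R.fix i j k l hij h hki hkj hi hj _ _).symm

theorem pair_uu {i j : Fin m} (h : i ≠ j) (s t : F) : Commute (R.ψ (tA h.symm s)) (R.uu i j t) := by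
  rw [R.uu_anti j i, R.uu_ne h.symm]
  exact (R.pair j i h.symm _ _).symm

theorem move_uu {i j k : Fin m} (hij : i ≠ j) (hki : k ≠ i) (hkj : k ≠ j) (s t : F) :
    R.ψ (tA hki s) * R.uu i j t * (R.ψ (tA hki s))⁻¹ = R.uu i j t * R.uu k j (s * t) := by
  rw [R.uu_ne hij, R.uu_ne hkj]
  exact R.move i j k hij hki hkj s t

theorem sq_conj_col' {i j k : Fin m} (hij : i ≠ j) (h : k ≠ j) (hki : k ≠ i) (t : F) :
    (R.φ i j (wS F))⁻¹ * R.ψ (tA h t) * R.φ i j (wS F) =
      R.φ i j (wS F) * R.ψ (tA h (-t)) * (R.φ i j (wS F))⁻¹ := by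
  have := R.sq_conj_col hij.symm h hki (-t)
  rw [R.w_inv hij, inv_inv, neg_neg] at this
  exact this.symm

theorem comm_shared {i j k : Fin m} (hij : i ≠ j) (hkj : k ≠ j) (hik : i ≠ k) (s t : F) :
    Commute (R.φ i j (xp s)) (R.φ k j (xp t)) := by
  have h1 := R.sym i k j hik hij.symm hkj.symm t
  have h2 := R.sym_col (i := i) (j := k) (k := j) hik hkj.symm hij.symm s
  rw [R.sq_conj_col' hik hkj.symm hij.symm] at h2
  rw [← h2, ← h1]
  have hc : Commute (tA hkj.symm (-s)) (tA hij.symm t) :=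
    SpBounded.Pre.tA_comm hkj.symm hij.symm hkj hij.symm _ _
  exact (hc.map R.ψ).map (MulAut.conj (R.φ i k (wS F))).toMonoidHom

theorem comm_uu (a b c d : Fin m) (s t : F) : Commute (R.uu a b s) (R.uu c d t) := by
  by_cases hab : a = b
  · subst hab; rw [R.uu_self]; exact Commute.one_left _
  by_cases hcd : c = d
  · subst hcd; rw [R.uu_self]; exact Commute.one_right _
  have key : ∀ a b c d : Fin m, a ≠ b → c ≠ d → b = d → ∀ s t, Commute (R.uu a b s) (R.uu c d t) := by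
    intro a b c d hab hcd hbd s t
    subst hbd
    by_cases hac : a = c
    · subst hac; rw [commute_iff_eq, R.uu_add, R.uu_add, add_comm]
    · rw [R.uu_ne hab, R.uu_ne hcd]; exact R.comm_shared hab hcd hac s t
  by_cases hbd : b = d
  · exact key a b c d hab hcd hbd s t
  by_cases had : a = d
  · rw [R.uu_anti b a]; exact key b a c d (Ne.symm hab) hcd had _ _
  by_cases hbc : b = c
  · rw [R.uu_anti d c]; exact key a b d c hab (Ne.symm hcd) hbc _ _
  by_cases hac : a = c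
  · rw [R.uu_anti b a, R.uu_anti d c]; exact key b a d c (Ne.symm hab) (Ne.symm hcd) hac _ _
  rw [R.uu_ne hab, R.uu_ne hcd]
  exact R.long a b c d hab hcd (Ne.symm hac) (Ne.symm hbc) (Ne.symm had) (Ne.symm hbd) _ _

end Pre

end CfsgLib.Known.DBounded
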