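import Cfsg.Agent.Lib.Known.DBounded.Check
import Cfsg.Agent.Lib.Known.SpBounded.Pres
import Cfsg.Agent.Lib.Classical.Quad.SiegelMatrix
import Cfsg.Agent.Lib.Classical.Quad.StandardForms

/-!
# `Ω⁺` from `SL n`, one more element and a few relations
-/

set_option autoImplicit false

namespace CfsgLib.Known.DBounded

open Matrix (SpecialLinearGroup)
open CfsgLib.Known.ClassicalSections (levi)
open CfsgLib.Known.SpBounded (tA xp wS cw cw_eq map_cw)

variable {F : Type*} [Field F] {k : ℕ}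

/-- letters -/
abbrev Ltr (F : Type*) [Field F] (k : ℕ) := SpecialLinearGroup (Fin (k + 4)) F ⊕ Unit

/-- a letter of the group -/
def lP (A : SpecialLinearGroup (Fin (k + 4)) F) : FreeGroup (Ltr F k) := FreeGroup.of (Sum.inl A)

/-- the extra letter -/
def lr : FreeGroup (Ltr F k) := FreeGroup.of (Sum.inr ())

/-- the word of the rank one group -/
def lφ (M : SpecialLinearGroup (Fin 2) F) : FreeGroup (Ltr F k) := lr * lP (b20 F k M) * lr⁻¹

/-- the words -/
noncomputable def glueRels (S : List (SpecialLinearGroup (Fin (k + 4)) F)) : List (FreeGroup (Ltr F k)) :=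
  S.map (fun c => cw lr (lP c)) ++
  [lr * lr * (lP (SpecialLinearGroup.diag2n n01 (-1) (neg_ne_zero.2 one_ne_zero)))⁻¹,
   lr * (lP (Pm F k) * lφ (wS F) * (lP (Pm F k))⁻¹)⁻¹,
   cw (lφ (xp 1)) (lP (tA n12 1)),
   cw (lφ (xp 1)) (lP (tA (n03 (k := k)).symm 1))]

theorem length_glueRels (S : List (SpecialLinearGroup (Fin (k + 4)) F)) : (glueRels S).length = S.length + 4 := by
  simp [glueRels]

theorem lift_lP {G : Type*} [Group G] (ψ : SpecialLinearGroup (Fin (k + 4)) F →* G) (r : G)
    (A : SpecialLinearGroup (Fin (k + 4)) F) : FreeGroup.lift (Sum.elim ψ fun _ => r) (lP A) = ψ A :=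
  FreeGroup.lift_apply_of

theorem lift_lr {G : Type*} [Group G] (ψ : SpecialLinearGroup (Fin (k + 4)) F →* G) (r : G) :
    FreeGroup.lift (Sum.elim ψ fun _ => r) (lr : FreeGroup (Ltr F k)) = r :=
  FreeGroup.lift_apply_of

theorem lift_lφ {G : Type*} [Group G] (ψ : SpecialLinearGroup (Fin (k + 4)) F →* G) (r : G)
    (M : SpecialLinearGroup (Fin 2) F) : FreeGroup.lift (Sum.elim ψ fun _ => r) (lφ M) = phiOf ψ r M := by
  rw [lφ, map_mul, map_mul, map_inv, lift_lP, lift_lr, phiOf_apply]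

theorem glue_of_rels {G : Type*} [Group G] (ψ : SpecialLinearGroup (Fin (k + 4)) F →* G) (r : G)
    {S : List (SpecialLinearGroup (Fin (k + 4)) F)}
    (hS : ∀ A B, b01 F k A * bR F k B ∈ Subgroup.closure {c | c ∈ S})
    (h : ∀ w ∈ glueRels S, FreeGroup.lift (Sum.elim ψ fun _ => r) w = 1) :
    ∃ D : Glue F k G, D.ψ = ψ ∧ D.r = r := by
  simp only [glueRels, List.forall_mem_append, List.forall_mem_map, List.forall_mem_cons, List.not_mem_nil,
    false_imp_iff, implies_true, map_cw, cw_eq, map_mul, map_inv, mul_inv_eq_one, lift_lP, lift_lr, lift_lφ,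
    and_true] at h
  obtain ⟨hb, hs, hbr, h2, h3⟩ := h
  refine ⟨{ ψ := ψ, r := r, blk := fun A B => ?_, sq := hs, braid := hbr, c2 := h2, c3 := h3 }, rfl, rfl⟩
  have hle : Subgroup.closure {c | c ∈ S} ≤ (Subgroup.centralizer {r}).comap ψ :=
    (Subgroup.closure_le _).2 fun c hc => Subgroup.mem_centralizer_singleton_iff.2 (hb c hc).eq.symm
  exact (Subgroup.mem_centralizer_singleton_iff.1 (hle (hS A B))).symm

theorem rels_model {S : List (SpecialLinearGroup (Fin (k + 4)) F)}
    (hS : ∀ c ∈ S, ∃ A B, c = b01 F k A * bR F k B) :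
    ∀ w ∈ glueRels S, FreeGroup.lift (Sum.elim (glueD F k).ψ fun _ => (glueD F k).r) w = 1 := by
  simp only [glueRels, List.forall_mem_append, List.forall_mem_map, List.forall_mem_cons, List.not_mem_nil,
    false_imp_iff, implies_true, map_cw, cw_eq, map_mul, map_inv, mul_inv_eq_one, lift_lP, lift_lr, lift_lφ,
    and_true]
  refine ⟨fun c hc => ?_, (glueD F k).sq, (glueD F k).braid, (glueD F k).c2, (glueD F k).c3⟩
  obtain ⟨A, B, rfl⟩ := hS c hc
  exact (glueD F k).blk A B

namespace Glue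

variable [Finite F] {G : Type*} [Group G] (D : Glue F k G)

theorem map_ph {θ : G →* (Matrix (Fin (k + 4) ⊕ Fin (k + 4)) (Fin (k + 4) ⊕ Fin (k + 4)) F)ˣ}
    (hψ : ∀ A, θ (D.ψ A) = lu F (k + 4) A) (hr : θ D.r = du 0 1 (wS F)) {i j : Fin (k + 4)} (h : i ≠ j)
    (M : SpecialLinearGroup (Fin 2) F) : θ (D.ph i j M) = du i j M := by
  obtain ⟨A, h1, h2⟩ := exists_move2 (F := F) h
  rw [← D.ph_eq h1 h2, map_mul, map_mul, map_inv, hψ, D.φ_apply, map_mul, map_mul, map_inv, hψ, hr,
    ← phiOf_apply, phiOf_model, mul_inv_eq_iff_eq_mul]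
  exact Units.ext (levi_conj_d2 h1 h2 n12 M)

theorem commutator_top (hgen : D.toPre.gen = ⊤) : commutator G = ⊤ := by
  have hψ : ∀ A, D.ψ A ∈ commutator G := fun A => by
    have hA : A ∈ commutator (SpecialLinearGroup (Fin (k + 4)) F) := by
      rw [CfsgLib.Classical.commutator_SL_eq_top (by omega)]; exact Subgroup.mem_top A
    have hm : (commutator (SpecialLinearGroup (Fin (k + 4)) F)).map D.ψ ≤ commutator G := by
      rw [commutator_def, commutator_def, Subgroup.map_commutator]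
      exact Subgroup.commutator_mono le_top le_top
    exact hm ⟨A, hA, rfl⟩
  have hn : ∀ {x : G}, x ∈ commutator G → ∀ g : G, g * x * g⁻¹ ∈ commutator G := fun {x} hx g =>
    Subgroup.Normal.conj_mem inferInstance x hx g
  have hφ : ∀ M, D.φ M ∈ commutator G := fun M => by
    rw [D.φ_apply]; exact hn (hψ _) _
  rw [eq_top_iff, ← hgen]
  refine (Subgroup.closure_le _).2 ?_
  rintro x (⟨A, rfl⟩ | hx)
  · exact hψ A
  · obtain ⟨⟨⟨i, j⟩, hij⟩, M, rfl⟩ := Set.mem_iUnion.1 hx
    obtain ⟨A, h1, h2⟩ := exists_move2 (F := F) hij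
    show D.ph i j M ∈ commutator G
    rw [← D.ph_eq h1 h2]
    exact hn (hφ M) _

/-- the group is `Ω⁺` -/
theorem nonempty_equiv (hgen : D.toPre.gen = ⊤)
    {θ : G →* (Matrix (Fin (k + 4) ⊕ Fin (k + 4)) (Fin (k + 4) ⊕ Fin (k + 4)) F)ˣ}
    (hψ : ∀ A, θ (D.ψ A) = lu F (k + 4) A) (hr : θ D.r = du 0 1 (wS F)) :
    Nonempty (G ≃* ↥(Cfsg.Omega F (Cfsg.quadFormPlus (k + 4) F))) := by
  let θm : G →* Matrix (Fin (k + 2 + 2) ⊕ Fin (k + 2 + 2)) (Fin (k + 2 + 2) ⊕ Fin (k + 2 + 2)) F :=
    (Units.coeHom _).comp θ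
  have hrep : Pre.Rep D.toPre θm :=
    { hψ := fun A => congrArg Units.val (hψ A)
      hφ := fun i j h M => congrArg Units.val (D.map_ph hψ hr h M) }
  have hiso : ∀ g, θ g ∈ Cfsg.isometryGroup F (Cfsg.quadFormPlus (k + 4) F) := fun g u _ =>
    Pre.θ_iso (k := k + 2) hrep (hgen ▸ Subgroup.mem_top g) u
  let θ' : G →* Cfsg.isometryGroup F (Cfsg.quadFormPlus (k + 4) F) := θ.codRestrict _ hiso
  have hinj : Function.Injective θ' := (injective_iff_map_eq_one θ').2 fun g hg => by
    refine Pre.eq_one (m := k + 4) (by omega) hrep g (hgen ▸ Subgroup.mem_top g) ?_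
    have h1 : θ g = 1 := congrArg Subtype.val hg
    exact congrArg Units.val h1
  have hrange : θ'.range = Cfsg.Omega F (Cfsg.quadFormPlus (k + 4) F) := by
    refine le_antisymm ?_ ?_
    · rw [MonoidHom.range_eq_map, ← D.commutator_top hgen, Cfsg.Omega, commutator_def, commutator_def,
        Subgroup.map_commutator]
      exact Subgroup.commutator_mono le_top le_top
    · have hO := CfsgLib.Classical.Quad.Omega_eq_closure_siegel
        (Q := CfsgLib.Classical.Quad.qPlus (k + 4) F) (CfsgLib.Classical.Quad.qPlus_nondeg (k + 4))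
        (by simp; omega)
      generalize hQe : ⇑(CfsgLib.Classical.Quad.qPlus (k + 4) F) = Q0 at hO
      rw [CfsgLib.Classical.Quad.coe_qPlus] at hQe
      subst hQe
      rw [hO]
      refine (Subgroup.closure_le _).2 ?_
      rintro g ⟨u, v, c, hu, hv, huv, hg⟩
      obtain ⟨x, -, hx⟩ := Pre.siegel_mem (k := k + 2) hrep hu hv huv c
      exact ⟨x, Subtype.ext (Units.ext (hx.trans hg.symm))⟩
  exact ⟨(MonoidHom.ofInjective hinj).trans (MulEquiv.subgroupCongr hrange)⟩

end Glue

/-- adding one generator and a few relations to a presentation of `SL n` -/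
theorem exists_pres [Finite F] {α : Type} (R1 : Finset (FreeGroup α))
    (e1 : PresentedGroup (↑R1 : Set (FreeGroup α)) ≃* SpecialLinearGroup (Fin (k + 4)) F)
    (S : List (SpecialLinearGroup (Fin (k + 4)) F)) (hS : ∀ A B, b01 F k A * bR F k B ∈ Subgroup.closure {c | c ∈ S})
    (hS' : ∀ c ∈ S, ∃ A B, c = b01 F k A * bR F k B) :
    ∃ rels : Finset (FreeGroup (α ⊕ Unit)), rels.card ≤ R1.card + (S.length + 4) ∧
      Nonempty (PresentedGroup (↑rels : Set (FreeGroup (α ⊕ Unit))) ≃*
        ↥(Cfsg.Omega F (Cfsg.quadFormPlus (k + 4) F))) := by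
  classical
  let S1 := (glueD F k).ψ
  let r1 := (glueD F k).r
  choose v hv using fun A : SpecialLinearGroup (Fin (k + 4)) F =>
    (e1.surjective.comp (PresentedGroup.mk_surjective (↑R1 : Set (FreeGroup α)))) A
  let V : Ltr F k → FreeGroup (α ⊕ Unit) :=
    Sum.elim (fun A => FreeGroup.map Sum.inl (v A)) (fun _ => FreeGroup.of (Sum.inr ()))
  let R : Finset (FreeGroup (α ⊕ Unit)) :=
    R1.image (FreeGroup.map Sum.inl) ∪ ((glueRels S).map (FreeGroup.lift V)).toFinset
  let t : α ⊕ Unit → (Matrix (Fin (k + 4) ⊕ Fin (k + 4)) (Fin (k + 4) ⊕ Fin (k + 4)) F)ˣ :=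
    Sum.elim (fun i => S1 (e1 (PresentedGroup.of i))) (fun _ => r1)
  have htl : (FreeGroup.lift t).comp (FreeGroup.map Sum.inl) =
      (S1.comp e1.toMonoidHom).comp (PresentedGroup.mk _) :=
    FreeGroup.ext_hom _ _ fun i => by simp [t, PresentedGroup.of]
  have htV : (FreeGroup.lift t).comp (FreeGroup.lift V) = FreeGroup.lift (Sum.elim S1 fun _ => r1) :=
    FreeGroup.ext_hom _ _ fun x => by
      rw [MonoidHom.comp_apply, FreeGroup.lift_apply_of, FreeGroup.lift_apply_of]
      rcases x with A | u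
      · exact (DFunLike.congr_fun htl (v A)).trans (congrArg S1 (hv A))
      · exact FreeGroup.lift_apply_of
  have hR : ∀ r ∈ (↑R : Set (FreeGroup (α ⊕ Unit))), FreeGroup.lift t r = 1 := by
    intro r hr
    rcases Finset.mem_union.1 (Finset.mem_coe.1 hr) with hr | hr
    · obtain ⟨x, hx, rfl⟩ := Finset.mem_image.1 hr
      rw [← MonoidHom.comp_apply, htl, MonoidHom.comp_apply, PresentedGroup.one_of_mem (Finset.mem_coe.2 hx),
        map_one]
    · obtain ⟨x, hx, rfl⟩ := List.mem_map.1 (List.mem_toFinset.1 hr)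
      rw [← MonoidHom.comp_apply, htV]
      exact rels_model hS' x hx
  let θ := PresentedGroup.toGroup hR
  let mk := PresentedGroup.mk (↑R : Set (FreeGroup (α ⊕ Unit)))
  have hl : ∀ x ∈ (↑R1 : Set (FreeGroup α)), FreeGroup.lift (fun i => mk (FreeGroup.of (Sum.inl i))) x = 1 := by
    intro x hx
    rw [show FreeGroup.lift (fun i => mk (FreeGroup.of (Sum.inl i))) = mk.comp (FreeGroup.map Sum.inl) from
      FreeGroup.ext_hom _ _ fun i => by simp, MonoidHom.comp_apply]
    exact PresentedGroup.one_of_mem (Finset.mem_coe.2 (Finset.mem_union_left _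
      (Finset.mem_image_of_mem _ (Finset.mem_coe.1 hx))))
  let ψ := (PresentedGroup.toGroup hl).comp e1.symm.toMonoidHom
  let r := mk (FreeGroup.of (Sum.inr ()))
  have hψV : ∀ A, mk (FreeGroup.map Sum.inl (v A)) = ψ A := fun A => by
    show _ = PresentedGroup.toGroup hl (e1.symm A)
    conv_rhs => rw [← hv A, Function.comp_apply, e1.symm_apply_apply]
    exact DFunLike.congr_fun (FreeGroup.ext_hom (mk.comp (FreeGroup.map Sum.inl))
      ((PresentedGroup.toGroup hl).comp (PresentedGroup.mk _)) fun i => by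
        simp only [MonoidHom.comp_apply, FreeGroup.map.of]; exact (PresentedGroup.toGroup.of hl).symm) (v A)
  have hmkV : mk.comp (FreeGroup.lift V) = FreeGroup.lift (Sum.elim ψ fun _ => r) :=
    FreeGroup.ext_hom _ _ fun x => by
      rw [MonoidHom.comp_apply, FreeGroup.lift_apply_of, FreeGroup.lift_apply_of]
      rcases x with A | u
      · exact hψV A
      · rfl
  have hrel : ∀ w ∈ glueRels S, FreeGroup.lift (Sum.elim ψ fun _ => r) w = 1 := fun w hw => by
    rw [← hmkV]
    exact PresentedGroup.one_of_mem (Finset.mem_coe.2 (Finset.mem_union_right _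
      (List.mem_toFinset.2 (List.mem_map_of_mem hw))))
  obtain ⟨D, hDψ, hDr⟩ := glue_of_rels ψ r hS hrel
  have hθψ : ∀ A, θ (ψ A) = S1 A := fun A => by
    rw [← hψV]
    exact (DFunLike.congr_fun htl (v A)).trans (congrArg S1 (hv A))
  have hθr : θ r = r1 := PresentedGroup.toGroup.of hR
  have hgen : D.toPre.gen = ⊤ := by
    rw [eq_top_iff, ← PresentedGroup.closure_range_of (↑R : Set (FreeGroup (α ⊕ Unit))), Subgroup.closure_le]
    rintro _ ⟨i | u, rfl⟩
    · have h1 : ψ (e1 (PresentedGroup.of i)) = PresentedGroup.of (Sum.inl i) := by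
        show PresentedGroup.toGroup hl (e1.symm (e1 _)) = _
        rw [e1.symm_apply_apply, PresentedGroup.toGroup.of]
        rfl
      rw [← h1, ← hDψ]
      exact D.toPre.ψ_mem_gen _
    · show r ∈ D.toPre.gen
      rw [← hDr]
      exact D.r_mem_gen
  refine ⟨R, ?_, D.nonempty_equiv hgen (θ := θ) (fun A => by rw [hDψ, hθψ]; rfl) (by rw [hDr, hθr]; rfl)⟩
  exact (Finset.card_union_le _ _).trans (add_le_add Finset.card_image_le
    ((List.toFinset_card_le _).trans (by rw [List.length_map, length_glueRels])))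

end CfsgLib.Known.DBounded
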