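import Cfsg.Agent.Lib.Known.DBounded.Pre

/-!
# The abelian group of alternating matrices and the action of `SL m` on it
-/

set_option autoImplicit false

namespace CfsgLib.Known.DBounded

open Matrix (SpecialLinearGroup)
open CfsgLib.Known.SpBounded (iot tA)

variable {F : Type*} [Field F] {m : ℕ}

/-- an alternating elementary matrix -/
def Am (i j : Fin m) (t : F) : Matrix (Fin m) (Fin m) F := Matrix.single i j t - Matrix.single j i t

theorem Am_anti (i j : Fin m) (t : F) : Am j i t = Am i j (-t) := by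
  ext a b
  simp only [Am, Matrix.sub_apply, Matrix.single, Matrix.of_apply]
  split_ifs <;> ring

theorem Am_self (i : Fin m) (t : F) : Am i i t = 0 := sub_self _

theorem Am_apply {i j : Fin m} (h : i ≠ j) (t : F) (a b : Fin m) :
    Am i j t a b = if a = i ∧ b = j then t else if a = j ∧ b = i then -t else 0 := by
  simp only [Am, Matrix.sub_apply, Matrix.single, Matrix.of_apply]
  by_cases h1 : a = i ∧ b = j
  · obtain ⟨rfl, rfl⟩ := h1; simp [Ne.symm h]
  · by_cases h2 : a = j ∧ b = i
    · obtain ⟨rfl, rfl⟩ := h2; simp [h]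
    · rw [if_neg, if_neg, if_neg h1, if_neg h2, sub_zero] <;> tauto

/-- alternating matrices -/
def IsAlt (M : Matrix (Fin m) (Fin m) F) : Prop := M.transpose = -M ∧ ∀ i, M i i = 0

theorem Am_alt (i j : Fin m) (t : F) : IsAlt (Am i j t) := by
  constructor
  · simp [Am, Matrix.transpose_sub, Matrix.transpose_single]
  · intro a
    simp only [Am, Matrix.sub_apply, Matrix.single, Matrix.of_apply]
    split_ifs with h1 h2 h2
    · exact sub_self t
    · exact absurd ⟨h1.2, h1.1⟩ h2
    · exact absurd ⟨h2.2, h2.1⟩ h1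
    · exact sub_zero 0

theorem IsAlt.zero : IsAlt (0 : Matrix (Fin m) (Fin m) F) := ⟨by simp, fun _ => rfl⟩

theorem IsAlt.add {M N : Matrix (Fin m) (Fin m) F} (hM : IsAlt M) (hN : IsAlt N) : IsAlt (M + N) :=
  ⟨by rw [Matrix.transpose_add, hM.1, hN.1]; abel, fun i => by simp [hM.2 i, hN.2 i]⟩

theorem IsAlt.neg {M : Matrix (Fin m) (Fin m) F} (hM : IsAlt M) : IsAlt (-M) :=
  ⟨by rw [Matrix.transpose_neg, hM.1], fun i => by simp [hM.2 i]⟩

theorem IsAlt.apply {M : Matrix (Fin m) (Fin m) F} (hM : IsAlt M) (i j : Fin m) : M j i = -M i j :=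
  congrFun (congrFun hM.1 i) j

theorem IsAlt.eq_sum {M : Matrix (Fin m) (Fin m) F} (hM : IsAlt M) :
    M = ∑ p : Fin m × Fin m, if p.1 < p.2 then Am p.1 p.2 (M p.1 p.2) else 0 := by
  ext a b
  rw [Matrix.sum_apply]
  rcases lt_trichotomy a b with h | h | h
  · rw [Finset.sum_eq_single (a, b)]
    · simp [h, Am_apply h.ne]
    · intro p _ hp
      by_cases hp' : p.1 < p.2
      · rw [if_pos hp', Am_apply hp'.ne, if_neg (fun e => hp (Prod.ext e.1.symm e.2.symm)), if_neg]
        rintro ⟨rfl, rfl⟩
        exact lt_asymm h hp'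
      · simp [hp']
    · simp
  · subst h
    rw [hM.2 a, Finset.sum_eq_zero]
    intro p _
    by_cases hp' : p.1 < p.2
    · rw [if_pos hp', (Am_alt _ _ _).2]
    · simp [hp']
  · rw [Finset.sum_eq_single (b, a)]
    · simp [h, Am_apply h.ne, h.ne']
      exact hM.apply b a
    · intro p _ hp
      by_cases hp' : p.1 < p.2
      · rw [if_pos hp', Am_apply hp'.ne, if_neg, if_neg (fun e => hp (Prod.ext e.2.symm e.1.symm))]
        rintro ⟨rfl, rfl⟩
        exact lt_asymm h hp'
      · simp [hp']
    · simp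

/-- alternating matrices are sums of elementary ones -/
theorem alt_induction {P : Matrix (Fin m) (Fin m) F → Prop} (h0 : P 0)
    (hadd : ∀ M N, IsAlt M → IsAlt N → P M → P N → P (M + N)) (hA : ∀ i j, i ≠ j → ∀ t, P (Am i j t))
    {M : Matrix (Fin m) (Fin m) F} (hM : IsAlt M) : P M := by
  rw [hM.eq_sum]
  refine (Finset.sum_induction _ (fun M => IsAlt M ∧ P M)
    (fun A B ha hb => ⟨ha.1.add hb.1, hadd _ _ ha.1 hb.1 ha.2 hb.2⟩) ⟨IsAlt.zero, h0⟩ fun p _ => ?_).2
  split
  · rename_i h
    exact ⟨Am_alt _ _ _, hA _ _ h.ne _⟩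
  · exact ⟨IsAlt.zero, h0⟩

theorem IsAlt.conj {M : Matrix (Fin m) (Fin m) F} (hM : IsAlt M) (B : Matrix (Fin m) (Fin m) F) :
    IsAlt (B * M * B.transpose) := by
  refine alt_induction (P := fun M => IsAlt (B * M * B.transpose)) ?_ ?_ (fun i j h t => ?_) hM
  · simp [IsAlt.zero]
  · intro A C _ _ ha hc
    rw [Matrix.mul_add, Matrix.add_mul]
    exact ha.add hc
  · have e : ∀ i j : Fin m, B * Matrix.single i j t * B.transpose =
        Matrix.vecMulVec (fun a => B a i * t) (fun b => B b j) := fun i j => by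
      ext a b
      simp [Matrix.mul_apply, Matrix.single, Matrix.vecMulVec_apply, ite_and]
    rw [Am, Matrix.mul_sub, Matrix.sub_mul, e, e]
    constructor
    · ext a b; simp [Matrix.vecMulVec_apply]; ring
    · intro a; simp [Matrix.vecMulVec_apply]; ring

namespace Pre

variable {G : Type*} [Group G] (R : Pre F m G)

/-- one factor -/
noncomputable def upair (p : Fin m × Fin m) : Multiplicative F →* G where
  toFun t := if p.1 < p.2 then R.uu p.1 p.2 t.toAdd else 1
  map_one' := by split_ifs; exacts [R.uu_zero _ _, rfl]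
  map_mul' t u := by split_ifs; exacts [(R.uu_add _ _ _ _).symm, (mul_one _).symm]

theorem upair_comm : Pairwise fun p q => ∀ t u, Commute (R.upair p t) (R.upair q u) := by
  intro p q _ t u
  show Commute (if p.1 < p.2 then R.uu p.1 p.2 t.toAdd else 1) (if q.1 < q.2 then R.uu q.1 q.2 u.toAdd else 1)
  split_ifs
  exacts [R.comm_uu _ _ _ _ _ _, Commute.one_right _, Commute.one_left _, Commute.one_left _]

/-- the element of an alternating matrix -/
noncomputable def U (M : Matrix (Fin m) (Fin m) F) : G :=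
  MonoidHom.noncommPiCoprod R.upair R.upair_comm fun p => Multiplicative.ofAdd (M p.1 p.2)

theorem U_add (M N : Matrix (Fin m) (Fin m) F) : R.U (M + N) = R.U M * R.U N := by
  rw [U, U, U, ← map_mul]
  rfl

theorem U_zero : R.U 0 = 1 := by
  have := R.U_add 0 0
  rw [add_zero] at this
  exact left_eq_mul.1 this

theorem U_neg (M : Matrix (Fin m) (Fin m) F) : R.U (-M) = (R.U M)⁻¹ :=
  eq_inv_of_mul_eq_one_left (by rw [← R.U_add, neg_add_cancel, R.U_zero])

theorem U_comm (M N : Matrix (Fin m) (Fin m) F) : Commute (R.U M) (R.U N) := by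
  rw [commute_iff_eq, ← R.U_add, ← R.U_add, add_comm]

theorem U_Am (i j : Fin m) (t : F) : R.U (Am i j t) = R.uu i j t := by
  by_cases hij : i = j
  · subst hij; rw [Am_self, R.U_zero, R.uu_self]
  wlog h : i < j generalizing i j t
  · rw [Am_anti j i, R.uu_anti j i]
    exact this j i _ (Ne.symm hij) (lt_of_le_of_ne (le_of_not_gt h) (Ne.symm hij))
  rw [U, show (fun p : Fin m × Fin m => Multiplicative.ofAdd (Am i j t p.1 p.2)) =
    Pi.mulSingle (i, j) (Multiplicative.ofAdd t) * Function.update
      (1 : Fin m × Fin m → Multiplicative F) (j, i) (Multiplicative.ofAdd (-t)) from ?_, map_mul,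
    MonoidHom.noncommPiCoprod_mulSingle]
  · show (if i < j then R.uu i j t else 1) * _ = _
    rw [if_pos h, mul_eq_left]
    show MonoidHom.noncommPiCoprod R.upair R.upair_comm (Pi.mulSingle (j, i) _) = 1
    rw [MonoidHom.noncommPiCoprod_mulSingle]
    exact if_neg (lt_asymm h)
  · funext p
    rw [Am_apply hij, Pi.mul_apply]
    by_cases hp : p = (i, j)
    · subst hp; simp [hij, Prod.ext_iff]
    · by_cases hq : p = (j, i)
      · subst hq; simp [hij, Ne.symm hij, Prod.ext_iff]
      · have h1 : ¬(p.1 = i ∧ p.2 = j) := fun e => hp (Prod.ext e.1 e.2)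
        have h2 : ¬(p.1 = j ∧ p.2 = i) := fun e => hq (Prod.ext e.1 e.2)
        simp [h1, h2, hp, hq]

theorem conj_tr_Am {k l : Fin m} (hkl : k ≠ l) (s : F) {i j : Fin m} (hij : i ≠ j) (t : F) :
    R.ψ (tA hkl s) * R.uu i j t * (R.ψ (tA hkl s))⁻¹ =
      R.U ((tA hkl s : Matrix (Fin m) (Fin m) F) * Am i j t * (tA hkl s : Matrix (Fin m) (Fin m) F).transpose) := by
  have hco : (tA hkl s : Matrix (Fin m) (Fin m) F) = 1 + Matrix.single k l s := by
    rw [SpecialLinearGroup.transvection_coe]
  simp only [hco, Matrix.transpose_add, Matrix.transpose_one, Matrix.transpose_single, add_mul, mul_add, one_mul,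
    mul_one]
  have key : ∀ {i j : Fin m} (_ : i ≠ j) (t : F), l = i →
      R.ψ (tA hkl s) * R.uu i j t * (R.ψ (tA hkl s))⁻¹ =
        R.U (Am i j t + Matrix.single k l s * Am i j t +
          (Am i j t * Matrix.single l k s + Matrix.single k l s * Am i j t * Matrix.single l k s)) := by
    intro i j hij t hl
    subst hl
    by_cases hk : k = j
    · subst hk
      have e : Am l k t + Matrix.single k l s * Am l k t +
          (Am l k t * Matrix.single l k s + Matrix.single k l s * Am l k t * Matrix.single l k s) = Am l k t := by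
        simp [Am, mul_sub, sub_mul, hkl, hkl.symm, Matrix.single_mul_single_same, Matrix.single_mul_single_of_ne,
          mul_comm t s]
      rw [e, R.U_Am, (R.pair_uu hij s t).eq, mul_inv_cancel_right]
    · have e : Am l j t + Matrix.single k l s * Am l j t +
          (Am l j t * Matrix.single l k s + Matrix.single k l s * Am l j t * Matrix.single l k s) =
          Am l j t + Am k j (s * t) := by
        simp [Am, mul_sub, sub_mul, hk, hkl, hkl.symm, hij, Ne.symm hij, Matrix.single_mul_single_same,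
          Matrix.single_mul_single_of_ne, mul_comm t s]
        abel
      rw [e, R.U_add, R.U_Am, R.U_Am]
      exact R.move_uu hij hkl hk s t
  by_cases hi : l = i
  · exact key hij t hi
  by_cases hj : l = j
  · have := key (Ne.symm hij) (-t) hj
    rwa [Am_anti i j, R.uu_anti i j, neg_neg] at this
  · have e : Am i j t + Matrix.single k l s * Am i j t +
        (Am i j t * Matrix.single l k s + Matrix.single k l s * Am i j t * Matrix.single l k s) = Am i j t := by
      simp [Am, mul_sub, sub_mul, Matrix.single_mul_single_of_ne, hi, hj, Ne.symm hi, Ne.symm hj]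
    rw [e, R.U_Am, (R.fix_uu hkl hi hj s t).eq, mul_inv_cancel_right]

/-- `SL m` acts on alternating matrices by congruence -/
theorem conj_U (hm : 2 ≤ m) (A : SpecialLinearGroup (Fin m) F) {M : Matrix (Fin m) (Fin m) F} (hM : IsAlt M) :
    R.ψ A * R.U M * (R.ψ A)⁻¹ = R.U (A.1 * M * A.1.transpose) := by
  haveI : Nontrivial (Fin m) := Fin.nontrivial_iff_two_le.2 hm
  let H : Subgroup (SpecialLinearGroup (Fin m) F) :=
    { carrier := {A | ∀ M : Matrix (Fin m) (Fin m) F, IsAlt M →
        R.ψ A * R.U M * (R.ψ A)⁻¹ = R.U (A.1 * M * A.1.transpose)}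
      one_mem' := fun M _ => by simp
      mul_mem' := fun {A B} ha hb M hM => by
        rw [map_mul, show R.ψ A * R.ψ B * R.U M * (R.ψ A * R.ψ B)⁻¹ =
          R.ψ A * (R.ψ B * R.U M * (R.ψ B)⁻¹) * (R.ψ A)⁻¹ by group, hb M hM, ha _ (hM.conj _)]
        simp [Matrix.mul_assoc]
      inv_mem' := fun {A} ha M hM => by
        have h1 := ha _ (hM.conj (A⁻¹).1)
        have e : A.1 * (A⁻¹).1 = 1 := by
          rw [← Matrix.SpecialLinearGroup.coe_mul, mul_inv_cancel, Matrix.SpecialLinearGroup.coe_one]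
        have e' : A.1 * ((A⁻¹).1 * M * (A⁻¹).1.transpose) * A.1.transpose = M := by
          calc _ = (A.1 * (A⁻¹).1) * M * (A.1 * (A⁻¹).1).transpose := by
                simp [Matrix.transpose_mul, Matrix.mul_assoc]
            _ = M := by rw [e]; simp
        rw [e'] at h1
        rw [map_inv, ← h1]
        group }
  have hH : H = ⊤ := CfsgLib.Classical.closure_transvection_eq_top H fun k l hkl s => by
    show ∀ M : Matrix (Fin m) (Fin m) F, IsAlt M → _
    intro M hM
    refine alt_induction (P := fun M => R.ψ (tA hkl s) * R.U M * (R.ψ (tA hkl s))⁻¹ =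
      R.U ((tA hkl s).1 * M * (tA hkl s).1.transpose)) ?_ ?_ ?_ hM
    · simp [R.U_zero]
    · intro A B _ _ ha hb
      rw [R.U_add, Matrix.mul_add, Matrix.add_mul, R.U_add, ← ha, ← hb]
      group
    · intro i j hij t
      rw [R.U_Am]
      exact R.conj_tr_Am hkl s hij t
  exact (show A ∈ H from hH ▸ Subgroup.mem_top A) M hM

/-- the lower triangular elements -/
noncomputable def V (M : Matrix (Fin m) (Fin m) F) : G := R.flip.U M

theorem conj_V (hm : 2 ≤ m) (A : SpecialLinearGroup (Fin m) F) {M : Matrix (Fin m) (Fin m) F} (hM : IsAlt M) :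
    R.ψ A * R.V M * (R.ψ A)⁻¹ = R.V ((iot (Fin m) F A).1 * M * (iot (Fin m) F A).1.transpose) := by
  have h := R.flip.conj_U hm (iot (Fin m) F A) hM
  simp only [Pre.flip, MonoidHom.comp_apply, SpBounded.iot_iot] at h
  exact h

theorem V_add (M N : Matrix (Fin m) (Fin m) F) : R.V (M + N) = R.V M * R.V N := R.flip.U_add M N
theorem V_zero : R.V 0 = 1 := R.flip.U_zero
theorem V_neg (M : Matrix (Fin m) (Fin m) F) : R.V (-M) = (R.V M)⁻¹ := R.flip.U_neg M
theorem V_Am (i j : Fin m) (t : F) : R.V (Am i j t) = R.flip.uu i j t := R.flip.U_Am i j t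

theorem V_ne {i j : Fin m} (h : i ≠ j) (t : F) : R.V (Am i j t) = R.φ i j (SpBounded.xm t) := by
  rw [V_Am, uu_ne _ h]
  simp [Pre.flip, SpBounded.mu_xp]

theorem U_ne {i j : Fin m} (h : i ≠ j) (t : F) : R.U (Am i j t) = R.φ i j (SpBounded.xp t) := by
  rw [U_Am, uu_ne _ h]

end Pre

end CfsgLib.Known.DBounded
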